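import Mathlib
import Cfsg.Agent.Lib.Blocks.HallHigman

/-!
In a `p`-solvable group without normal `p`-subgroup, `O_{p'}` contains its centralizer.
-/

set_option autoImplicit false
set_option linter.unusedSectionVars false

universe u

namespace CfsgLib.Offender

open Cfsg

variable {G : Type u} [Group G] [Finite G] {p : ℕ} [Fact p.Prime]

theorem centralizer_pPrimeCore_le (h : IsPSolvable p G) (hO : pCore p G = ⊥) :
    Subgroup.centralizer (pPrimeCore p G : Set G) ≤ pPrimeCore p G := by
  classical
  haveI : (pPrimeCore p G).Normal := inferInstance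
  set K := pPrimeCore p G with hK
  set C := Subgroup.centralizer (K : Set G) with hC
  obtain ⟨n, H, h0, h1, hm, hn, hf⟩ := h
  suffices key : ∀ i : Fin (n + 1), H i ⊓ C ≤ K by
    intro x hx
    exact key (Fin.last n) ⟨by rw [h1]; trivial, hx⟩
  intro i
  induction i using Fin.induction with
  | zero => rw [h0, bot_inf_eq]; exact bot_le
  | succ i ih =>
    set A := H i.succ ⊓ C with hA
    haveI := hn i.succ
    haveI := hn i.castSucc
    haveI : A.Normal := Subgroup.normal_inf_normal _ _
    have hd : (H i.castSucc ⊓ C).relIndex A ∣ (H i.castSucc).relIndex (H i.succ) := by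
      have hAC : A ≤ C := inf_le_right
      rw [← Subgroup.inf_relIndex_right (H i.castSucc ⊓ C), inf_assoc, inf_eq_right.2 hAC,
        Subgroup.inf_relIndex_right,
        ← Subgroup.relIndex_subgroupOf (H := H i.castSucc) (inf_le_left : A ≤ H i.succ)]
      exact Subgroup.relIndex_dvd_index_of_normal _ _
    set B := H i.castSucc ⊓ C with hB
    have hBA : B ≤ A := inf_le_inf_right C (hm (Fin.castSucc_le_succ i))
    have hBcard : (Nat.card (B.subgroupOf A)).Coprime p := by
      rw [Nat.card_congr (Subgroup.subgroupOfEquivOfLe hBA).toEquiv]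
      exact (CfsgLib.card_pPrimeCore_coprime p (G := G)).coprime_dvd_left (Subgroup.card_dvd_of_le ih)
    have hBc : ∀ b ∈ B, ∀ x ∈ A, b * x = x * b := fun b hb x hx => hx.2 b (ih hb)
    rcases hf i with ⟨m, hm'⟩ | hc
    swap
    · refine CfsgLib.le_pPrimeCore ?_
      rw [← Subgroup.card_mul_index (B.subgroupOf A)]
      exact Nat.Coprime.mul_left hBcard (Nat.Coprime.coprime_dvd_left hd hc)
    obtain ⟨j, -, hj⟩ := (Nat.dvd_prime_pow (Fact.out : p.Prime)).1 (hm' ▸ hd)
    have hidx : (B.subgroupOf A).index = p ^ j := hj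
    have hcop : (Nat.card (B.subgroupOf A)).Coprime (B.subgroupOf A).index := by
      rw [hidx]; exact hBcard.pow_right j
    haveI : (B.subgroupOf A).Normal := ⟨fun b hb x => by
      rw [Subgroup.mem_subgroupOf] at hb ⊢
      have := hBc _ hb _ x.2
      simp only [Subgroup.coe_mul, Subgroup.coe_inv]
      rwa [← this, mul_inv_cancel_right]⟩
    obtain ⟨T, hT⟩ := Subgroup.exists_right_complement'_of_coprime hcop
    have hTc : Nat.card T = p ^ j := by
      rw [← hidx, Subgroup.IsComplement'.index_eq_card hT.symm]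
    have hmem : ∀ x : A, x ^ p ^ j = 1 → x ∈ T := by
      intro x hx
      obtain ⟨⟨b, t⟩, hbt⟩ := hT.2 x
      simp only at hbt
      have hcom : Commute (b : A) (t : A) :=
        Subtype.ext (hBc _ (Subgroup.mem_subgroupOf.1 b.2) _ (t : A).2)
      have h3 : (b : A) ^ p ^ j * (t : A) ^ p ^ j = 1 := by rw [← hcom.mul_pow, hbt, hx]
      have ht : (t : A) ^ p ^ j = 1 :=
        orderOf_dvd_iff_pow_eq_one.1 (hTc ▸ Subgroup.orderOf_dvd_natCard T t.2)
      rw [ht, mul_one] at h3
      have h5 : (b : A) = 1 := orderOf_eq_one_iff.1 (Nat.eq_one_of_dvd_coprimes (hBcard.pow_right j)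
        (Subgroup.orderOf_dvd_natCard _ b.2) (orderOf_dvd_of_pow_eq_one h3))
      rw [← hbt, h5, one_mul]; exact t.2
    haveI hTn : (T.map A.subtype).Normal := ⟨by
      rintro _ ⟨t, ht, rfl⟩ g
      refine ⟨⟨g * t * g⁻¹, (‹A.Normal›).conj_mem _ t.2 g⟩, hmem _ (Subtype.ext ?_), rfl⟩
      have h7 : t ^ p ^ j = 1 := orderOf_dvd_iff_pow_eq_one.1 (hTc ▸ Subgroup.orderOf_dvd_natCard T ht)
      have h6 : (t : G) ^ p ^ j = 1 := by
        simpa using congrArg Subtype.val h7
      simp [conj_pow, h6]⟩
    have hT1 : T.map A.subtype ≤ pCore p G := CfsgLib.le_pCore ((IsPGroup.of_card hTc).map _)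
    rw [hO, le_bot_iff, Subgroup.map_eq_bot_iff_of_injective _ A.subtype_injective] at hT1
    intro x hx
    obtain ⟨⟨b, t⟩, hbt⟩ := hT.2 ⟨x, hx⟩
    have ht : (t : A) = 1 := by
      have := t.2
      simp only [hT1] at this
      exact this
    simp only [ht, mul_one] at hbt
    have := Subgroup.mem_subgroupOf.1 b.2
    rw [hbt] at this
    exact ih this

theorem isPSolvable_transport {H : Type*} [Group H] (e : G ≃* H) (h : IsPSolvable p G) : IsPSolvable p H := by
  obtain ⟨n, F, h0, h1, hm, hn, hf⟩ := h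
  refine ⟨n, fun i => (F i).map e.toMonoidHom, by simp [h0], ?_, fun i j hij => Subgroup.map_mono (hm hij),
    fun i => (hn i).map _ e.surjective, fun i => ?_⟩
  · show (F (Fin.last n)).map e.toMonoidHom = ⊤
    rw [h1]
    exact Subgroup.map_top_of_surjective _ e.surjective
  · rw [Subgroup.relIndex_map_map_of_injective _ _ e.injective]
    exact hf i

end CfsgLib.Offender
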