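import Mathlib
import Cfsg.Prelude.Def_PLocal
import Cfsg.Prelude.Def_Transfer
import Cfsg.Agent.Lib.CoprimeGen
import Cfsg.Agent.Lib.Blocks.FongLocal

/-!
Elementary abelian groups acting faithfully on a `p'`-group inside a linear group in characteristic `p`:
`|A| |C_V(A)| ≤ |V|`, and the consequences for best offenders.
-/

set_option autoImplicit false
set_option linter.unusedSectionVars false

universe u

namespace CfsgLib.Offender

open Cfsg
open scoped commutatorElement Pointwise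

variable {G : Type u} [Group G] [Finite G] {p : ℕ} [Fact p.Prime]

/-- A linear group `H` on `V` with a normal `p'`-subgroup `K` containing its centralizer. -/
structure Setup (p : ℕ) (V H K : Subgroup G) : Prop where
  elem : IsElementaryAbelian p V
  normV : H ≤ Subgroup.normalizer (V : Set G)
  faith : H ⊓ Subgroup.centralizer (V : Set G) = ⊥
  KH : K ≤ H
  normK : H ≤ Subgroup.normalizer (K : Set G)
  cop : (Nat.card K).Coprime p
  cK : H ⊓ Subgroup.centralizer (K : Set G) ≤ K

theorem setup_of_hyp {V H : Subgroup G} (hV : IsElementaryAbelian p V) (hHV : H ≤ Subgroup.normalizer (V : Set G))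
    (hf : H ⊓ Subgroup.centralizer (V : Set G) = ⊥)
    (hS1 : Subgroup.centralizer (pPrimeCore p ↥H : Set ↥H) ≤ pPrimeCore p ↥H) :
    Setup p V H ((pPrimeCore p ↥H).map H.subtype) := by
  refine ⟨hV, hHV, hf, Subgroup.map_subtype_le _, ?_, ?_, ?_⟩
  · intro h hh
    have h1 := (CfsgLib.le_normalizer_map_characteristic (A := Subgroup.normalizer (H : Set G)) (K := H) le_rfl
      (pPrimeCore p ↥H)).2
    exact h1 hh
  · rw [Subgroup.card_map_of_injective H.subtype_injective]
    exact CfsgLib.card_pPrimeCore_coprime p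
  · rintro x ⟨hxH, hxC⟩
    refine ⟨⟨x, hxH⟩, hS1 ?_, rfl⟩
    intro k hk
    exact Subtype.ext (hxC (k : G) ⟨k, hk, rfl⟩)

theorem card_eq_pow {A : Subgroup G} (hA : IsElementaryAbelian p A) : ∃ n, Nat.card A = p ^ n :=
  IsPGroup.iff_card.1 (fun a => ⟨1, Subtype.ext (by simpa using hA.2 a a.2)⟩)

theorem isPGroup_of_elem {A : Subgroup G} (hA : IsElementaryAbelian p A) : IsPGroup p A :=
  fun a => ⟨1, Subtype.ext (by simpa using hA.2 a a.2)⟩

theorem elem_of_le {A B : Subgroup G} (hA : IsElementaryAbelian p A) (h : B ≤ A) : IsElementaryAbelian p B :=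
  ⟨⟨⟨fun a b => Subtype.ext (congrArg (fun z : A => (z : G)) (hA.1.is_comm.comm ⟨a, h a.2⟩ ⟨b, h b.2⟩))⟩⟩,
    fun b hb => hA.2 b (h hb)⟩

theorem comm_of_elem {A : Subgroup G} (hA : IsElementaryAbelian p A) {a b : G} (ha : a ∈ A) (hb : b ∈ A) :
    Commute a b := congrArg Subtype.val (hA.1.is_comm.comm ⟨a, ha⟩ ⟨b, hb⟩)

theorem le_normalizer_of_conj {A B : Subgroup G} (h : ∀ a ∈ A, ∀ b ∈ B, a * b * a⁻¹ ∈ B) :
    A ≤ Subgroup.normalizer (B : Set G) := by
  intro a ha
  refine Subgroup.mem_normalizer_iff.2 fun x => ⟨fun hx => h a ha x hx, fun hx => ?_⟩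
  have := h a⁻¹ (inv_mem ha) _ hx
  simpa [mul_assoc] using this

theorem inf_centralizer_le_normalizer {A K B : Subgroup G} (hA : A ≤ Subgroup.normalizer (K : Set G))
    (hB : ∀ a ∈ A, ∀ b ∈ B, Commute a b) :
    A ≤ Subgroup.normalizer ((K ⊓ Subgroup.centralizer (B : Set G) : Subgroup G) : Set G) := by
  refine le_normalizer_of_conj fun a ha x hx => Subgroup.mem_inf.2
    ⟨(Subgroup.mem_normalizer_iff.1 (hA ha) x).1 (Subgroup.mem_inf.1 hx).1, fun b hb => ?_⟩
  have h1 : Commute b x := (Subgroup.mem_inf.1 hx).2 b hb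
  exact (((hB a ha b hb).symm.mul_right h1).mul_right (hB a ha b hb).symm.inv_right).eq

theorem card_closure_pair_le {A : Subgroup G} (hA : IsElementaryAbelian p A) {x y : G} (hx : x ∈ A) (hy : y ∈ A)
    (hxy : y ∉ Subgroup.zpowers x) :
    IsMulCommutative ↥(Subgroup.closure ({x, y} : Set G)) ∧ ¬ IsCyclic ↥(Subgroup.closure ({x, y} : Set G)) ∨ x = 1 := by
  by_cases hx1 : x = 1
  · exact Or.inr hx1
  left
  have hle : Subgroup.closure ({x, y} : Set G) ≤ A := by
    rw [Subgroup.closure_le]; rintro z (rfl | rfl) <;> assumption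
  refine ⟨(elem_of_le hA hle).1, fun hc => ?_⟩
  obtain ⟨g, hg⟩ := hc.exists_generator
  have hgp : orderOf (g : G) ∣ p := orderOf_dvd_of_pow_eq_one (hA.2 _ (hle g.2))
  have hmem : ∀ z ∈ Subgroup.closure ({x, y} : Set G), z ∈ Subgroup.zpowers (g : G) := by
    intro z hz
    obtain ⟨k, hk⟩ := hg ⟨z, hz⟩
    exact Subgroup.mem_zpowers_iff.2 ⟨k, by simpa using congrArg Subtype.val hk⟩
  have heq : Subgroup.zpowers x = Subgroup.zpowers (g : G) := by
    refine Subgroup.eq_of_le_of_card_ge (Subgroup.zpowers_le.2 (hmem x (Subgroup.subset_closure (Set.mem_insert x _)))) ?_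
    rw [Nat.card_zpowers, Nat.card_zpowers, orderOf_eq_prime (hA.2 x hx) hx1]
    exact Nat.le_of_dvd (Fact.out : p.Prime).pos hgp
  exact hxy (heq ▸ hmem y (Subgroup.subset_closure (Set.mem_insert_of_mem _ rfl)))

/-- A hyperplane of `A` whose fixed points in `K` are not all fixed by `A`. -/
theorem exists_hyperplane {A : Subgroup G} (hA : IsElementaryAbelian p A) {K : Subgroup G}
    (hAK : A ≤ Subgroup.normalizer (K : Set G)) (hcop : (Nat.card K).Coprime p)
    {X : Subgroup G} (hX : Subgroup.centralizer (A : Set G) ≤ X) (hne : ∃ k ∈ K, k ∉ X) :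
    ∃ B : Subgroup G, B ≤ A ∧ Nat.card A = p * Nat.card B ∧
      ∃ k ∈ K, k ∈ Subgroup.centralizer (B : Set G) ∧ k ∉ X := by
  have hp := (Fact.out : p.Prime)
  obtain ⟨n, hn⟩ := card_eq_pow hA
  suffices h : ∀ (m : ℕ) (C : Subgroup G), C ≤ A → n - Nat.log p (Nat.card C) = m →
      (∃ k ∈ K, k ∈ Subgroup.centralizer (C : Set G) ∧ k ∉ X) →
      ∃ B : Subgroup G, B ≤ A ∧ Nat.card A = p * Nat.card B ∧
        ∃ k ∈ K, k ∈ Subgroup.centralizer (B : Set G) ∧ k ∉ X from
    h _ ⊥ bot_le rfl (hne.imp fun k hk => ⟨hk.1, fun c hc => by simp [Subgroup.mem_bot.1 hc], hk.2⟩)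
  intro m
  induction m using Nat.strong_induction_on with
  | _ m ih =>
  intro C hCA hm ⟨k, hkK, hkC, hkA⟩
  obtain ⟨j, hj⟩ := card_eq_pow (elem_of_le hA hCA)
  have hjn : j < n := by
    by_contra hle
    have heq : C = A := Subgroup.eq_of_le_of_card_ge hCA (by rw [hn, hj]; exact Nat.pow_le_pow_right hp.pos (not_lt.1 hle))
    exact hkA (hX (heq ▸ hkC))
  rw [hj, Nat.log_pow hp.one_lt] at hm
  obtain ⟨x, hxA, hxC⟩ := SetLike.exists_of_lt (lt_of_le_of_ne hCA (fun e => by
    rw [e, hn] at hj; exact hjn.ne (Nat.pow_right_injective hp.two_le hj).symm))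
  by_cases hex : C ⊔ Subgroup.zpowers x = A
  · refine ⟨C, hCA, ?_, k, hkK, hkC, hkA⟩
    refine le_antisymm ?_ ?_
    · have hsc : A ≤ Subgroup.normalizer (C : Set G) := le_normalizer_of_conj fun a ha c hc => by
        rw [(comm_of_elem hA ha (hCA hc)).eq, mul_inv_cancel_right]; exact hc
      have h1 : ((Subgroup.zpowers x : Subgroup G) : Set G) * (C : Set G) = ((Subgroup.zpowers x ⊔ C : Subgroup G) : Set G) :=
        (Subgroup.coe_mul_of_left_le_normalizer_right (H := Subgroup.zpowers x) (N := C)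
          ((Subgroup.zpowers_le.2 hxA).trans hsc)).symm
      have h2 := Set.natCard_mul_le (s := ((Subgroup.zpowers x : Subgroup G) : Set G)) (t := (C : Set G))
      rw [h1, sup_comm, hex] at h2
      refine h2.trans (Nat.mul_le_mul_right _ ?_)
      show Nat.card (Subgroup.zpowers x) ≤ p
      rw [Nat.card_zpowers]
      exact Nat.le_of_dvd hp.pos (orderOf_dvd_of_pow_eq_one (hA.2 x hxA))
    · rw [hn, hj, ← pow_succ']; exact Nat.pow_le_pow_right hp.pos hjn
  obtain ⟨y, hyA, hy⟩ := SetLike.exists_of_lt (lt_of_le_of_ne (sup_le hCA (Subgroup.zpowers_le.2 hxA)) hex)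
  set D := Subgroup.closure ({x, y} : Set G) with hD
  have hDA : D ≤ A := by rw [hD, Subgroup.closure_le]; rintro z (rfl | rfl) <;> assumption
  rcases card_closure_pair_le hA hxA hyA (fun h => hy (Subgroup.mem_sup_right h)) with ⟨hDc, hDn⟩ | hx1
  swap
  · exact absurd (hx1 ▸ one_mem C) hxC
  haveI := hDc
  set K' := K ⊓ Subgroup.centralizer (C : Set G) with hK'
  have hnK' : A ≤ Subgroup.normalizer (K' : Set G) :=
    inf_centralizer_le_normalizer hAK fun a ha b hb => comm_of_elem hA ha (hCA hb)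
  have hcop' : (Nat.card D).Coprime (Nat.card K') := by
    obtain ⟨i, hi⟩ := card_eq_pow (elem_of_le hA hDA)
    rw [hi]
    exact Nat.Coprime.pow_left i (hcop.coprime_dvd_left (Subgroup.card_dvd_of_le inf_le_left)).symm
  have hgen := CfsgLib.coprime_generated_by_centralizers hDn (hDA.trans hnK') hcop'
  obtain ⟨a, ⟨haD, ha1⟩, hne'⟩ : ∃ a, (a ∈ D ∧ a ≠ 1) ∧ ∃ k ∈ K' ⊓ Subgroup.centralizer {a},
      k ∉ X := by
    by_contra hall
    push Not at hall
    refine hkA ?_
    have hle : K' ≤ X := by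
      rw [← hgen]; exact iSup₂_le fun a ha => fun k hk => hall a ha k hk
    exact hle ⟨hkK, hkC⟩
  have haC : a ∉ C := by
    intro haC
    have hDx : D ≤ Subgroup.zpowers x ⊔ Subgroup.zpowers y := by
      rw [hD, Subgroup.closure_le]
      rintro z (rfl | rfl)
      · exact Subgroup.mem_sup_left (Subgroup.mem_zpowers z)
      · exact Subgroup.mem_sup_right (Subgroup.mem_zpowers z)
    have hn' : (Subgroup.zpowers y) ≤ Subgroup.normalizer ((Subgroup.zpowers x : Subgroup G) : Set G) :=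
      le_normalizer_of_conj fun u hu v hv => by
        rw [(comm_of_elem hA (Subgroup.zpowers_le.2 hyA hu) (Subgroup.zpowers_le.2 hxA hv)).eq, mul_inv_cancel_right]
        exact hv
    have h1 : a ∈ ((Subgroup.zpowers y ⊔ Subgroup.zpowers x : Subgroup G) : Set G) := sup_comm (Subgroup.zpowers x) _ ▸ hDx haD
    rw [Subgroup.coe_mul_of_left_le_normalizer_right (H := Subgroup.zpowers y) (N := Subgroup.zpowers x) hn'] at h1
    obtain ⟨u, hu, v, hv, huv⟩ := h1
    by_cases hu1 : u = 1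
    · subst hu1
      simp only [one_mul] at huv
      subst huv
      have heq : Subgroup.zpowers v = Subgroup.zpowers x :=
        Subgroup.eq_of_le_of_card_ge (Subgroup.zpowers_le.2 hv) (by
          rw [Nat.card_zpowers, Nat.card_zpowers, orderOf_eq_prime (hA.2 v (hDA haD)) ha1,
            orderOf_eq_prime (hA.2 x hxA) (fun e => hxC (e ▸ one_mem C))])
      exact hxC ((Subgroup.zpowers_le.2 haC) (heq ▸ Subgroup.mem_zpowers x))
    · have heq : Subgroup.zpowers u = Subgroup.zpowers y :=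
        Subgroup.eq_of_le_of_card_ge (Subgroup.zpowers_le.2 hu) (by
          rw [Nat.card_zpowers, Nat.card_zpowers, orderOf_eq_prime (hA.2 u (Subgroup.zpowers_le.2 hyA hu)) hu1]
          exact Nat.le_of_dvd hp.pos (orderOf_dvd_of_pow_eq_one (hA.2 y hyA)))
      have hu' : u ∈ C ⊔ Subgroup.zpowers x := by
        have : u = a * v⁻¹ := eq_mul_inv_of_mul_eq huv
        rw [this]
        exact Subgroup.mul_mem_sup haC (inv_mem hv)
      exact hy ((Subgroup.zpowers_le.2 hu') (heq ▸ Subgroup.mem_zpowers y))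
  set C' := C ⊔ Subgroup.zpowers a with hC'
  have hC'A : C' ≤ A := sup_le hCA (Subgroup.zpowers_le.2 (hDA haD))
  obtain ⟨j', hj'⟩ := card_eq_pow (elem_of_le hA hC'A)
  have hjj : j < j' := by
    by_contra hle
    have heq : C = C' := Subgroup.eq_of_le_of_card_ge le_sup_left
      (by rw [hj, hj']; exact Nat.pow_le_pow_right hp.pos (not_lt.1 hle))
    exact haC (heq ▸ Subgroup.mem_sup_right (Subgroup.mem_zpowers a))
  refine ih (n - Nat.log p (Nat.card C')) ?_ C' hC'A rfl ?_
  · rw [hj', Nat.log_pow hp.one_lt]; omega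
  · obtain ⟨k', hk', hk'A⟩ := hne'
    refine ⟨k', (Subgroup.mem_inf.1 (Subgroup.mem_inf.1 hk').1).1, ?_, hk'A⟩
    have h1 : C' ≤ Subgroup.centralizer {k'} := sup_le
      (fun c hc => Subgroup.mem_centralizer_singleton_iff.2 ((Subgroup.mem_inf.1 (Subgroup.mem_inf.1 hk').1).2 c hc))
      (Subgroup.zpowers_le.2 (Subgroup.mem_centralizer_singleton_iff.2
        (Subgroup.mem_centralizer_singleton_iff.1 (Subgroup.mem_inf.1 hk').2).symm))
    exact fun c hc => Subgroup.mem_centralizer_singleton_iff.1 (h1 hc)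

variable {V H K : Subgroup G}

theorem Setup.A_normV (S : Setup p V H K) {A : Subgroup G} (hAH : A ≤ H) : A ≤ Subgroup.normalizer (V : Set G) :=
  hAH.trans S.normV

/-- A hyperplane with larger fixed space in `V`. -/
theorem exists_good_hyperplane (S : Setup p V H K) {A : Subgroup G} (hA : IsElementaryAbelian p A) (hAH : A ≤ H)
    (hA1 : A ≠ ⊥) :
    ∃ B : Subgroup G, B ≤ A ∧ Nat.card A = p * Nat.card B ∧
      (∃ k ∈ K, k ∈ Subgroup.centralizer (B : Set G) ∧ k ∉ Subgroup.centralizer (A : Set G)) := by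
  refine exists_hyperplane hA (hAH.trans S.normK) S.cop le_rfl ?_
  by_contra hall
  push Not at hall
  apply hA1
  rw [eq_bot_iff]
  intro a ha
  have haK : a ∈ K := S.cK ⟨hAH ha, fun k hk => ((hall k hk) a ha).symm⟩
  rw [Subgroup.mem_bot, ← orderOf_eq_one_iff]
  exact Nat.eq_one_of_dvd_coprimes S.cop (by
    have := orderOf_dvd_natCard (⟨a, haK⟩ : K); rwa [Subgroup.orderOf_mk] at this)
    (orderOf_dvd_of_pow_eq_one (hA.2 a ha))

/-- Fixed points strictly grow on passing to a good hyperplane. -/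
theorem card_fixed_lt (S : Setup p V H K) {A B : Subgroup G} (hA : IsElementaryAbelian p A) (hAH : A ≤ H)
    (hBA : B ≤ A) {k : G} (hkK : k ∈ K) (hkB : k ∈ Subgroup.centralizer (B : Set G))
    (hkA : k ∉ Subgroup.centralizer (A : Set G)) :
    p * Nat.card ↥(V ⊓ Subgroup.centralizer (A : Set G)) ≤ Nat.card ↥(V ⊓ Subgroup.centralizer (B : Set G)) := by
  have hp := (Fact.out : p.Prime)
  set FA := V ⊓ Subgroup.centralizer (A : Set G) with hFA
  set FB := V ⊓ Subgroup.centralizer (B : Set G) with hFB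
  have hle : FA ≤ FB := le_inf inf_le_left (inf_le_right.trans (Subgroup.centralizer_le hBA))
  have hne : FA ≠ FB := by
    intro he
    obtain ⟨a, ha, hak⟩ : ∃ a ∈ A, a * k ≠ k * a := by
      by_contra hall
      push Not at hall
      exact hkA fun a ha => hall a ha
    have hV : V ≤ Subgroup.centralizer {k * a * k⁻¹ * a⁻¹} := by
      have hkH : k ∈ H := S.KH hkK
      set c := k * a * k⁻¹ * a⁻¹ with hc
      have hcK : c ∈ K := by
        have : a * k⁻¹ * a⁻¹ ∈ K := (Subgroup.mem_normalizer_iff.1 (S.normK (hAH ha)) k⁻¹).1 (inv_mem hkK)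
        have e : c = k * (a * k⁻¹ * a⁻¹) := by rw [hc]; group
        rw [e]; exact mul_mem hkK this
      have hcB : ∀ b ∈ B, b * c = c * b := by
        intro b hb
        have h1 : Commute b k := hkB b hb
        have h2 : Commute b a := comm_of_elem hA (hBA hb) ha
        exact (((h1.mul_right h2).mul_right h1.inv_right).mul_right h2.inv_right).eq
      haveI := Fintype.ofFinite G
      refine CfsgLib.Blocks.pxq (R := B) (isPGroup_of_elem S.elem) (isPGroup_of_elem (elem_of_le hA hBA))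
        ((hBA.trans hAH).trans S.normV) (S.normV (S.KH hcK)) hcB
        (S.cop.coprime_dvd_left (by have := orderOf_dvd_natCard (⟨c, hcK⟩ : K); rwa [Subgroup.orderOf_mk] at this)) ?_
      intro v hv
      have hfixa : ∀ w ∈ FB, a * w * a⁻¹ = w := fun w hw => by
        rw [← he] at hw
        rw [(Subgroup.mem_inf.1 hw).2 a ha, mul_inv_cancel_right]
      have hw : k⁻¹ * v * k ∈ FB := by
        refine Subgroup.mem_inf.2 ⟨?_, fun b hb => ?_⟩
        · have := (Subgroup.mem_normalizer_iff.1 (S.normV (inv_mem hkH)) v).1 (Subgroup.mem_inf.1 hv).1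
          simpa using this
        · have h1 : Commute b k := hkB b hb
          have h2 : Commute b v := (Subgroup.mem_inf.1 hv).2 b hb
          exact ((h1.inv_right.mul_right h2).mul_right h1).eq
      have hvB : v ∈ FB := hv
      have h3 : a⁻¹ * v * a = v := by
        have := hfixa v hvB
        calc a⁻¹ * v * a = a⁻¹ * (a * v * a⁻¹) * a := by rw [this]
          _ = v := by group
      have h4 : c * v * c⁻¹ = v := by
        calc c * v * c⁻¹ = k * (a * (k⁻¹ * (a⁻¹ * v * a) * k) * a⁻¹) * k⁻¹ := by rw [hc]; group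
          _ = v := by rw [h3, hfixa _ hw]; group
      exact Subgroup.mem_centralizer_singleton_iff.2 (mul_inv_eq_iff_eq_mul.1 h4).symm
    have hc1 : k * a * k⁻¹ * a⁻¹ = 1 := by
      rw [← Subgroup.mem_bot, ← S.faith]
      exact Subgroup.mem_inf.2 ⟨mul_mem (mul_mem (mul_mem (S.KH hkK) (hAH ha)) (inv_mem (S.KH hkK))) (inv_mem (hAH ha)),
        fun v hv => Subgroup.mem_centralizer_singleton_iff.1 (hV hv)⟩
    refine hak ?_
    rw [mul_inv_eq_one, mul_inv_eq_iff_eq_mul] at hc1
    exact hc1.symm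
  obtain ⟨i, hi⟩ := card_eq_pow (elem_of_le S.elem (inf_le_left : FA ≤ V))
  obtain ⟨j, hj⟩ := card_eq_pow (elem_of_le S.elem (inf_le_left : FB ≤ V))
  have : i < j := by
    by_contra h
    exact hne (Subgroup.eq_of_le_of_card_ge hle (by rw [hi, hj]; exact Nat.pow_le_pow_right hp.pos (not_lt.1 h)))
  rw [hi, hj, ← pow_succ']
  exact Nat.pow_le_pow_right hp.pos this

theorem card_mul_fixed_le (S : Setup p V H K) :
    ∀ (n : ℕ) (A : Subgroup G), Nat.card A = n → IsElementaryAbelian p A → A ≤ H →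
      Nat.card A * Nat.card ↥(V ⊓ Subgroup.centralizer (A : Set G)) ≤ Nat.card V := by
  intro n
  induction n using Nat.strong_induction_on with
  | _ n ih =>
  intro A hn hA hAH
  by_cases hA1 : A = ⊥
  · subst hA1
    rw [Subgroup.card_bot, one_mul]
    exact Nat.le_of_dvd Nat.card_pos (Subgroup.card_dvd_of_le inf_le_left)
  obtain ⟨B, hBA, hc, k, hk, hkB, hkA⟩ := exists_good_hyperplane S hA hAH hA1
  have h1 := ih (Nat.card B) (by
    rw [← hn, hc]; exact lt_mul_of_one_lt_left Nat.card_pos (Fact.out : p.Prime).one_lt) B rfl (elem_of_le hA hBA) (hBA.trans hAH)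
  have h2 := card_fixed_lt S hA hAH hBA hk hkB hkA
  calc Nat.card A * Nat.card ↥(V ⊓ Subgroup.centralizer (A : Set G))
      = Nat.card B * (p * Nat.card ↥(V ⊓ Subgroup.centralizer (A : Set G))) := by rw [hc]; ring
    _ ≤ Nat.card B * Nat.card ↥(V ⊓ Subgroup.centralizer (B : Set G)) := Nat.mul_le_mul_left _ h2
    _ ≤ Nat.card V := h1

theorem elem_of_best (S : Setup p V H K) {A : Subgroup G} (hAH : A ≤ H) (hA : IsBestOffenderOn p V A) :
    IsElementaryAbelian p A := by
  have h1 : ∀ x ∈ H, x ∈ Subgroup.centralizer (V : Set G) → x = 1 := fun x hx hx' => by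
    rw [← Subgroup.mem_bot, ← S.faith]; exact ⟨hx, hx'⟩
  refine ⟨⟨⟨fun a b => Subtype.ext ?_⟩⟩, fun a ha => h1 _ (pow_mem (hAH ha) p) (hA.2.2 a ha)⟩
  have h2 : ⁅(a : G), (b : G)⁆ = 1 := h1 _
    (by rw [commutatorElement_def]; exact mul_mem (mul_mem (mul_mem (hAH a.2) (hAH b.2)) (inv_mem (hAH a.2))) (inv_mem (hAH b.2)))
    (hA.2.1 (Subgroup.commutator_mem_commutator a.2 b.2))
  exact commutatorElement_eq_one_iff_mul_comm.1 h2

theorem best_card_eq (S : Setup p V H K) {A : Subgroup G} (hAH : A ≤ H) (hA : IsBestOffenderOn p V A) :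
    Nat.card A * Nat.card ↥(V ⊓ Subgroup.centralizer (A : Set G)) = Nat.card V := by
  refine le_antisymm (card_mul_fixed_le S _ A rfl (elem_of_best S hAH hA) hAH) ?_
  have := hA.1 ⊥ bot_le
  rwa [Subgroup.card_bot, one_mul, inf_eq_left.2 (fun v _ => by
    intro b hb; simp [Subgroup.mem_bot.1 hb])] at this

theorem best_of_card_eq (S : Setup p V H K) {A : Subgroup G} (hA : IsElementaryAbelian p A) (hAH : A ≤ H)
    (h : Nat.card A * Nat.card ↥(V ⊓ Subgroup.centralizer (A : Set G)) = Nat.card V) :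
    IsBestOffenderOn p V A := by
  refine ⟨fun B hB => (card_mul_fixed_le S _ B rfl (elem_of_le hA hB) (hB.trans hAH)).trans_eq h.symm, ?_, fun a ha => ?_⟩
  · rw [Subgroup.commutator_le]
    intro a ha b hb
    rw [(commutatorElement_eq_one_iff_commute.2 (comm_of_elem hA ha hb))]
    exact one_mem _
  · rw [hA.2 a ha]; exact one_mem _

theorem good_sub_best (S : Setup p V H K) {A B : Subgroup G} (hAH : A ≤ H) (hA : IsBestOffenderOn p V A)
    (hBA : B ≤ A) (hc : Nat.card A = p * Nat.card B) {k : G} (hkK : k ∈ K)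
    (hkB : k ∈ Subgroup.centralizer (B : Set G)) (hkA : k ∉ Subgroup.centralizer (A : Set G)) :
    IsBestOffenderOn p V B := by
  have hE := elem_of_best S hAH hA
  refine best_of_card_eq S (elem_of_le hE hBA) (hBA.trans hAH)
    (le_antisymm (card_mul_fixed_le S _ B rfl (elem_of_le hE hBA) (hBA.trans hAH)) ?_)
  rw [← best_card_eq S hAH hA, hc]
  calc p * Nat.card B * Nat.card ↥(V ⊓ Subgroup.centralizer (A : Set G))
      = Nat.card B * (p * Nat.card ↥(V ⊓ Subgroup.centralizer (A : Set G))) := by ring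
    _ ≤ _ := Nat.mul_le_mul_left _ (card_fixed_lt S hE hAH hBA hkK hkB hkA)

theorem moves_iff (S : Setup p V H K) {A : Subgroup G} (hAH : A ≤ H) : ⁅V, A⁆ ≠ ⊥ ↔ A ≠ ⊥ := by
  constructor
  · rintro h rfl; exact h (Subgroup.commutator_bot_right V)
  · intro h h'
    apply h
    rw [eq_bot_iff, ← S.faith]
    intro a ha
    refine ⟨hAH ha, fun v hv => ?_⟩
    have := h'.le (Subgroup.commutator_mem_commutator hv ha)
    rw [Subgroup.mem_bot, commutatorElement_eq_one_iff_mul_comm] at this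
    exact this

/-- A best offender minimal among the non-trivial ones has order `p`. -/
theorem card_of_minimal (S : Setup p V H K) {A : Subgroup G} (hAH : A ≤ H) (hA : IsBestOffenderOn p V A)
    (hAV : ⁅V, A⁆ ≠ ⊥) (hmin : ∀ B : Subgroup G, B ≤ A → IsBestOffenderOn p V B → ⁅V, B⁆ ≠ ⊥ → B = A) :
    Nat.card A = p := by
  have hE := elem_of_best S hAH hA
  obtain ⟨B, hBA, hc, k, hk, hkB, hkA⟩ := exists_good_hyperplane S hE hAH ((moves_iff S hAH).1 hAV)
  by_cases hB : B = ⊥
  · rw [hc, hB, Subgroup.card_bot, mul_one]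
  exfalso
  have heq := hmin B hBA (good_sub_best S hAH hA hBA hc hk hkB hkA) ((moves_iff S (hBA.trans hAH)).2 hB)
  exact hkA (heq ▸ hkB)

/-- A best offender of order `p`. -/
structure Small (p : ℕ) (V H A : Subgroup G) : Prop where
  le : A ≤ H
  card : Nat.card A = p
  index : p * Nat.card ↥(V ⊓ Subgroup.centralizer (A : Set G)) = Nat.card V

theorem small_of_minimal (S : Setup p V H K) {A : Subgroup G} (hAH : A ≤ H) (hA : IsBestOffenderOn p V A)
    (hAV : ⁅V, A⁆ ≠ ⊥) (hmin : ∀ B : Subgroup G, B ≤ A → IsBestOffenderOn p V B → ⁅V, B⁆ ≠ ⊥ → B = A) :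
    Small p V H A := by
  have h := card_of_minimal S hAH hA hAV hmin
  exact ⟨hAH, h, by rw [← best_card_eq S hAH hA, h]⟩

theorem Small.elem {A : Subgroup G} (h : Small p V H A) : IsElementaryAbelian p A := by
  haveI := isCyclic_of_prime_card (p := p) h.card
  refine ⟨IsCyclic.isMulCommutative, fun a ha => ?_⟩
  rw [← orderOf_dvd_iff_pow_eq_one, ← h.card]
  exact Subgroup.orderOf_dvd_natCard A ha

theorem Small.minimal (S : Setup p V H K) {A : Subgroup G} (h : Small p V H A) :
    IsBestOffenderOn p V A ∧ ⁅V, A⁆ ≠ ⊥ ∧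
      ∀ B : Subgroup G, B ≤ A → IsBestOffenderOn p V B → ⁅V, B⁆ ≠ ⊥ → B = A := by
  refine ⟨best_of_card_eq S h.elem h.le (by rw [h.card, h.index]), (moves_iff S h.le).2 (fun e => ?_), fun B hB _ hBV => ?_⟩
  · have := h.card; rw [e, Subgroup.card_bot] at this; exact (Fact.out : p.Prime).one_lt.ne this
  · have hd := Subgroup.card_dvd_of_le hB
    rw [h.card] at hd
    rcases (Nat.dvd_prime Fact.out).1 hd with e | e
    · exact absurd (Subgroup.eq_bot_of_card_eq _ e) ((moves_iff S (hB.trans h.le)).1 hBV)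
    · exact Subgroup.eq_of_le_of_card_ge hB (by rw [h.card, e])

theorem card_iSup_le {A : Subgroup G} (hA : IsElementaryAbelian p A) :
    ∀ (k : ℕ) (B : Fin k → Subgroup G), (∀ i, B i ≤ A) → (∀ i, Nat.card (B i) = p) → Nat.card ↥(⨆ i, B i) ≤ p ^ k := by
  intro k
  induction k with
  | zero => intro B _ _; simp [iSup_of_empty, Subgroup.card_bot]
  | succ k ih =>
    intro B hB hc
    have e : (⨆ i, B i) = B 0 ⊔ ⨆ i : Fin k, B i.succ := by
      refine le_antisymm (iSup_le fun i => ?_) (sup_le (le_iSup B 0) (iSup_le fun i => le_iSup B i.succ))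
      refine Fin.cases le_sup_left (fun j => le_sup_of_le_right (le_iSup (fun j : Fin k => B j.succ) j)) i
    have hX : (⨆ i : Fin k, B i.succ) ≤ A := iSup_le fun i => hB _
    have hn : B 0 ≤ Subgroup.normalizer ((⨆ i : Fin k, B i.succ : Subgroup G) : Set G) :=
      le_normalizer_of_conj fun a ha b hb => by
        rw [(comm_of_elem hA (hB 0 ha) (hX hb)).eq, mul_inv_cancel_right]; exact hb
    rw [e]
    have h1 := Set.natCard_mul_le (s := (B 0 : Set G)) (t := ((⨆ i : Fin k, B i.succ : Subgroup G) : Set G))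
    rw [← Subgroup.coe_mul_of_left_le_normalizer_right (H := B 0) (N := ⨆ i : Fin k, B i.succ) hn] at h1
    refine h1.trans ?_
    rw [pow_succ']
    exact Nat.mul_le_mul (hc 0).le (ih _ (fun i => hB _) (fun i => hc _))

theorem exists_decomp (S : Setup p V H K) : ∀ (n : ℕ) (A : Subgroup G), A ≤ H → IsBestOffenderOn p V A →
    Nat.card A = p ^ n → ∃ B : Fin n → Subgroup G, (∀ i, B i ≤ A ∧ Small p V H (B i)) ∧ ⨆ i, B i = A := by
  have hp := (Fact.out : p.Prime)
  intro n
  induction n using Nat.strong_induction_on with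
  | _ n ih =>
  intro A hAH hA hn
  have hE := elem_of_best S hAH hA
  rcases n with _ | n
  · exact ⟨fun i => i.elim0, fun i => i.elim0, by rw [Subgroup.eq_bot_of_card_eq A (by simpa using hn), iSup_of_empty]⟩
  have hA1 : A ≠ ⊥ := fun e => by
    rw [e, Subgroup.card_bot] at hn
    exact (Nat.one_lt_pow (Nat.succ_ne_zero n) hp.one_lt).ne hn
  rcases n with _ | n
  · refine ⟨fun _ => A, fun _ => ⟨le_rfl, hAH, by simpa using hn, ?_⟩, iSup_const⟩
    have := best_card_eq S hAH hA
    rwa [show Nat.card A = p by simpa using hn] at this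
  have hsub : ∀ B : Subgroup G, B ≤ A → Nat.card A = p * Nat.card B → IsBestOffenderOn p V B →
      ∃ D : Fin (n + 1) → Subgroup G, (∀ i, D i ≤ B ∧ Small p V H (D i)) ∧ ⨆ i, D i = B := by
    intro B hBA hc hB
    refine ih (n + 1) (by omega) B (hBA.trans hAH) hB (Nat.eq_of_mul_eq_mul_left hp.pos ?_)
    rw [← hc, hn, ← pow_succ']
  obtain ⟨B, hBA, hc, k, hk, hkB, hkA⟩ := exists_good_hyperplane S hE hAH hA1
  obtain ⟨D, hD, hDs⟩ := hsub B hBA hc (good_sub_best S hAH hA hBA hc hk hkB hkA)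
  -- a second good hyperplane
  obtain ⟨b, hbB, hb1⟩ := SetLike.exists_of_lt (show (⊥ : Subgroup G) < B from bot_lt_iff_ne_bot.2 (fun e => by
    rw [hn, e, Subgroup.card_bot, mul_one] at hc
    have := Nat.pow_right_injective hp.two_le (hc.trans (pow_one p).symm)
    omega))
  obtain ⟨B', hB'A, hc', hne, hkeep⟩ : ∃ B' : Subgroup G, B' ≤ A ∧ Nat.card A = p * Nat.card B' ∧ ¬ B' ≤ B ∧
      IsBestOffenderOn p V B' := by
    -- a good hyperplane avoiding `b`
    obtain ⟨k₁, hk₁K, hk₁⟩ : ∃ k₁ ∈ K, k₁ ∉ Subgroup.centralizer ({b} : Set G) := by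
      by_contra hall
      push Not at hall
      have hbK : b ∈ K := S.cK ⟨hAH (hBA hbB), fun k hk => Subgroup.mem_centralizer_singleton_iff.1 (hall k hk)⟩
      refine hb1 (Subgroup.mem_bot.2 (orderOf_eq_one_iff.1 (Nat.eq_one_of_dvd_coprimes S.cop (by
        have := orderOf_dvd_natCard (⟨b, hbK⟩ : K); rwa [Subgroup.orderOf_mk] at this)
        (orderOf_dvd_of_pow_eq_one (hE.2 b (hBA hbB))))))
    have hX : Subgroup.centralizer (A : Set G) ≤ Subgroup.centralizer ({b} : Set G) :=
      fun x hx => Subgroup.mem_centralizer_singleton_iff.2 (hx b (hBA hbB)).symm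
    obtain ⟨C, hCA, hcC, k', hk', hk'C, hk'X⟩ :=
      exists_hyperplane hE (hAH.trans S.normK) S.cop hX ⟨k₁, hk₁K, hk₁⟩
    refine ⟨C, hCA, hcC, fun hCB => hk'X ?_, good_sub_best S hAH hA hCA hcC hk' hk'C (fun h => hk'X (hX h))⟩
    have heq : C = B := Subgroup.eq_of_le_of_card_ge hCB
      (Nat.le_of_eq (Nat.eq_of_mul_eq_mul_left hp.pos (hc.symm.trans hcC)))
    exact Subgroup.mem_centralizer_singleton_iff.2 (hk'C b (heq ▸ hbB)).symm
  obtain ⟨D', hD', hDs'⟩ := hsub B' hB'A hc' hkeep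
  obtain ⟨i₀, hi₀⟩ : ∃ i, ¬ D' i ≤ B := by
    by_contra hall
    push Not at hall
    exact hne (hDs' ▸ iSup_le hall)
  refine ⟨(Fin.cons (D' i₀) D : Fin (n + 1 + 1) → Subgroup G), fun i => ?_, ?_⟩
  · refine Fin.cases ?_ (fun j => ?_) i
    · rw [Fin.cons_zero]; exact ⟨(hD' i₀).1.trans hB'A, (hD' i₀).2⟩
    · rw [Fin.cons_succ]; exact ⟨(hD j).1.trans hBA, (hD j).2⟩
  · have e : (⨆ i, (Fin.cons (D' i₀) D : Fin (n + 1 + 1) → Subgroup G) i) = D' i₀ ⊔ B := by
      rw [← hDs]
      refine le_antisymm (iSup_le fun i => ?_) (sup_le (le_iSup_of_le 0 (by rw [Fin.cons_zero]))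
        (iSup_le fun j => le_iSup_of_le j.succ (by rw [Fin.cons_succ])))
      refine Fin.cases ?_ (fun j => ?_) i
      · rw [Fin.cons_zero]; exact le_sup_left
      · rw [Fin.cons_succ]; exact le_sup_of_le_right (le_iSup D j)
    rw [e]
    refine Subgroup.eq_of_le_of_card_ge (sup_le ((hD' i₀).1.trans hB'A) hBA) ?_
    obtain ⟨m, hm⟩ := card_eq_pow (elem_of_le hE (sup_le ((hD' i₀).1.trans hB'A) hBA))
    rw [hn, hm]
    refine Nat.pow_le_pow_right hp.pos ?_
    by_contra hlt
    have heq : B = D' i₀ ⊔ B := Subgroup.eq_of_le_of_card_ge le_sup_right (by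
      rw [hm]
      refine Nat.le_of_mul_le_mul_left ?_ hp.pos
      rw [← hc, hn, ← pow_succ']
      exact Nat.pow_le_pow_right hp.pos (by omega))
    exact hi₀ (heq.symm ▸ le_sup_left)

end CfsgLib.Offender
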