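import Mathlib
import Cfsg.Agent.Lib.PLocal.Offender.Bound
import Cfsg.Agent.Lib.Dickson.Basic

/-!
Pairs of transvections whose quotient lies in a `p'`-group: they generate `SL(2,p)`, `p ≤ 3`.
-/

set_option autoImplicit false
set_option linter.unusedSectionVars false

universe u

namespace CfsgLib.Offender

open Cfsg
open scoped commutatorElement

variable {G : Type u} [Group G] [Finite G] {p : ℕ} [Fact p.Prime] {V H K : Subgroup G}

/-- An element generating a best offender of order `p`. -/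
structure Tv (p : ℕ) (V H : Subgroup G) (a : G) : Prop where
  mem : a ∈ H
  ord : orderOf a = p
  index : p * Nat.card ↥(V ⊓ Subgroup.centralizer {a}) = Nat.card V

/-- The subgroup of commutators `[a, v]`. -/
def axisSet (V : Subgroup G) (a : G) : Subgroup G := Subgroup.closure {x | ∃ v ∈ V, x = ⁅a, v⁆}

theorem centralizer_zpowers (a : G) : Subgroup.centralizer (Subgroup.zpowers a : Set G) = Subgroup.centralizer {a} := by
  refine le_antisymm (Subgroup.centralizer_le (by simpa using Subgroup.mem_zpowers a)) ?_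
  intro x hx
  rintro _ ⟨k, rfl⟩
  exact ((show Commute a x from (Subgroup.mem_centralizer_singleton_iff.1 hx).symm).zpow_left k).eq

theorem small_iff_tv {A : Subgroup G} (hA : Small p V H A) : ∃ a, A = Subgroup.zpowers a ∧ Tv p V H a := by
  have hp := (Fact.out : p.Prime)
  obtain ⟨a, ha⟩ := exists_prime_orderOf_dvd_card' (G := A) p (by rw [hA.card])
  have heq : Subgroup.zpowers (a : G) = A :=
    Subgroup.eq_of_le_of_card_ge (Subgroup.zpowers_le.2 a.2) (by rw [hA.card, Nat.card_zpowers, Subgroup.orderOf_coe, ha])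
  exact ⟨a, heq.symm, hA.le a.2, by rw [Subgroup.orderOf_coe, ha], by
    rw [← centralizer_zpowers, heq]; exact hA.index⟩

theorem Tv.small {a : G} (h : Tv p V H a) : Small p V H (Subgroup.zpowers a) :=
  ⟨Subgroup.zpowers_le.2 h.mem, by rw [Nat.card_zpowers, h.ord], by rw [centralizer_zpowers]; exact h.index⟩

theorem comm_V (S : Setup p V H K) {x y : G} (hx : x ∈ V) (hy : y ∈ V) : Commute x y := comm_of_elem S.elem hx hy

theorem conj_mem_V (S : Setup p V H K) {h v : G} (hh : h ∈ H) (hv : v ∈ V) : h * v * h⁻¹ ∈ V :=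
  (Subgroup.mem_normalizer_iff.1 (S.normV hh) v).1 hv

theorem comm_mem_V (S : Setup p V H K) {h v : G} (hh : h ∈ H) (hv : v ∈ V) : ⁅h, v⁆ ∈ V := by
  rw [commutatorElement_def]
  exact mul_mem (conj_mem_V S hh hv) (inv_mem hv)

theorem conj_eq (h v : G) : h * v * h⁻¹ = ⁅h, v⁆ * v := by rw [commutatorElement_def]; group

theorem comm_hom (S : Setup p V H K) {h v w : G} (hh : h ∈ H) (hv : v ∈ V) (hw : w ∈ V) :
    ⁅h, v * w⁆ = ⁅h, v⁆ * ⁅h, w⁆ := by
  have hc : Commute ⁅h, w⁆ v⁻¹ := comm_V S (comm_mem_V S hh hw) (inv_mem hv)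
  calc ⁅h, v * w⁆ = ⁅h, v⁆ * (v * ⁅h, w⁆ * v⁻¹) := by simp only [commutatorElement_def]; group
    _ = ⁅h, v⁆ * ⁅h, w⁆ := by rw [mul_assoc v, hc.eq, mul_inv_cancel_left]

theorem fixed_iff {h v : G} : v ∈ Subgroup.centralizer {h} ↔ ⁅h, v⁆ = 1 := by
  rw [Subgroup.mem_centralizer_singleton_iff, commutatorElement_eq_one_iff_mul_comm]
  exact eq_comm

theorem axis_eq_image (S : Setup p V H K) {a : G} (ha : a ∈ H) {x : G} :
    x ∈ axisSet V a ↔ ∃ v ∈ V, x = ⁅a, v⁆ := by
  refine ⟨fun hx => ?_, fun hx => Subgroup.subset_closure hx⟩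
  induction hx using Subgroup.closure_induction with
  | mem x hx => exact hx
  | one => exact ⟨1, one_mem V, (commutatorElement_one_right a).symm⟩
  | mul x y _ _ hx hy =>
    obtain ⟨v, hv, rfl⟩ := hx
    obtain ⟨w, hw, rfl⟩ := hy
    exact ⟨v * w, mul_mem hv hw, (comm_hom S ha hv hw).symm⟩
  | inv x _ hx =>
    obtain ⟨v, hv, rfl⟩ := hx
    refine ⟨v⁻¹, inv_mem hv, ?_⟩
    rw [inv_eq_iff_mul_eq_one, ← comm_hom S ha hv (inv_mem hv), mul_inv_cancel, commutatorElement_one_right]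

theorem axis_le (S : Setup p V H K) {a : G} (ha : a ∈ H) : axisSet V a ≤ V := by
  intro x hx
  obtain ⟨v, hv, rfl⟩ := (axis_eq_image S ha).1 hx
  exact comm_mem_V S ha hv

theorem comm_mem_axis {a v : G} (hv : v ∈ V) : ⁅a, v⁆ ∈ axisSet V a := Subgroup.subset_closure ⟨v, hv, rfl⟩

theorem Tv.card_axis (S : Setup p V H K) {a : G} (h : Tv p V H a) : Nat.card (axisSet V a) = p := by
  let f : ↥V →* G :=
    { toFun := fun v => ⁅a, (v : G)⁆
      map_one' := by simp
      map_mul' := fun v w => by rw [Subgroup.coe_mul]; exact comm_hom S h.mem v.2 w.2 }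
  have hr : f.range = axisSet V a := by
    ext x
    rw [axis_eq_image S h.mem]
    exact ⟨fun ⟨v, hv⟩ => ⟨v, v.2, hv.symm⟩, fun ⟨v, hv, hx⟩ => ⟨⟨v, hv⟩, hx.symm⟩⟩
  have hk : f.ker = (V ⊓ Subgroup.centralizer {a}).subgroupOf V := by
    ext v
    rw [MonoidHom.mem_ker, Subgroup.mem_subgroupOf, Subgroup.mem_inf, fixed_iff]
    exact ⟨fun e => ⟨v.2, e⟩, fun e => e.2⟩
  have h1 := Subgroup.card_mul_index f.ker
  rw [Subgroup.index_ker, hr, hk, Nat.card_congr (Subgroup.subgroupOfEquivOfLe inf_le_left).toEquiv, ← h.index,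
    mul_comm p] at h1
  exact Nat.eq_of_mul_eq_mul_left Nat.card_pos h1

theorem eq_of_card_p {L : Subgroup G} (hL : Nat.card L = p) {X : Subgroup G} (hX : X ≤ L) (hne : X ≠ ⊥) : X = L := by
  have hd := Subgroup.card_dvd_of_le hX
  rw [hL] at hd
  rcases (Nat.dvd_prime Fact.out).1 hd with e | e
  · exact absurd (Subgroup.eq_bot_of_card_eq _ e) hne
  · exact Subgroup.eq_of_le_of_card_ge hX (by rw [hL, e])

theorem inf_eq_bot_of_card_p {L : Subgroup G} (hL : Nat.card L = p) {X : Subgroup G} (h : ¬ L ≤ X) : L ⊓ X = ⊥ := by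
  by_contra hne
  exact h (inf_eq_left.1 (eq_of_card_p hL inf_le_left hne))

theorem Tv.fix_axis (S : Setup p V H K) {a : G} (h : Tv p V H a) : axisSet V a ≤ Subgroup.centralizer {a} := by
  have hp := (Fact.out : p.Prime)
  intro x hx
  -- `⟨a⟩` acts on a group of order `p`
  have hLn : ∀ y ∈ axisSet V a, ⁅a, y⁆ ∈ axisSet V a := fun y hy => comm_mem_axis (axis_le S h.mem hy)
  rw [fixed_iff]
  by_contra hne
  obtain ⟨v, hv, rfl⟩ := (axis_eq_image S h.mem).1 hx
  have hiter : ∀ j : ℕ, ∀ y ∈ axisSet V a, ∀ i : ℤ, ⁅a, y⁆ = y ^ i → a ^ j * y * (a ^ j)⁻¹ = y ^ ((i + 1) ^ j) := by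
    intro j
    induction j with
    | zero => intro y _ i _; simp
    | succ j ih =>
      intro y hy i hi
      calc a ^ (j + 1) * y * (a ^ (j + 1))⁻¹ = a * (a ^ j * y * (a ^ j)⁻¹) * a⁻¹ := by rw [pow_succ']; group
        _ = (a * y * a⁻¹) ^ ((i + 1) ^ j) := by rw [ih y hy i hi, ← MulAut.conj_apply, map_zpow, MulAut.conj_apply]
        _ = (y ^ (i + 1)) ^ ((i + 1) ^ j) := by rw [conj_eq, hi, zpow_add_one]
        _ = y ^ ((i + 1) ^ (j + 1)) := by rw [← zpow_mul, pow_succ']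
  set y := ⁅a, v⁆ with hy
  have hy1 : y ≠ 1 := fun e => hne (by rw [e, commutatorElement_one_right])
  have hgen : Subgroup.zpowers y = axisSet V a :=
    eq_of_card_p (h.card_axis S) (Subgroup.zpowers_le.2 (comm_mem_axis hv)) (by simpa [Subgroup.zpowers_eq_bot] using hy1)
  obtain ⟨i, hi⟩ := Subgroup.mem_zpowers_iff.1 (hgen.ge (hLn y (comm_mem_axis hv)))
  have h2 := hiter (orderOf a) y (comm_mem_axis hv) i hi.symm
  rw [pow_orderOf_eq_one, one_mul, inv_one, mul_one, h.ord] at h2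
  have hyo : orderOf y = p := orderOf_eq_prime (S.elem.2 y (axis_le S h.mem (comm_mem_axis hv))) hy1
  have h3 : (p : ℤ) ∣ (i + 1) ^ p - 1 := by
    rw [← hyo, orderOf_dvd_iff_zpow_eq_one, zpow_sub_one, hyo, ← h2, mul_inv_cancel]
  have h4 : (p : ℤ) ∣ i := by
    rw [← ZMod.intCast_zmod_eq_zero_iff_dvd] at h3 ⊢
    push_cast at h3 ⊢
    rw [ZMod.pow_card, add_sub_cancel_right] at h3
    exact h3
  apply hne
  rw [← hi, ← orderOf_dvd_iff_zpow_eq_one, hyo]
  exact h4

/-- A unipotent action of a `p'`-element is trivial. -/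
theorem eq_one_of_unipotent {k u v : G} (hk : (orderOf k).Coprime p) (hu : u ^ p = 1)
    (hfix : k * u * k⁻¹ = u) (hmove : k * v * k⁻¹ = v * u) : u = 1 := by
  have hiter : ∀ j : ℕ, k ^ j * v * (k ^ j)⁻¹ = v * u ^ j := by
    intro j
    induction j with
    | zero => group
    | succ j ih =>
      calc k ^ (j + 1) * v * (k ^ (j + 1))⁻¹ = k * (k ^ j * v * (k ^ j)⁻¹) * k⁻¹ := by rw [pow_succ']; group
        _ = (k * v * k⁻¹) * (k * u ^ j * k⁻¹) := by rw [ih]; group
        _ = v * u ^ (j + 1) := by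
          rw [hmove, ← MulAut.conj_apply, map_pow, MulAut.conj_apply, hfix, pow_succ', mul_assoc]
  have h1 := hiter (orderOf k)
  rw [pow_orderOf_eq_one, one_mul, inv_one, mul_one, left_eq_mul] at h1
  rw [← orderOf_eq_one_iff]
  exact Nat.eq_one_of_dvd_coprimes hk (orderOf_dvd_of_pow_eq_one h1) (orderOf_dvd_of_pow_eq_one hu)

theorem Setup.coprime_of_mem (S : Setup p V H K) {k : G} (hk : k ∈ K) : (orderOf k).Coprime p :=
  S.cop.coprime_dvd_left (Subgroup.orderOf_dvd_natCard K hk)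

/-- A series stabilised with trivial action. -/
theorem eq_one_of_series (S : Setup p V H K) {k : G} (hk : k ∈ K) {U : Subgroup G} (hU : U ≤ V)
    (h1 : ∀ u ∈ U, k * u * k⁻¹ = u) (h2 : ∀ v ∈ V, ⁅k, v⁆ ∈ U) : k = 1 := by
  rw [← Subgroup.mem_bot, ← S.faith]
  refine Subgroup.mem_inf.2 ⟨S.KH hk, fun v hv => ?_⟩
  have hkv : k * v * k⁻¹ = v * ⁅k, v⁆ := by
    rw [conj_eq, (comm_V S (hU (h2 v hv)) hv).eq]
  have := eq_one_of_unipotent (S.coprime_of_mem hk) (S.elem.2 _ (hU (h2 v hv))) (h1 _ (h2 v hv)) hkv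
  rw [commutatorElement_eq_one_iff_mul_comm] at this
  exact this.symm

/-- A pair of distinct transvections with quotient in `K`. -/
structure Pair (p : ℕ) (V H K : Subgroup G) (a b : G) : Prop where
  ta : Tv p V H a
  tb : Tv p V H b
  mem : b * a⁻¹ ∈ K
  ne : b ≠ a

namespace Pair

variable {a b : G}

theorem symm (P : Pair p V H K a b) : Pair p V H K b a :=
  ⟨P.tb, P.ta, by simpa using inv_mem P.mem, P.ne.symm⟩

theorem cross (S : Setup p V H K) (P : Pair p V H K a b) :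
    ¬ axisSet V a ≤ Subgroup.centralizer {b} := by
  intro hle
  have hbm := P.tb.mem
  have ham := P.ta.mem
  set k := b * a⁻¹ with hk
  have hkv : ∀ v ∈ V, ⁅k, v⁆ = b * ⁅a⁻¹, v⁆ * b⁻¹ * ⁅b, v⁆ := by
    intro v _; rw [hk]; simp only [commutatorElement_def]; group
  have hainv : ∀ v ∈ V, ⁅a⁻¹, v⁆ ∈ axisSet V a := by
    intro v hv
    have hw : a⁻¹ * v * a ∈ V := by simpa using conj_mem_V S (inv_mem ham) hv
    have e : ⁅a⁻¹, v⁆ = ⁅a, a⁻¹ * v * a⁆⁻¹ := by simp only [commutatorElement_def]; group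
    rw [e]; exact inv_mem (comm_mem_axis hw)
  have fixb : ∀ u, u ∈ Subgroup.centralizer {b} → b * u * b⁻¹ = u := fun u hu => by
    rw [← Subgroup.mem_centralizer_singleton_iff.1 hu, mul_inv_cancel_right]
  have fixa : ∀ u, u ∈ Subgroup.centralizer {a} → a⁻¹ * u * a = u := fun u hu => by
    rw [mul_assoc, Subgroup.mem_centralizer_singleton_iff.1 hu, inv_mul_cancel_left]
  by_cases hba : axisSet V b ≤ Subgroup.centralizer {a}
  · -- both fix `W`
    refine P.ne (mul_inv_eq_one.1 (eq_one_of_series S P.mem (U := axisSet V a ⊔ axisSet V b)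
      (sup_le (axis_le S ham) (axis_le S hbm)) ?_ ?_))
    · intro u hu
      have h1 : axisSet V a ⊔ axisSet V b ≤ Subgroup.centralizer {a} := sup_le (P.ta.fix_axis S) hba
      have h2 : axisSet V a ⊔ axisSet V b ≤ Subgroup.centralizer {b} := sup_le hle (P.tb.fix_axis S)
      calc b * a⁻¹ * u * (b * a⁻¹)⁻¹ = b * (a⁻¹ * u * a) * b⁻¹ := by group
        _ = u := by rw [fixa u (h1 hu), fixb u (h2 hu)]
    · intro v hv
      rw [hkv v hv, fixb _ (hle (hainv v hv))]
      exact Subgroup.mul_mem_sup (hainv v hv) (comm_mem_axis hv)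
  · obtain ⟨y, hy, hya⟩ := SetLike.not_le_iff_exists.1 hba
    have hyV := axis_le S hbm hy
    set u := ⁅a⁻¹, y⁆ with hu
    have huL : u ∈ axisSet V a := hainv y hyV
    have huV := axis_le S ham huL
    have hky : k * y * k⁻¹ = y * u := by
      have e : a⁻¹ * y * a = u * y := by rw [hu, commutatorElement_def]; group
      calc k * y * k⁻¹ = b * (a⁻¹ * y * a) * b⁻¹ := by rw [hk]; group
        _ = (b * u * b⁻¹) * (b * y * b⁻¹) := by rw [e]; group
        _ = u * y := by rw [fixb u (hle huL), fixb y (P.tb.fix_axis S hy)]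
        _ = y * u := (comm_V S huV hyV).eq
    have hku : k * u * k⁻¹ = u := by
      calc k * u * k⁻¹ = b * (a⁻¹ * u * a) * b⁻¹ := by rw [hk]; group
        _ = u := by rw [fixa u (P.ta.fix_axis S huL), fixb u (hle huL)]
    have hu1 := eq_one_of_unipotent (S.coprime_of_mem P.mem) (S.elem.2 u huV) hku hky
    apply hya
    rw [hu, commutatorElement_eq_one_iff_commute] at hu1
    exact Subgroup.mem_centralizer_singleton_iff.2 (inv_inv a ▸ hu1.inv_left).eq.symm

theorem inf_axis (S : Setup p V H K) (P : Pair p V H K a b) :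
    axisSet V a ⊓ Subgroup.centralizer {b} = ⊥ :=
  inf_eq_bot_of_card_p (P.ta.card_axis S) (P.cross S)

/-- The plane. -/
abbrev W (V : Subgroup G) (a b : G) : Subgroup G := axisSet V a ⊔ axisSet V b

/-- The common fixed points. -/
abbrev C (V : Subgroup G) (a b : G) : Subgroup G := V ⊓ Subgroup.centralizer {a} ⊓ Subgroup.centralizer {b}

theorem W_le (S : Setup p V H K) (P : Pair p V H K a b) : W V a b ≤ V :=
  sup_le (axis_le S P.ta.mem) (axis_le S P.tb.mem)

theorem mem_W (S : Setup p V H K) (P : Pair p V H K a b) {w : G} (hw : w ∈ W V a b) :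
    ∃ x ∈ axisSet V a, ∃ y ∈ axisSet V b, w = x * y := by
  have hn : axisSet V a ≤ Subgroup.normalizer (axisSet V b : Set G) := le_normalizer_of_conj fun x hx y hy => by
    rw [(comm_V S (axis_le S P.ta.mem hx) (axis_le S P.tb.mem hy)).eq, mul_inv_cancel_right]; exact hy
  have := Subgroup.coe_mul_of_left_le_normalizer_right (H := axisSet V a) (N := axisSet V b) hn
  obtain ⟨x, hx, y, hy, h⟩ := this.le hw
  exact ⟨x, hx, y, hy, h.symm⟩

theorem inf_WC (S : Setup p V H K) (P : Pair p V H K a b) : W V a b ⊓ C V a b = ⊥ := by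
  rw [eq_bot_iff]
  rintro w ⟨hw, ⟨-, hwa⟩, hwb⟩
  obtain ⟨x, hx, y, hy, rfl⟩ := P.mem_W S hw
  have hy1 : y = 1 := by
    rw [← Subgroup.mem_bot, ← (P.symm.inf_axis S)]
    have hmem := mul_mem (inv_mem (P.ta.fix_axis S hx)) hwa
    rw [inv_mul_cancel_left] at hmem
    exact ⟨hy, hmem⟩
  subst hy1
  rw [mul_one] at hwb ⊢
  rw [Subgroup.mem_bot, ← Subgroup.mem_bot, ← P.inf_axis S]
  exact ⟨hx, hwb⟩

theorem card_W (S : Setup p V H K) (P : Pair p V H K a b) : Nat.card (W V a b) = p ^ 2 := by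
  have hinf : axisSet V a ⊓ axisSet V b = ⊥ :=
    eq_bot_iff.2 ((inf_le_inf_left _ (P.tb.fix_axis S)).trans (P.inf_axis S).le)
  have hn : axisSet V a ≤ Subgroup.normalizer (axisSet V b : Set G) := le_normalizer_of_conj fun x hx y hy => by
    rw [(comm_V S (axis_le S P.ta.mem hx) (axis_le S P.tb.mem hy)).eq, mul_inv_cancel_right]; exact hy
  have h1 : Nat.card (W V a b) = Nat.card (↥(axisSet V a) × ↥(axisSet V b)) := by
    refine (Nat.card_eq_of_bijective (fun q : ↥(axisSet V a) × ↥(axisSet V b) =>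
      (⟨(q.1 : G) * q.2, Subgroup.mul_mem_sup q.1.2 q.2.2⟩ : W V a b)) ⟨?_, ?_⟩).symm
    · rintro ⟨x, y⟩ ⟨x', y'⟩ e
      have e' : (x : G) * y = x' * y' := congrArg Subtype.val e
      have hz : (x' : G)⁻¹ * x = y' * (y : G)⁻¹ := by
        rw [eq_mul_inv_iff_mul_eq, mul_assoc, e', inv_mul_cancel_left]
      have hm : (x' : G)⁻¹ * x ∈ axisSet V a ⊓ axisSet V b :=
        Subgroup.mem_inf.2 ⟨mul_mem (inv_mem x'.2) x.2, hz ▸ mul_mem y'.2 (inv_mem y.2)⟩
      rw [hinf, Subgroup.mem_bot, inv_mul_eq_one] at hm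
      rw [← hm] at e'
      exact Prod.ext (Subtype.ext hm.symm) (Subtype.ext (mul_left_cancel e'))
    · rintro ⟨w, hw⟩
      obtain ⟨x, hx, y, hy, rfl⟩ := P.mem_W S hw
      exact ⟨(⟨x, hx⟩, ⟨y, hy⟩), rfl⟩
  rw [h1, Nat.card_prod, P.ta.card_axis S, P.tb.card_axis S, pow_two]

theorem card_C_ge (S : Setup p V H K) (P : Pair p V H K a b) : Nat.card V ≤ p ^ 2 * Nat.card (C V a b) := by
  set Ca := V ⊓ Subgroup.centralizer {a} with hCa
  let f : ↥Ca →* G :=
    { toFun := fun v => ⁅b, (v : G)⁆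
      map_one' := by simp
      map_mul' := fun v w => by rw [Subgroup.coe_mul]; exact comm_hom S P.tb.mem v.2.1 w.2.1 }
  have hk : f.ker = (C V a b).subgroupOf Ca := by
    ext v
    rw [MonoidHom.mem_ker, Subgroup.mem_subgroupOf, Subgroup.mem_inf, fixed_iff]
    exact ⟨fun e => ⟨v.2, e⟩, fun e => e.2⟩
  have hr : Nat.card f.range ≤ p := by
    refine (Nat.le_of_dvd Nat.card_pos (Subgroup.card_dvd_of_le ?_)).trans (P.tb.card_axis S).le
    rintro _ ⟨v, rfl⟩
    exact comm_mem_axis v.2.1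
  have h1 := Subgroup.card_mul_index f.ker
  rw [Subgroup.index_ker, hk, Nat.card_congr (Subgroup.subgroupOfEquivOfLe inf_le_left).toEquiv] at h1
  rw [← P.ta.index, pow_two, mul_assoc]
  refine Nat.mul_le_mul_left _ ?_
  rw [← h1, mul_comm p]
  exact Nat.mul_le_mul_left _ hr

theorem sup_WC (S : Setup p V H K) (P : Pair p V H K a b) : W V a b ⊔ C V a b = V := by
  have hle : W V a b ⊔ C V a b ≤ V := sup_le (P.W_le S) (inf_le_left.trans inf_le_left)
  refine Subgroup.eq_of_le_of_card_ge hle ((P.card_C_ge S).trans ?_)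
  rw [← P.card_W S, ← Nat.card_prod]
  refine Nat.card_le_card_of_injective (fun q : ↥(W V a b) × ↥(C V a b) =>
    (⟨(q.1 : G) * q.2, Subgroup.mul_mem_sup q.1.2 q.2.2⟩ : ↥(W V a b ⊔ C V a b))) ?_
  rintro ⟨x, y⟩ ⟨x', y'⟩ e
  have e' : (x : G) * y = x' * y' := congrArg Subtype.val e
  have hz : (x' : G)⁻¹ * x = y' * (y : G)⁻¹ := by
    rw [eq_mul_inv_iff_mul_eq, mul_assoc, e', inv_mul_cancel_left]
  have hm : (x' : G)⁻¹ * x ∈ W V a b ⊓ C V a b :=
    Subgroup.mem_inf.2 ⟨mul_mem (inv_mem x'.2) x.2, hz ▸ mul_mem y'.2 (inv_mem y.2)⟩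
  rw [P.inf_WC S, Subgroup.mem_bot, inv_mul_eq_one] at hm
  rw [← hm] at e'
  exact Prod.ext (Subtype.ext hm.symm) (Subtype.ext (mul_left_cancel e'))

theorem exists_decomp_mem (S : Setup p V H K) (P : Pair p V H K a b) {v : G} (hv : v ∈ V) :
    ∃ w ∈ W V a b, ∃ c ∈ C V a b, v = w * c := by
  have hn : W V a b ≤ Subgroup.normalizer (C V a b : Set G) := le_normalizer_of_conj fun x hx y hy => by
    rw [(comm_V S (P.W_le S hx) hy.1.1).eq, mul_inv_cancel_right]; exact hy
  have := Subgroup.coe_mul_of_left_le_normalizer_right (H := W V a b) (N := C V a b) hn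
  obtain ⟨x, hx, y, hy, h⟩ := this.le ((P.sup_WC S).ge hv)
  exact ⟨x, hx, y, hy, h.symm⟩

/-- The generated group. -/
abbrev E (a b : G) : Subgroup G := Subgroup.closure {a, b}

theorem E_le (P : Pair p V H K a b) : E a b ≤ H := by
  rw [Subgroup.closure_le]
  rintro x (rfl | rfl)
  · exact P.ta.mem
  · exact P.tb.mem

theorem E_fix_C (P : Pair p V H K a b) {e c : G} (he : e ∈ E a b) (hc : c ∈ C V a b) : Commute e c := by
  have hle : E a b ≤ Subgroup.centralizer {c} := by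
    rw [Subgroup.closure_le]
    rintro x (rfl | rfl)
    · exact Subgroup.mem_centralizer_singleton_iff.2 (Subgroup.mem_centralizer_singleton_iff.1 hc.1.2).symm
    · exact Subgroup.mem_centralizer_singleton_iff.2 (Subgroup.mem_centralizer_singleton_iff.1 hc.2).symm
  exact Subgroup.mem_centralizer_singleton_iff.1 (hle he)

theorem E_conj_W (S : Setup p V H K) (P : Pair p V H K a b) {e w : G} (he : e ∈ E a b) (hw : w ∈ W V a b) :
    e * w * e⁻¹ ∈ W V a b := by
  have hgen : ∀ {x : G}, Tv p V H x → axisSet V x ≤ W V a b → ∀ w ∈ W V a b, x * w * x⁻¹ ∈ W V a b :=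
    fun {x} hx hax w hw => by
      rw [conj_eq]; exact mul_mem (hax (comm_mem_axis (P.W_le S hw))) hw
  have hle : E a b ≤ Subgroup.normalizer (W V a b : Set G) := by
    rw [Subgroup.closure_le]
    have key : ∀ {x : G}, Tv p V H x → axisSet V x ≤ W V a b → x ∈ Subgroup.normalizer (W V a b : Set G) := by
      intro x hx hax
      have hmap : (W V a b).map (MulAut.conj x).toMonoidHom = W V a b :=
        Subgroup.eq_of_le_of_card_ge (by rintro _ ⟨w, hw, rfl⟩; exact hgen hx hax w hw)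
          (by rw [Subgroup.card_map_of_injective (MulAut.conj x).injective])
      refine Subgroup.mem_normalizer_iff.2 fun y => ⟨fun hy => hgen hx hax y hy, fun hy => ?_⟩
      obtain ⟨z, hz, hzy⟩ := hmap.ge hy
      exact (MulAut.conj x).injective hzy ▸ hz
    rintro x (rfl | rfl)
    · exact key P.ta le_sup_left
    · exact key P.tb le_sup_right
  exact (Subgroup.mem_normalizer_iff.1 (hle he) w).1 hw

theorem faithful_W (S : Setup p V H K) (P : Pair p V H K a b) {e : G} (he : e ∈ E a b)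
    (hW : ∀ w ∈ W V a b, Commute e w) : e = 1 := by
  rw [← Subgroup.mem_bot, ← S.faith]
  refine Subgroup.mem_inf.2 ⟨P.E_le he, fun v hv => ?_⟩
  obtain ⟨w, hw, c, hc, rfl⟩ := P.exists_decomp_mem S hv
  exact ((hW w hw).mul_right (P.E_fix_C he hc)).eq.symm

theorem commutator_E (S : Setup p V H K) (P : Pair p V H K a b) : ⁅V, E a b⁆ = W V a b := by
  refine le_antisymm ?_ (sup_le ?_ ?_)
  · rw [Subgroup.commutator_le]
    intro v hv e he
    obtain ⟨w, hw, c, hc, rfl⟩ := P.exists_decomp_mem S hv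
    have h2 : ⁅w * c, e⁆ = w * (e * w⁻¹ * e⁻¹) := by
      have : Commute c e := (P.E_fix_C he hc).symm
      rw [commutatorElement_def]
      calc w * c * e * (w * c)⁻¹ * e⁻¹ = w * (c * e * c⁻¹) * w⁻¹ * e⁻¹ := by group
        _ = w * (e * w⁻¹ * e⁻¹) := by rw [this.eq]; group
    rw [h2]
    exact mul_mem hw (P.E_conj_W S he (inv_mem hw))
  all_goals
    intro x hx
    obtain ⟨v, hv, rfl⟩ := (axis_eq_image S (by first | exact P.ta.mem | exact P.tb.mem)).1 hx
    rw [← commutatorElement_inv]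
    exact inv_mem (Subgroup.commutator_mem_commutator hv (Subgroup.subset_closure (by simp)))

theorem coord (S : Setup p V H K) (P : Pair p V H K a b) :
    ∃ (la lb : G), la ∈ axisSet V a ∧ lb ∈ axisSet V b ∧ ⁅a, lb⁆ = la ∧
      Subgroup.zpowers la = axisSet V a ∧ Subgroup.zpowers lb = axisSet V b := by
  obtain ⟨lb, hlb, hlb'⟩ := SetLike.not_le_iff_exists.1 (P.symm.cross S)
  have hla1 : ⁅a, lb⁆ ≠ 1 := fun e => hlb' (fixed_iff.2 e)
  have hlb1 : lb ≠ 1 := fun e => hlb' (e ▸ one_mem _)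
  refine ⟨⁅a, lb⁆, lb, comm_mem_axis (axis_le S P.tb.mem hlb), hlb, rfl, ?_, ?_⟩
  · exact eq_of_card_p (P.ta.card_axis S) (Subgroup.zpowers_le.2 (comm_mem_axis (axis_le S P.tb.mem hlb)))
      (by simpa [Subgroup.zpowers_eq_bot] using hla1)
  · exact eq_of_card_p (P.tb.card_axis S) (Subgroup.zpowers_le.2 hlb) (by simpa [Subgroup.zpowers_eq_bot] using hlb1)

theorem equiv (S : Setup p V H K) (P : Pair p V H K a b) :
    ∃ e : ↥(E a b) ≃* Matrix.SpecialLinearGroup (Fin 2) (ZMod p),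
      e ⟨a, Subgroup.subset_closure (Set.mem_insert a _)⟩ = CfsgLib.Dickson.up 1 := by
  classical
  haveI : NeZero p := ⟨(Fact.out : p.Prime).ne_zero⟩
  obtain ⟨la, lb, hla, hlb, hab, hza, hzb⟩ := P.coord S
  have hlap : la ^ p = 1 := S.elem.2 _ (axis_le S P.ta.mem hla)
  have hlbp : lb ^ p = 1 := S.elem.2 _ (axis_le S P.tb.mem hlb)
  have hpow : ∀ {z : G}, z ^ p = 1 → ∀ i j : ZMod p, z ^ (i + j).val = z ^ i.val * z ^ j.val := by
    intro z hz i j
    rw [ZMod.val_add, ← pow_add]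
    conv_rhs => rw [← Nat.mod_add_div (i.val + j.val) p, pow_add, pow_mul, hz, one_pow, mul_one]
  let ψ : (Fin 2 → ZMod p) → G := fun t => la ^ (t 0).val * lb ^ (t 1).val
  have hψW : ∀ t, ψ t ∈ W V a b := fun t => Subgroup.mul_mem_sup (pow_mem hla _) (pow_mem hlb _)
  have hψadd : ∀ s t, ψ (s + t) = ψ s * ψ t := by
    intro s t
    simp only [ψ, Pi.add_apply, hpow hlap, hpow hlbp]
    have hc : Commute (la ^ (t 0).val) (lb ^ (s 1).val) :=
      ((comm_V S (axis_le S P.ta.mem hla) (axis_le S P.tb.mem hlb)).pow_pow _ _)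
    calc la ^ (s 0).val * la ^ (t 0).val * (lb ^ (s 1).val * lb ^ (t 1).val)
        = la ^ (s 0).val * (la ^ (t 0).val * lb ^ (s 1).val) * lb ^ (t 1).val := by group
      _ = _ := by rw [hc.eq]; group
  have hψsurj : ∀ w ∈ W V a b, ∃ t, ψ t = w := by
    intro w hw
    obtain ⟨x, hx, y, hy, rfl⟩ := P.mem_W S hw
    have key : ∀ {z x : G}, z ^ p = 1 → x ∈ Subgroup.zpowers z → ∃ i : ZMod p, z ^ i.val = x := by
      intro z x hz hx
      obtain ⟨k, rfl⟩ := Subgroup.mem_zpowers_iff.1 hx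
      refine ⟨(k : ZMod p), ?_⟩
      rw [← zpow_natCast z, ZMod.val_intCast]
      conv_rhs => rw [← Int.emod_add_mul_ediv k p, zpow_add, zpow_mul, zpow_natCast, hz, one_zpow, mul_one]
    obtain ⟨i, hi⟩ := key hlap (hza.ge hx)
    obtain ⟨j, hj⟩ := key hlbp (hzb.ge hy)
    exact ⟨![i, j], by simp [ψ, hi, hj]⟩
  let ψ' : (Fin 2 → ZMod p) → ↥(W V a b) := fun t => ⟨ψ t, hψW t⟩
  haveI := Fintype.ofFinite ↥(W V a b)
  have hψbij : Function.Bijective ψ' := by
    refine (Fintype.bijective_iff_surjective_and_card ψ').2 ⟨fun w => ?_, ?_⟩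
    · obtain ⟨t, ht⟩ := hψsurj w w.2
      exact ⟨t, Subtype.ext ht⟩
    · rw [Fintype.card_pi_const, ZMod.card, ← Nat.card_eq_fintype_card, P.card_W S]
  let ψe := Equiv.ofBijective ψ' hψbij
  -- the linear action
  let act : ↥(E a b) → (Fin 2 → ZMod p) → (Fin 2 → ZMod p) := fun e t =>
    ψe.symm ⟨(e : G) * ψ t * (e : G)⁻¹, P.E_conj_W S e.2 (hψW t)⟩
  have hact : ∀ e t, ψ (act e t) = (e : G) * ψ t * (e : G)⁻¹ := by
    intro e t
    exact congrArg Subtype.val (ψe.apply_symm_apply ⟨(e : G) * ψ t * (e : G)⁻¹, P.E_conj_W S e.2 (hψW t)⟩)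
  have hψinj : ∀ {s t}, ψ s = ψ t → s = t := fun {s t} h => hψbij.1 (Subtype.ext h)
  have hψ0 : ψ 0 = 1 := by simp [ψ]
  let lin : ↥(E a b) → ((Fin 2 → ZMod p) →ₗ[ZMod p] (Fin 2 → ZMod p)) := fun e =>
    AddMonoidHom.toZModLinearMap p
      { toFun := act e
        map_zero' := hψinj (by rw [hact, hψ0]; group)
        map_add' := fun s t => hψinj (by rw [hact, hψadd, hψadd, hact, hact]; group) }
  let Mf : ↥(E a b) →* Matrix (Fin 2) (Fin 2) (ZMod p) :=
    { toFun := fun e => LinearMap.toMatrix' (lin e)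
      map_one' := by
        rw [← LinearMap.toMatrix'_id]
        congr 1
        refine LinearMap.ext fun t => hψinj ?_
        show ψ (act 1 t) = ψ t
        rw [hact, OneMemClass.coe_one]; group
      map_mul' := fun e f => by
        rw [← LinearMap.toMatrix'_comp]
        congr 1
        refine LinearMap.ext fun t => hψinj ?_
        show ψ (act (e * f) t) = ψ (act e (act f t))
        rw [hact, hact, hact, Subgroup.coe_mul]; group }
  have hMf : ∀ e i j, Mf e i j = act e (Pi.single j 1) i := by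
    intro e i j
    show LinearMap.toMatrix' (lin e) i j = _
    rw [LinearMap.toMatrix'_apply]
    rfl
  set ea : ↥(E a b) := ⟨a, Subgroup.subset_closure (Set.mem_insert a _)⟩ with hea
  set eb : ↥(E a b) := ⟨b, Subgroup.subset_closure (Set.mem_insert_of_mem _ rfl)⟩ with heb
  haveI : Fact (1 < p) := ⟨(Fact.out : p.Prime).one_lt⟩
  have hs0 : ψ (Pi.single 0 1) = la := by simp [ψ, ZMod.val_one]
  have hs1 : ψ (Pi.single 1 1) = lb := by simp [ψ, ZMod.val_one]
  have hfa : a * la * a⁻¹ = la := by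
    rw [← Subgroup.mem_centralizer_singleton_iff.1 (P.ta.fix_axis S hla), mul_inv_cancel_right]
  have hfb : b * lb * b⁻¹ = lb := by
    rw [← Subgroup.mem_centralizer_singleton_iff.1 (P.tb.fix_axis S hlb), mul_inv_cancel_right]
  have ha0 : act ea (Pi.single 0 1) = ![1, 0] := hψinj (by
    rw [hact, hs0]; simp [ψ, hea, hfa, ZMod.val_one])
  have ha1 : act ea (Pi.single 1 1) = ![1, 1] := hψinj (by
    rw [hact, hs1, show ((ea : ↥(E a b)) : G) = a from rfl, conj_eq, hab]
    simp [ψ, ZMod.val_one])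
  obtain ⟨β, hβ⟩ : ∃ β : ZMod p, lb ^ β.val = ⁅b, la⁆ := by
    obtain ⟨t, ht⟩ := hψsurj ⁅b, la⁆ (Subgroup.mem_sup_right (comm_mem_axis (axis_le S P.ta.mem hla)))
    refine ⟨t 1, ?_⟩
    have hmem : la ^ (t 0).val ∈ axisSet V a ⊓ Subgroup.centralizer {b} := by
      refine Subgroup.mem_inf.2 ⟨pow_mem hla _, ?_⟩
      have e : la ^ (t 0).val = ⁅b, la⁆ * (lb ^ (t 1).val)⁻¹ := eq_mul_inv_of_mul_eq ht
      rw [e]
      exact mul_mem (P.tb.fix_axis S (comm_mem_axis (axis_le S P.ta.mem hla))) (inv_mem (pow_mem (P.tb.fix_axis S hlb) _))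
    rw [P.inf_axis S, Subgroup.mem_bot] at hmem
    rw [← ht]; simp [ψ, hmem]
  have hβ0 : β ≠ 0 := by
    intro e
    rw [e, ZMod.val_zero, pow_zero] at hβ
    refine P.cross S ?_
    rw [← hza, Subgroup.zpowers_le, fixed_iff]
    exact hβ.symm
  have hb0 : act eb (Pi.single 0 1) = ![1, β] := hψinj (by
    rw [hact, hs0, show ((eb : ↥(E a b)) : G) = b from rfl, conj_eq,
      (comm_V S (axis_le S P.tb.mem (comm_mem_axis (axis_le S P.ta.mem hla))) (axis_le S P.ta.mem hla)).eq, ← hβ]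
    simp [ψ, ZMod.val_one])
  have hb1 : act eb (Pi.single 1 1) = ![0, 1] := hψinj (by
    rw [hact, hs1]; simp [ψ, heb, hfb, ZMod.val_one])
  have hMa : Mf ea = (CfsgLib.Dickson.up 1 : Matrix.SpecialLinearGroup (Fin 2) (ZMod p)).1 := by
    ext i j; fin_cases i <;> fin_cases j <;> simp [hMf, ha0, ha1]
  have hMb : Mf eb = (CfsgLib.Dickson.lo β : Matrix.SpecialLinearGroup (Fin 2) (ZMod p)).1 := by
    ext i j; fin_cases i <;> fin_cases j <;> simp [hMf, hb0, hb1]
  have htop : Subgroup.closure ({ea, eb} : Set ↥(E a b)) = ⊤ := by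
    apply Subgroup.map_injective (E a b).subtype_injective
    rw [MonoidHom.map_closure, ← MonoidHom.range_eq_map, Subgroup.range_subtype, Set.image_pair]
    rfl
  have hdet : ∀ e, (Mf e).det = 1 := by
    intro e
    have hle : Subgroup.closure ({ea, eb} : Set ↥(E a b)) ≤ (((Matrix.detMonoidHom).comp Mf).toHomUnits).ker := by
      rw [Subgroup.closure_le]
      rintro x (rfl | rfl)
      · refine Units.ext ?_
        show (Mf ea).det = 1
        rw [hMa]; exact (CfsgLib.Dickson.up (1 : ZMod p)).2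
      · refine Units.ext ?_
        show (Mf eb).det = 1
        rw [hMb]; exact (CfsgLib.Dickson.lo β).2
    exact congrArg Units.val (hle (htop.ge (Subgroup.mem_top e)))
  let θ : ↥(E a b) →* Matrix.SpecialLinearGroup (Fin 2) (ZMod p) :=
    MonoidHom.mk' (fun e => ⟨Mf e, hdet e⟩) (fun e f => Subtype.ext (map_mul Mf e f))
  have hinj : Function.Injective θ := by
    rw [injective_iff_map_eq_one]
    intro e he
    have hM : Mf e = 1 := congrArg Subtype.val he
    refine Subtype.ext (P.faithful_W S e.2 fun w hw => ?_)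
    obtain ⟨t, rfl⟩ := hψsurj w hw
    have h1 : lin e = LinearMap.id := LinearMap.toMatrix'.injective (hM.trans LinearMap.toMatrix'_id.symm)
    have h2 : act e t = t := LinearMap.congr_fun h1 t
    have := hact e t
    rw [h2] at this
    exact (eq_mul_inv_iff_mul_eq.1 this).symm
  have hsurj : Function.Surjective θ := by
    rw [← MonoidHom.range_eq_top, eq_top_iff, ← CfsgLib.Dickson.closure_pair p, Subgroup.closure_le]
    rintro x (rfl | rfl)
    · exact ⟨ea, Subtype.ext hMa⟩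
    · have hb : CfsgLib.Dickson.lo β ∈ θ.range := ⟨eb, Subtype.ext hMb⟩
      have := θ.range.pow_mem hb (β⁻¹ : ZMod p).val
      rwa [CfsgLib.Dickson.lo_pow, ZMod.natCast_zmod_val, inv_mul_cancel₀ hβ0] at this
  refine ⟨MulEquiv.ofBijective θ ⟨hinj, hsurj⟩, Subtype.ext hMa⟩

/-- `E ∩ K`. -/
abbrev T (K : Subgroup G) (a b : G) : Subgroup G := K ⊓ E a b

theorem T_conj (S : Setup p V H K) (P : Pair p V H K a b) {e t : G} (he : e ∈ E a b) (ht : t ∈ T K a b) :
    e * t * e⁻¹ ∈ T K a b :=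
  Subgroup.mem_inf.2 ⟨(Subgroup.mem_normalizer_iff.1 (S.normK (P.E_le he)) t).1 ht.1, mul_mem (mul_mem he ht.2) (inv_mem he)⟩

theorem decomp_E (S : Setup p V H K) (P : Pair p V H K a b) {e : G} (he : e ∈ E a b) :
    ∃ t ∈ T K a b, ∃ i : ℕ, e = t * a ^ i := by
  have hn : Subgroup.zpowers a ≤ Subgroup.normalizer (T K a b : Set G) := le_normalizer_of_conj fun x hx y hy =>
    P.T_conj S (Subgroup.zpowers_le.2 (Subgroup.subset_closure (Set.mem_insert a _)) hx) hy
  have hle : E a b ≤ T K a b ⊔ Subgroup.zpowers a := by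
    rw [Subgroup.closure_le]
    rintro x (rfl | rfl)
    · exact Subgroup.mem_sup_right (Subgroup.mem_zpowers x)
    · have hmem : x * a⁻¹ ∈ T K a x := Subgroup.mem_inf.2 ⟨P.mem, mul_mem (Subgroup.subset_closure (Set.mem_insert_of_mem _ rfl))
        (inv_mem (Subgroup.subset_closure (Set.mem_insert a _)))⟩
      have := Subgroup.mul_mem_sup hmem (Subgroup.mem_zpowers a)
      rwa [inv_mul_cancel_right] at this
  have h1 := hle he
  rw [sup_comm] at h1
  obtain ⟨x, hx, y, hy, hxy⟩ :=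
    (Subgroup.coe_mul_of_left_le_normalizer_right (H := Subgroup.zpowers a) (N := T K a b) hn).le h1
  refine ⟨x * y * x⁻¹, P.T_conj S (Subgroup.zpowers_le.2 (Subgroup.subset_closure (Set.mem_insert a _)) hx) hy, ?_⟩
  obtain ⟨i, hi⟩ := ((isOfFinOrder_of_finite a).mem_powers_iff_mem_zpowers).2 hx
  exact ⟨i, by rw [← hxy]; simp only at hi; rw [hi, inv_mul_cancel_right]⟩

theorem p_le_three (S : Setup p V H K) (P : Pair p V H K a b) : p = 2 ∨ p = 3 := by
  have hp := (Fact.out : p.Prime)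
  obtain ⟨e, hea⟩ := P.equiv S
  by_contra hne
  push Not at hne
  have h5 : 5 ≤ p := by
    have := hp.two_le
    rcases (show p = 4 ∨ 5 ≤ p by omega) with rfl | h
    · norm_num at hp
    · exact h
  haveI : NeZero p := ⟨hp.ne_zero⟩
  have h2 : (2 : ZMod p) ≠ 0 := by
    intro h
    have : ((2 : ℕ) : ZMod p) = 0 := by exact_mod_cast h
    rw [ZMod.natCast_eq_zero_iff] at this
    have := Nat.le_of_dvd (by norm_num) this
    omega
  let d : Matrix.SpecialLinearGroup (Fin 2) (ZMod p) := ⟨!![2, 0; 0, 2⁻¹], by simp [Matrix.det_fin_two, h2]⟩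
  set ea : ↥(E a b) := ⟨a, Subgroup.subset_closure (Set.mem_insert a _)⟩ with hea'
  set x : ↥(E a b) := e.symm d with hx
  have hconj : x * ea * x⁻¹ = ea ^ 4 := by
    apply e.injective
    rw [map_mul, map_mul, map_inv, map_pow, hea, hx, e.apply_symm_apply, CfsgLib.Dickson.up_pow]
    rw [mul_inv_eq_iff_eq_mul]
    refine Subtype.ext ?_
    rw [Matrix.SpecialLinearGroup.coe_mul, Matrix.SpecialLinearGroup.coe_mul, CfsgLib.Dickson.coe_up, CfsgLib.Dickson.coe_up]
    show (!![2, 0; 0, 2⁻¹] : Matrix (Fin 2) (Fin 2) (ZMod p)) * !![1, 1; 0, 1] = !![1, ((4 : ℕ) : ZMod p) * 1; 0, 1] * !![2, 0; 0, 2⁻¹]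
    ext i j
    fin_cases i <;> fin_cases j <;> simp [Matrix.mul_apply, Fin.sum_univ_two]
    field_simp
    norm_num
  obtain ⟨t, ht, i, hti⟩ := P.decomp_E S x.2
  have h1 : (x : G) * a * (x : G)⁻¹ = a ^ 4 := congrArg Subtype.val hconj
  rw [hti] at h1
  have h3 : t * a * t⁻¹ = a ^ 4 := by
    rw [← h1]
    have : Commute (a ^ i) a := (Commute.refl a).pow_left i
    calc t * a * t⁻¹ = t * (a ^ i * a * (a ^ i)⁻¹) * t⁻¹ := by rw [this.eq, mul_inv_cancel_right]
      _ = _ := by group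
  have hK : a ^ 3 ∈ K := by
    have e1 : a ^ 3 = t * (a * t⁻¹ * a⁻¹) := by
      calc a ^ 3 = a ^ 4 * a⁻¹ := by group
        _ = _ := by rw [← h3]; group
    rw [e1]
    exact mul_mem ht.1 ((Subgroup.mem_normalizer_iff.1 (S.normK P.ta.mem) _).1 (inv_mem ht.1))
  have h4 := Nat.eq_one_of_dvd_coprimes (S.coprime_of_mem hK) dvd_rfl
    ((orderOf_pow_dvd 3).trans P.ta.ord.dvd)
  rw [orderOf_eq_one_iff, ← orderOf_dvd_iff_pow_eq_one, P.ta.ord] at h4
  have := Nat.le_of_dvd (by norm_num) h4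
  omega

end Pair

end CfsgLib.Offender
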