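import Mathlib
import Cfsg.Agent.Lib.PLocal.Offender.Transvection

/-!
The plane of a pair of transvections and the uniqueness of the group `E`.
-/

set_option autoImplicit false
set_option linter.unusedSectionVars false

universe u

namespace CfsgLib.Offender

open Cfsg
open scoped commutatorElement

variable {G : Type u} [Group G] [Finite G] {p : ℕ} [Fact p.Prime] {V H K : Subgroup G}

theorem conj_map_V (S : Setup p V H K) {m : G} (hm : m ∈ H) : V.map (MulAut.conj m).toMonoidHom = V :=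
  Subgroup.eq_of_le_of_card_ge (by rintro _ ⟨v, hv, rfl⟩; exact conj_mem_V S hm hv)
    (by rw [Subgroup.card_map_of_injective (MulAut.conj m).injective])

theorem mem_map_centralizer {m a x : G} :
    m * x * m⁻¹ ∈ Subgroup.centralizer {m * a * m⁻¹} ↔ x ∈ Subgroup.centralizer {a} := by
  rw [Subgroup.mem_centralizer_singleton_iff, Subgroup.mem_centralizer_singleton_iff]
  constructor
  · intro h
    have h' : m * (x * a) * m⁻¹ = m * (a * x) * m⁻¹ := by
      calc m * (x * a) * m⁻¹ = m * x * m⁻¹ * (m * a * m⁻¹) := by group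
        _ = m * a * m⁻¹ * (m * x * m⁻¹) := h
        _ = _ := by group
    exact mul_left_cancel (mul_right_cancel h')
  · intro h
    calc m * x * m⁻¹ * (m * a * m⁻¹) = m * (x * a) * m⁻¹ := by group
      _ = m * (a * x) * m⁻¹ := by rw [h]
      _ = _ := by group

theorem map_fixed (S : Setup p V H K) {m a : G} (hm : m ∈ H) :
    (V ⊓ Subgroup.centralizer {a}).map (MulAut.conj m).toMonoidHom = V ⊓ Subgroup.centralizer {m * a * m⁻¹} := by
  ext y
  constructor
  · rintro ⟨v, hv, rfl⟩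
    exact Subgroup.mem_inf.2 ⟨conj_mem_V S hm hv.1, mem_map_centralizer.2 hv.2⟩
  · intro hy
    obtain ⟨v, hv, rfl⟩ := (conj_map_V S hm).ge (Subgroup.mem_inf.1 hy).1
    exact ⟨v, Subgroup.mem_inf.2 ⟨hv, mem_map_centralizer.1 (Subgroup.mem_inf.1 hy).2⟩, rfl⟩

theorem Tv.conj (S : Setup p V H K) {m a : G} (hm : m ∈ H) (h : Tv p V H a) : Tv p V H (m * a * m⁻¹) := by
  refine ⟨mul_mem (mul_mem hm h.mem) (inv_mem hm), ?_, ?_⟩
  · rw [← MulAut.conj_apply, MulEquiv.orderOf_eq, h.ord]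
  · rw [← map_fixed S hm, Subgroup.card_map_of_injective (MulAut.conj m).injective]; exact h.index

theorem comm_conj_mem (S : Setup p V H K) {x a : G} (hx : x ∈ K) (ha : a ∈ H) : x * a * x⁻¹ * a⁻¹ ∈ K := by
  have e : x * a * x⁻¹ * a⁻¹ = x * (a * x⁻¹ * a⁻¹) := by group
  rw [e]
  exact mul_mem hx ((Subgroup.mem_normalizer_iff.1 (S.normK ha) _).1 (inv_mem hx))

theorem pair_of_conj (S : Setup p V H K) {a x : G} (ha : Tv p V H a) (hx : x ∈ K) (hne : ¬ Commute x a) :
    Pair p V H K a (x * a * x⁻¹) :=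
  ⟨ha, ha.conj S (S.KH hx), comm_conj_mem S hx ha.mem, fun e => hne (mul_inv_eq_iff_eq_mul.1 e)⟩

theorem exists_not_commute (S : Setup p V H K) {a : G} (ha : Tv p V H a) : ∃ x ∈ K, ¬ Commute x a := by
  by_contra hall
  push Not at hall
  have haK : a ∈ K := S.cK ⟨ha.mem, fun k hk => (hall k hk).eq⟩
  have h := Nat.eq_one_of_dvd_coprimes (S.coprime_of_mem haK) dvd_rfl ha.ord.dvd
  rw [ha.ord] at h
  exact (Fact.out : p.Prime).one_lt.ne h.symm

namespace Pair

variable {a b : G}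

theorem quot_mem_T (P : Pair p V H K a b) : b * a⁻¹ ∈ T K a b :=
  Subgroup.mem_inf.2 ⟨P.mem, mul_mem (Subgroup.subset_closure (Set.mem_insert_of_mem _ rfl))
    (inv_mem (Subgroup.subset_closure (Set.mem_insert a _)))⟩

theorem T_le_H (S : Setup p V H K) : T K a b ≤ H := inf_le_left.trans S.KH

theorem mem_T_of_coprime (S : Setup p V H K) (P : Pair p V H K a b) {e : G} (he : e ∈ E a b)
    (hc : (orderOf e).Coprime p) : e ∈ T K a b := by
  obtain ⟨t, ht, i, rfl⟩ := P.decomp_E S he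
  have haE : a ∈ E a b := Subgroup.subset_closure (Set.mem_insert a _)
  have key : ∀ n : ℕ, (t * a ^ i) ^ n * (a ^ i)⁻¹ ^ n ∈ T K a b := by
    intro n
    induction n with
    | zero => simp
    | succ n ih =>
      set w := a ^ i with hw
      have e1 : (t * w) ^ (n + 1) * w⁻¹ ^ (n + 1) = t * (w * ((t * w) ^ n * w⁻¹ ^ n) * w⁻¹) := by
        rw [pow_succ' (t * w), pow_succ w⁻¹]; group
      rw [e1]
      exact mul_mem ht (P.T_conj S (pow_mem haE i) ih)
  have h1 := key p
  have hap : (a ^ i)⁻¹ ^ p = 1 := by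
    rw [inv_pow, ← pow_mul, mul_comm, pow_mul, ← P.ta.ord, pow_orderOf_eq_one, one_pow, inv_one]
  rw [hap, mul_one] at h1
  obtain ⟨n, hn⟩ := exists_pow_eq_self_of_coprime hc.symm
  rw [← hn]
  exact pow_mem h1 n

theorem card_E (S : Setup p V H K) (P : Pair p V H K a b) :
    (p = 2 ∧ Nat.card (E a b) = 6) ∨ (p = 3 ∧ Nat.card (E a b) = 24) := by
  obtain ⟨e, -⟩ := P.equiv S
  rcases P.p_le_three S with rfl | rfl
  · left; refine ⟨rfl, ?_⟩; rw [Nat.card_congr e.toEquiv, Nat.card_eq_fintype_card]; decide +kernel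
  · right; refine ⟨rfl, ?_⟩; rw [Nat.card_congr e.toEquiv, Nat.card_eq_fintype_card]; decide +kernel

theorem T_two (S : Setup p V H K) (P : Pair p V H K a b) (hp : p = 2) : ∀ t ∈ T K a b, t ^ 3 = 1 := by
  intro t ht
  have h6 : orderOf t ∣ 6 := by
    rcases P.card_E S with ⟨-, h⟩ | ⟨h3, -⟩
    · exact h ▸ Subgroup.orderOf_dvd_natCard _ (Subgroup.mem_inf.1 ht).2
    · omega
  refine orderOf_dvd_iff_pow_eq_one.1 (Nat.Coprime.dvd_of_dvd_mul_left (m := 2) ?_ (by simpa using h6))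
  exact hp ▸ S.coprime_of_mem (Subgroup.mem_inf.1 ht).1

theorem T_three (S : Setup p V H K) (P : Pair p V H K a b) (hp : p = 3) :
    (∀ t ∈ T K a b, t ^ 8 = 1) ∧ ∃ t ∈ T K a b, ∃ s ∈ T K a b, ¬ Commute t s := by
  have hcard : Nat.card (E a b) = 24 := by
    rcases P.card_E S with ⟨h2, -⟩ | ⟨-, h⟩
    · omega
    · exact h
  refine ⟨fun t ht => ?_, ?_⟩
  · refine orderOf_dvd_iff_pow_eq_one.1 (Nat.Coprime.dvd_of_dvd_mul_left (m := 3) ?_ (by
      simpa [hcard] using Subgroup.orderOf_dvd_natCard (E a b) (Subgroup.mem_inf.1 ht).2))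
    exact hp ▸ S.coprime_of_mem (Subgroup.mem_inf.1 ht).1
  · subst hp
    obtain ⟨e, -⟩ := P.equiv S
    obtain ⟨g, h, hg, hh, hgh⟩ : ∃ g h : Matrix.SpecialLinearGroup (Fin 2) (ZMod 3),
        g ^ 4 = 1 ∧ h ^ 4 = 1 ∧ g * h ≠ h * g := by decide +kernel
    have hmem : ∀ g : Matrix.SpecialLinearGroup (Fin 2) (ZMod 3), g ^ 4 = 1 → (e.symm g : G) ∈ T K a b := by
      intro g hg
      refine P.mem_T_of_coprime S (e.symm g).2 ?_
      rw [Subgroup.orderOf_coe, MulEquiv.orderOf_eq]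
      exact Nat.Coprime.coprime_dvd_left (orderOf_dvd_of_pow_eq_one hg) (by norm_num)
    refine ⟨_, hmem g hg, _, hmem h hh, fun hc => hgh ?_⟩
    apply e.symm.injective
    rw [map_mul, map_mul]
    exact Subtype.ext hc.eq

/-- No line of the plane is invariant under `T`. -/
theorem line_invariant (S : Setup p V H K) (P : Pair p V H K a b) {U : Subgroup G} (hU : U ≤ W V a b)
    (hUc : Nat.card U = p) (hinv : ∀ t ∈ T K a b, ∀ u ∈ U, t * u * t⁻¹ ∈ U) : False := by
  have hp := (Fact.out : p.Prime)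
  obtain ⟨u, hu⟩ := exists_prime_orderOf_dvd_card' (G := U) p (by rw [hUc])
  have huo : orderOf (u : G) = p := by rw [Subgroup.orderOf_coe, hu]
  have hUgen : Subgroup.zpowers (u : G) = U :=
    Subgroup.eq_of_le_of_card_ge (Subgroup.zpowers_le.2 u.2) (by rw [hUc, Nat.card_zpowers, huo])
  have hUlt : U ≠ W V a b := fun e => by
    have := P.card_W S
    rw [← e, hUc] at this
    have := Nat.pow_right_injective hp.two_le ((pow_one p).trans this)
    omega
  obtain ⟨z, hzW, hzU⟩ := SetLike.exists_of_lt (lt_of_le_of_ne hU hUlt)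
  have hWV := P.W_le S
  have hUn : Subgroup.zpowers z ≤ Subgroup.normalizer (U : Set G) := le_normalizer_of_conj fun x hx y hy => by
    rw [(comm_V S (hWV (Subgroup.zpowers_le.2 hzW hx)) (hWV (hU hy))).eq, mul_inv_cancel_right]; exact hy
  have hW2 : Subgroup.zpowers z ⊔ U = W V a b := by
    refine Subgroup.eq_of_le_of_card_ge (sup_le (Subgroup.zpowers_le.2 hzW) hU) ?_
    obtain ⟨j, hj⟩ := card_eq_pow (elem_of_le S.elem ((sup_le (Subgroup.zpowers_le.2 hzW) hU).trans hWV))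
    rw [P.card_W S, hj]
    refine Nat.pow_le_pow_right hp.pos ?_
    by_contra hlt
    have heq : U = Subgroup.zpowers z ⊔ U := Subgroup.eq_of_le_of_card_ge le_sup_right (by
      rw [hj, hUc]
      calc p ^ j ≤ p ^ 1 := Nat.pow_le_pow_right hp.pos (by omega)
        _ = p := pow_one p)
    exact hzU (heq.ge (Subgroup.mem_sup_left (Subgroup.mem_zpowers z)))
  have hkill : ∀ t ∈ T K a b, t ^ (p - 1) = 1 := by
    intro t ht
    have htH := T_le_H S ht
    obtain ⟨i, hi⟩ := Subgroup.mem_zpowers_iff.1 (hUgen.ge (hinv t ht u u.2))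
    have htz : t * z * t⁻¹ ∈ Subgroup.zpowers z ⊔ U := hW2.ge (P.E_conj_W S (Subgroup.mem_inf.1 ht).2 hzW)
    obtain ⟨x, hx, u', hu', hxu⟩ :=
      (Subgroup.coe_mul_of_left_le_normalizer_right (H := Subgroup.zpowers z) (N := U) hUn).le htz
    obtain ⟨j, rfl⟩ := Subgroup.mem_zpowers_iff.1 hx
    have hi0 : ¬ (p : ℤ) ∣ i := by
      intro hd
      have h1 : (u : G) ^ i = 1 := by rw [← orderOf_dvd_iff_zpow_eq_one, huo]; exact hd
      rw [h1] at hi
      have : (u : G) = 1 := conj_eq_one_iff.1 hi.symm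
      rw [this, orderOf_one] at huo
      exact hp.one_lt.ne huo
    have hzo : orderOf z = p :=
      orderOf_eq_prime (S.elem.2 z (hWV hzW)) (fun e => hzU (e ▸ one_mem U))
    have hfix : ∀ (n : ℕ), ∀ y ∈ U, t ^ n * y * (t ^ n)⁻¹ = y ^ (i ^ n) := by
      intro n
      induction n with
      | zero => intro y _; simp
      | succ n ih =>
        intro y hy
        obtain ⟨l, rfl⟩ := Subgroup.mem_zpowers_iff.1 (hUgen.ge hy)
        calc t ^ (n + 1) * (u : G) ^ l * (t ^ (n + 1))⁻¹ = t ^ n * (t * (u : G) ^ l * t⁻¹) * (t ^ n)⁻¹ := by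
              rw [pow_succ]; group
          _ = t ^ n * ((u : G) ^ l) ^ i * (t ^ n)⁻¹ := by
              rw [← MulAut.conj_apply (g := t), map_zpow, MulAut.conj_apply, ← hi, ← zpow_mul, ← zpow_mul, mul_comm i]
          _ = ((u : G) ^ l) ^ (i ^ (n + 1)) := by
              rw [ih _ (zpow_mem hy i), ← zpow_mul, pow_succ']
    have hj0 : ¬ (p : ℤ) ∣ j := by
      intro hd
      have h1 : z ^ j = 1 := by rw [← orderOf_dvd_iff_zpow_eq_one, hzo]; exact hd
      simp only [h1, one_mul] at hxu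
      have h2 : t⁻¹ * u' * t ∈ U := by
        obtain ⟨y, hy, hy'⟩ := (Subgroup.eq_of_le_of_card_ge (show U.map (MulAut.conj t).toMonoidHom ≤ U by
          rintro _ ⟨y, hy, rfl⟩; exact hinv t ht y hy) (by rw [Subgroup.card_map_of_injective (MulAut.conj t).injective])).ge hu'
        rw [← hy']; simpa [mul_assoc] using hy
      rw [hxu] at h2
      exact hzU (by simpa [mul_assoc] using h2)
    have hmod : ∀ n : ℕ, ∃ y ∈ U, t ^ n * z * (t ^ n)⁻¹ = z ^ (j ^ n) * y := by
      intro n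
      induction n with
      | zero => exact ⟨1, one_mem U, by simp⟩
      | succ n ih =>
        obtain ⟨y, hy, hy'⟩ := ih
        refine ⟨u' ^ (j ^ n) * (t * y * t⁻¹), mul_mem (zpow_mem hu' _) (hinv t ht y hy), ?_⟩
        calc t ^ (n + 1) * z * (t ^ (n + 1))⁻¹ = t * (t ^ n * z * (t ^ n)⁻¹) * t⁻¹ := by rw [pow_succ']; group
          _ = (t * z * t⁻¹) ^ (j ^ n) * (t * y * t⁻¹) := by
            rw [hy', ← MulAut.conj_apply, map_mul, map_zpow, MulAut.conj_apply, MulAut.conj_apply]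
          _ = (z ^ j * u') ^ (j ^ n) * (t * y * t⁻¹) := by rw [← hxu]
          _ = z ^ (j ^ (n + 1)) * (u' ^ (j ^ n) * (t * y * t⁻¹)) := by
            rw [((comm_V S (hWV hzW) (hWV (hU hu'))).zpow_left j).mul_zpow, ← zpow_mul, ← pow_succ', mul_assoc]
    have hfermat : ∀ {w : G} {l : ℤ}, orderOf w = p → ¬ (p : ℤ) ∣ l → w ^ (l ^ (p - 1)) = w := by
      intro w l hw hl
      have h1 : (p : ℤ) ∣ l ^ (p - 1) - 1 := by
        rw [← ZMod.intCast_zmod_eq_zero_iff_dvd] at hl ⊢
        push_cast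
        rw [ZMod.pow_card_sub_one_eq_one hl, sub_self]
      have h2 : w ^ (l ^ (p - 1) - 1) = 1 := by rw [← orderOf_dvd_iff_zpow_eq_one, hw]; exact h1
      rwa [zpow_sub_one, mul_inv_eq_one] at h2
    have hfixU : ∀ y ∈ U, t ^ (p - 1) * y * (t ^ (p - 1))⁻¹ = y := by
      intro y hy
      rw [hfix _ y hy]
      obtain ⟨l, rfl⟩ := Subgroup.mem_zpowers_iff.1 (hUgen.ge hy)
      rw [← zpow_mul, mul_comm, zpow_mul, hfermat huo hi0]
    refine eq_one_of_series S (pow_mem (Subgroup.mem_inf.1 ht).1 _) (U := U ⊔ C V a b)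
      (sup_le (hU.trans hWV) (inf_le_left.trans inf_le_left)) ?_ ?_
    · intro y hy
      have hle : U ⊔ C V a b ≤ Subgroup.centralizer {t ^ (p - 1)} := sup_le
        (fun y hy => Subgroup.mem_centralizer_singleton_iff.2 (mul_inv_eq_iff_eq_mul.1 (hfixU y hy)).symm)
        (fun y hy => Subgroup.mem_centralizer_singleton_iff.2
          (P.E_fix_C (pow_mem (Subgroup.mem_inf.1 ht).2 _) hy).eq.symm)
      exact mul_inv_eq_iff_eq_mul.2 (Subgroup.mem_centralizer_singleton_iff.1 (hle hy)).symm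
    · intro v hv
      obtain ⟨w, hw, c, hc, rfl⟩ := P.exists_decomp_mem S hv
      obtain ⟨x, hx, y, hy, hxy⟩ :=
        (Subgroup.coe_mul_of_left_le_normalizer_right (H := Subgroup.zpowers z) (N := U) hUn).le (hW2.ge hw)
      obtain ⟨l, rfl⟩ := Subgroup.mem_zpowers_iff.1 hx
      obtain ⟨y1, hy1, hy1'⟩ := hmod (p - 1)
      set s := t ^ (p - 1) with hs
      have hsH : s ∈ H := pow_mem htH _
      rw [hfermat hzo hj0] at hy1'
      have e1 : ⁅s, z⁆ = y1 := by
        rw [commutatorElement_def, hy1', (comm_V S (hWV hzW) (hWV (hU hy1))).eq, mul_inv_cancel_right]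
      have e2 : ⁅s, c⁆ = 1 := commutatorElement_eq_one_iff_commute.2 (P.E_fix_C (pow_mem (Subgroup.mem_inf.1 ht).2 _) hc)
      have e3 : ⁅s, y⁆ = 1 := commutatorElement_eq_one_iff_commute.2 (mul_inv_eq_iff_eq_mul.1 (hfixU y hy))
      simp only at hxy
      rw [← hxy, comm_hom S hsH (mul_mem (zpow_mem (hWV hzW) l) (hWV (hU hy))) hc.1.1,
        comm_hom S hsH (zpow_mem (hWV hzW) l) (hWV (hU hy)), e2, e3, mul_one, mul_one]
      refine Subgroup.mem_sup_left ?_
      have : ⁅s, z ^ l⁆ = y1 ^ l := by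
        rw [commutatorElement_def, ← MulAut.conj_apply, map_zpow, MulAut.conj_apply, hy1',
          (comm_V S (hWV hzW) (hWV (hU hy1))).mul_zpow,
          ((comm_V S (hWV hzW) (hWV (hU hy1))).zpow_zpow l l).eq, mul_inv_cancel_right]
      rw [this]; exact zpow_mem hy1 l
  rcases P.p_le_three S with h2 | h3
  · have := hkill _ P.quot_mem_T
    rw [h2, pow_one, mul_inv_eq_one] at this
    exact P.ne this
  · obtain ⟨t, ht, s, hs, hne⟩ := (P.T_three S h3).2
    apply hne
    have h := fun x hx => hkill x hx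
    rw [h3] at h
    have e1 := h t ht
    have e2 := h s hs
    have e3 := h _ (mul_mem ht hs)
    rw [pow_two] at e1 e2 e3
    calc t * s = (t * s)⁻¹ := (inv_eq_of_mul_eq_one_right e3).symm
      _ = s * t := by rw [mul_inv_rev, inv_eq_of_mul_eq_one_right e1, inv_eq_of_mul_eq_one_right e2]

theorem fixed_eq_C (S : Setup p V H K) (P : Pair p V H K a b) :
    V ⊓ Subgroup.centralizer (T K a b : Set G) = C V a b := by
  refine le_antisymm ?_ (le_inf (inf_le_left.trans inf_le_left) fun c hc t ht =>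
    (P.E_fix_C (Subgroup.mem_inf.1 ht).2 hc).eq)
  rintro v ⟨hv, hvT⟩
  obtain ⟨w, hw, c, hc, rfl⟩ := P.exists_decomp_mem S hv
  by_cases hw1 : w = 1
  · rw [hw1, one_mul]; exact hc
  exfalso
  refine P.line_invariant S (U := Subgroup.zpowers w) (Subgroup.zpowers_le.2 hw)
    (by rw [Nat.card_zpowers, orderOf_eq_prime (S.elem.2 w (P.W_le S hw)) hw1]) ?_
  intro t ht y hy
  have h1 : Commute t (w * c) := hvT t ht
  have h2 : Commute t c := P.E_fix_C (Subgroup.mem_inf.1 ht).2 hc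
  have h3 : Commute t w := by
    have := h1.mul_right h2.inv_right
    rwa [mul_inv_cancel_right] at this
  obtain ⟨l, rfl⟩ := Subgroup.mem_zpowers_iff.1 hy
  rw [(h3.zpow_right l).eq, mul_inv_cancel_right]
  exact hy

theorem commutator_T (S : Setup p V H K) (P : Pair p V H K a b) : ⁅V, T K a b⁆ = W V a b := by
  have hle : ⁅V, T K a b⁆ ≤ W V a b := (Subgroup.commutator_mono le_rfl inf_le_right).trans (P.commutator_E S).le
  have hp := (Fact.out : p.Prime)
  obtain ⟨j, hj, hjc⟩ := (Nat.dvd_prime_pow hp).1 (P.card_W S ▸ Subgroup.card_dvd_of_le hle)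
  refine Subgroup.eq_of_le_of_card_ge hle ?_
  rw [P.card_W S, hjc]
  refine Nat.pow_le_pow_right hp.pos ?_
  by_contra hlt
  rcases (show j = 0 ∨ j = 1 by omega) with rfl | rfl
  · rw [pow_zero] at hjc
    have h0 := Subgroup.eq_bot_of_card_eq _ hjc
    have h1 : b * a⁻¹ = 1 := by
      rw [← Subgroup.mem_bot, ← S.faith]
      refine Subgroup.mem_inf.2 ⟨T_le_H S P.quot_mem_T, fun v hv => ?_⟩
      have := h0.le (Subgroup.commutator_mem_commutator hv P.quot_mem_T)
      rw [Subgroup.mem_bot, commutatorElement_eq_one_iff_mul_comm] at this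
      exact this
    exact P.ne (mul_inv_eq_one.1 h1)
  · refine P.line_invariant S hle (hjc.trans (pow_one p)) fun t ht u hu => ?_
    have hmap : ⁅V, T K a b⁆.map (MulAut.conj t).toMonoidHom ≤ ⁅V, T K a b⁆ := by
      rw [Subgroup.map_commutator]
      refine Subgroup.commutator_mono (conj_map_V S (T_le_H S ht)).le ?_
      rintro _ ⟨s, hs, rfl⟩
      exact P.T_conj S (Subgroup.mem_inf.1 ht).2 hs
    exact hmap ⟨u, hu, rfl⟩

/-- Elements preserving `T` preserve the plane and its complement. -/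
theorem normalizer_preserves (S : Setup p V H K) (P : Pair p V H K a b) {n : G} (hn : n ∈ H)
    (hT : n ∈ Subgroup.normalizer (T K a b : Set G)) :
    (∀ w ∈ W V a b, n * w * n⁻¹ ∈ W V a b) ∧ (∀ c ∈ C V a b, n * c * n⁻¹ ∈ C V a b) := by
  constructor
  · intro w hw
    rw [← P.commutator_T S] at hw ⊢
    have hmap : ⁅V, T K a b⁆.map (MulAut.conj n).toMonoidHom ≤ ⁅V, T K a b⁆ := by
      rw [Subgroup.map_commutator]
      refine Subgroup.commutator_mono (conj_map_V S hn).le ?_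
      rintro _ ⟨s, hs, rfl⟩
      exact (Subgroup.mem_normalizer_iff.1 hT s).1 hs
    exact hmap ⟨w, hw, rfl⟩
  · intro c hc
    rw [← P.fixed_eq_C S] at hc ⊢
    refine Subgroup.mem_inf.2 ⟨conj_mem_V S hn (Subgroup.mem_inf.1 hc).1, fun t ht => ?_⟩
    have hs : n⁻¹ * t * n ∈ T K a b := (Subgroup.mem_normalizer_iff''.1 hT t).1 ht
    have h1 : n⁻¹ * t * n * c = c * (n⁻¹ * t * n) := (Subgroup.mem_inf.1 hc).2 _ hs
    calc t * (n * c * n⁻¹) = n * (n⁻¹ * t * n * c) * n⁻¹ := by group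
      _ = n * (c * (n⁻¹ * t * n)) * n⁻¹ := by rw [h1]
      _ = n * c * n⁻¹ * t := by group

theorem preserves_mono (S : Setup p V H K) {n : G} (hn : n ∈ H)
    (hW : ∀ w ∈ W V a b, n * w * n⁻¹ ∈ W V a b) : n ∈ Subgroup.normalizer (W V a b : Set G) := by
  have hmap : (W V a b).map (MulAut.conj n).toMonoidHom = W V a b :=
    Subgroup.eq_of_le_of_card_ge (by rintro _ ⟨w, hw, rfl⟩; exact hW w hw)
      (by rw [Subgroup.card_map_of_injective (MulAut.conj n).injective])
  refine Subgroup.mem_normalizer_iff.2 fun y => ⟨fun hy => hW y hy, fun hy => ?_⟩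
  obtain ⟨z, hz, hzy⟩ := hmap.ge hy
  exact (MulAut.conj n).injective hzy ▸ hz

/-- An element of order `p` fixing `C` and preserving `W` lies in `E`. -/
theorem mem_E_of_preserves (S : Setup p V H K) (P : Pair p V H K a b) {y : G} (hy : y ∈ H) (hyo : orderOf y = p)
    (hC : ∀ c ∈ C V a b, Commute y c) (hW : ∀ w ∈ W V a b, y * w * y⁻¹ ∈ W V a b) : y ∈ E a b := by
  classical
  have hp := (Fact.out : p.Prime)
  set X : Subgroup G := H ⊓ Subgroup.normalizer (W V a b : Set G) ⊓ Subgroup.centralizer (C V a b : Set G) with hX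
  have hyX : y ∈ X := Subgroup.mem_inf.2 ⟨Subgroup.mem_inf.2 ⟨hy, preserves_mono S hy hW⟩, fun c hc => (hC c hc).eq.symm⟩
  have hEX : E a b ≤ X := fun e he => Subgroup.mem_inf.2
    ⟨Subgroup.mem_inf.2 ⟨P.E_le he, preserves_mono S (P.E_le he) fun w hw => P.E_conj_W S he hw⟩,
      fun c hc => (P.E_fix_C he hc).eq.symm⟩
  by_contra hne
  have hinf : E a b ⊓ Subgroup.zpowers y = ⊥ := by
    rw [inf_comm]
    exact inf_eq_bot_of_card_p (by rw [Nat.card_zpowers, hyo]) (fun h => hne (h (Subgroup.mem_zpowers y)))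
  have hlow : p * Nat.card (E a b) ≤ Nat.card X := by
    have h1 : Nat.card (↥(E a b) × ↥(Subgroup.zpowers y)) ≤ Nat.card X := by
      refine Nat.card_le_card_of_injective (fun q => (⟨(q.1 : G) * q.2,
        mul_mem (hEX q.1.2) (Subgroup.zpowers_le.2 hyX q.2.2)⟩ : X)) ?_
      rintro ⟨x, z⟩ ⟨x', z'⟩ e
      have e' : (x : G) * z = x' * z' := congrArg Subtype.val e
      have hz : (x' : G)⁻¹ * x = z' * (z : G)⁻¹ := by
        rw [eq_mul_inv_iff_mul_eq, mul_assoc, e', inv_mul_cancel_left]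
      have hm : (x' : G)⁻¹ * x ∈ E a b ⊓ Subgroup.zpowers y :=
        Subgroup.mem_inf.2 ⟨mul_mem (inv_mem x'.2) x.2, hz ▸ mul_mem z'.2 (inv_mem z.2)⟩
      rw [hinf, Subgroup.mem_bot, inv_mul_eq_one] at hm
      rw [← hm] at e'
      exact Prod.ext (Subtype.ext hm.symm) (Subtype.ext (mul_left_cancel e'))
    rw [Nat.card_prod, Nat.card_zpowers, hyo] at h1
    rw [mul_comm]; exact h1
  -- `X` embeds in pairs of images of a basis of the plane
  obtain ⟨la, lb, hla, hlb, -, hza, hzb⟩ := P.coord S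
  haveI := Fintype.ofFinite ↥(W V a b)
  have hXW : ∀ x ∈ X, ∀ w ∈ W V a b, x * w * x⁻¹ ∈ W V a b := fun x hx w hw =>
    (Subgroup.mem_normalizer_iff.1 (Subgroup.mem_inf.1 (Subgroup.mem_inf.1 hx).1).2 w).1 hw
  have hlaW : la ∈ W V a b := Subgroup.mem_sup_left hla
  have hlbW : lb ∈ W V a b := Subgroup.mem_sup_right hlb
  have hla1 : la ≠ 1 := fun e => by
    have h := P.ta.card_axis S
    rw [← hza, e, Subgroup.zpowers_one_eq_bot, Subgroup.card_bot] at h
    exact hp.one_lt.ne h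
  have hlbla : lb ∉ Subgroup.zpowers la := fun h => by
    have h' : lb ∈ axisSet V a ⊓ Subgroup.centralizer {b} := ⟨hza.le h, P.tb.fix_axis S hlb⟩
    rw [P.inf_axis S, Subgroup.mem_bot] at h'
    have hc := P.tb.card_axis S
    rw [← hzb, h', Subgroup.zpowers_one_eq_bot, Subgroup.card_bot] at hc
    exact hp.one_lt.ne hc
  let Pairs := Σ w : {w : ↥(W V a b) // w ≠ 1}, {z : ↥(W V a b) // z ∉ Subgroup.zpowers w.1}
  let f : ↥X → Pairs := fun x =>
    ⟨⟨⟨(x : G) * la * (x : G)⁻¹, hXW x x.2 la hlaW⟩, fun e => hla1 (conj_eq_one_iff.1 (congrArg Subtype.val e))⟩,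
      ⟨⟨(x : G) * lb * (x : G)⁻¹, hXW x x.2 lb hlbW⟩, fun h => hlbla (by
        obtain ⟨l, hl⟩ := Subgroup.mem_zpowers_iff.1 h
        have hl' : ((x : G) * la * (x : G)⁻¹) ^ l = (x : G) * lb * (x : G)⁻¹ := by simpa using congrArg Subtype.val hl
        rw [← MulAut.conj_apply, ← map_zpow, ← MulAut.conj_apply] at hl'
        exact Subgroup.mem_zpowers_iff.2 ⟨l, (MulAut.conj (x : G)).injective hl'⟩)⟩⟩
  have hf : Function.Injective f := by
    intro x x' e
    have e1 : (x : G) * la * (x : G)⁻¹ = (x' : G) * la * (x' : G)⁻¹ :=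
      congrArg (fun q : Pairs => ((q.1.1 : ↥(W V a b)) : G)) e
    have e2 : (x : G) * lb * (x : G)⁻¹ = (x' : G) * lb * (x' : G)⁻¹ :=
      congrArg (fun q : Pairs => ((q.2.1 : ↥(W V a b)) : G)) e
    set k := (x' : G)⁻¹ * x with hk
    have hc : ∀ {l : G}, (x : G) * l * (x : G)⁻¹ = (x' : G) * l * (x' : G)⁻¹ → Commute k l := by
      intro l h
      show k * l = l * k
      calc k * l = (x' : G)⁻¹ * ((x : G) * l * (x : G)⁻¹) * x := by rw [hk]; group
        _ = l * k := by rw [h, hk]; group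
    have hkH : k ∈ H := mul_mem (inv_mem (Subgroup.mem_inf.1 (Subgroup.mem_inf.1 x'.2).1).1)
      (Subgroup.mem_inf.1 (Subgroup.mem_inf.1 x.2).1).1
    have hkX : k ∈ X := mul_mem (inv_mem x'.2) x.2
    have hk1 : k = 1 := by
      rw [← Subgroup.mem_bot, ← S.faith]
      refine Subgroup.mem_inf.2 ⟨hkH, fun v hv => ?_⟩
      obtain ⟨w, hw, c, hcC, rfl⟩ := P.exists_decomp_mem S hv
      have hkc : Commute k c := ((Subgroup.mem_inf.1 hkX).2 c hcC).symm
      have hle : W V a b ≤ Subgroup.centralizer {k} := sup_le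
        (by rw [← hza, Subgroup.zpowers_le]; exact Subgroup.mem_centralizer_singleton_iff.2 (hc e1).eq.symm)
        (by rw [← hzb, Subgroup.zpowers_le]; exact Subgroup.mem_centralizer_singleton_iff.2 (hc e2).eq.symm)
      exact ((show Commute k w from (Subgroup.mem_centralizer_singleton_iff.1 (hle hw)).symm).mul_right hkc).eq.symm
    exact Subtype.ext (inv_mul_eq_one.1 hk1).symm
  have hup : Nat.card X ≤ (p ^ 2 - 1) * (p ^ 2 - p) := by
    refine (Nat.card_le_card_of_injective f hf).trans ?_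
    rw [Nat.card_sigma]
    have h1 : ∀ w : {w : ↥(W V a b) // w ≠ 1}, Nat.card {z : ↥(W V a b) // z ∉ Subgroup.zpowers w.1} = p ^ 2 - p := by
      intro w
      have hwo : orderOf w.1 = p := orderOf_eq_prime
        (Subtype.ext (S.elem.2 _ (P.W_le S w.1.2))) w.2
      rw [Nat.card_eq_fintype_card, Fintype.card_subtype_compl, ← Nat.card_eq_fintype_card, ← Nat.card_eq_fintype_card,
        P.card_W S]
      rw [Nat.card_zpowers, hwo]
    rw [Fintype.sum_congr _ _ h1, Finset.sum_const, Finset.card_univ, Fintype.card_subtype_compl, smul_eq_mul,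
      ← Nat.card_eq_fintype_card (α := ↥(W V a b)), P.card_W S, Fintype.card_subtype_eq]
  rcases P.card_E S with ⟨rfl, hE⟩ | ⟨rfl, hE⟩ <;> rw [hE] at hlow <;> norm_num at hup <;> omega

/-- A second plane: equal or orthogonal. -/
theorem dichotomy (S : Setup p V H K) (P : Pair p V H K a b) {a' b' : G} (P' : Pair p V H K a' b')
    (hnorm : T K a' b' ≤ Subgroup.normalizer (T K a b : Set G)) :
    W V a' b' ≤ C V a b ∨ (W V a' b' = W V a b ∧ C V a' b' = C V a b ∧ a' ∈ E a b ∧ b' ∈ E a b) := by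
  have hp := (Fact.out : p.Prime)
  have hpres := fun t (ht : t ∈ T K a' b') => P.normalizer_preserves S (T_le_H S ht) (hnorm ht)
  set U := W V a' b' ⊓ W V a b with hU
  have hUinv : ∀ t ∈ T K a' b', ∀ u ∈ U, t * u * t⁻¹ ∈ U := fun t ht u hu =>
    Subgroup.mem_inf.2 ⟨P'.E_conj_W S (Subgroup.mem_inf.1 ht).2 (Subgroup.mem_inf.1 hu).1,
      (hpres t ht).1 u (Subgroup.mem_inf.1 hu).2⟩
  have hcomm : ∀ t ∈ T K a' b', ∀ v ∈ V, ⁅t, v⁆ ∈ W V a' b' := by
    intro t ht v hv
    rw [← commutatorElement_inv, ← P'.commutator_T S]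
    exact inv_mem (Subgroup.commutator_mem_commutator hv ht)
  obtain ⟨j, hj, hjc⟩ := (Nat.dvd_prime_pow hp).1 (P'.card_W S ▸ Subgroup.card_dvd_of_le (inf_le_left : U ≤ W V a' b'))
  rcases (show j = 0 ∨ j = 1 ∨ j = 2 by omega) with rfl | rfl | rfl
  · left
    rw [pow_zero] at hjc
    have hUb := Subgroup.eq_bot_of_card_eq _ hjc
    rw [← P'.commutator_T S, Subgroup.commutator_le]
    intro v hv t ht
    obtain ⟨w, hw, c, hc, rfl⟩ := P.exists_decomp_mem S hv
    have h1 : ⁅t, w⁆ = 1 := by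
      rw [← Subgroup.mem_bot, ← hUb]
      refine Subgroup.mem_inf.2 ⟨hcomm t ht w (P.W_le S hw), ?_⟩
      rw [commutatorElement_def]
      exact mul_mem ((hpres t ht).1 w hw) (inv_mem hw)
    have h2 : ⁅t, c⁆ ∈ C V a b := by
      rw [commutatorElement_def]
      exact mul_mem ((hpres t ht).2 c hc) (inv_mem hc)
    rw [← commutatorElement_inv, comm_hom S (T_le_H S ht) (P.W_le S hw) hc.1.1, h1, one_mul]
    exact inv_mem h2
  · exact absurd (hjc.trans (pow_one p)) (fun h => P'.line_invariant S inf_le_left h hUinv)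
  · right
    have hWW : W V a' b' = W V a b := by
      refine Subgroup.eq_of_le_of_card_ge ?_ (by rw [P.card_W S, P'.card_W S])
      have h1 : U = W V a' b' := Subgroup.eq_of_le_of_card_ge inf_le_left (by rw [P'.card_W S, hjc])
      rw [← h1]; exact inf_le_right
    have hle : C V a b ≤ C V a' b' := by
      rw [← P'.fixed_eq_C S]
      intro c hc
      refine Subgroup.mem_inf.2 ⟨hc.1.1, fun t ht => commutatorElement_eq_one_iff_mul_comm.1 ?_⟩
      rw [← Subgroup.mem_bot, ← P.inf_WC S]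
      refine Subgroup.mem_inf.2 ⟨hWW.le (hcomm t ht c hc.1.1), ?_⟩
      rw [commutatorElement_def]
      exact mul_mem ((hpres t ht).2 c hc) (inv_mem hc)
    have hmem : ∀ y ∈ ({a', b'} : Set G), y ∈ E a b := by
      intro y hy
      have hyE : y ∈ E a' b' := Subgroup.subset_closure hy
      refine P.mem_E_of_preserves S (P'.E_le hyE) ?_ (fun c hc => P'.E_fix_C hyE (hle hc))
        (fun w hw => hWW.le (P'.E_conj_W S hyE (hWW.ge hw)))
      rcases hy with rfl | rfl
      · exact P'.ta.ord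
      · exact P'.tb.ord
    have ha' := hmem a' (Set.mem_insert a' _)
    have hb' := hmem b' (Set.mem_insert_of_mem _ rfl)
    refine ⟨hWW, le_antisymm ?_ hle, ha', hb'⟩
    have hEE : E a' b' = E a b := by
      refine Subgroup.eq_of_le_of_card_ge ((Subgroup.closure_le _).2 hmem) ?_
      rcases P.card_E S with ⟨rfl, h1⟩ | ⟨rfl, h1⟩ <;> rcases P'.card_E S with ⟨h3, h2⟩ | ⟨h3, h2⟩ <;> omega
    intro c hc
    have hcomm' : ∀ y ∈ E a b, Commute y c := fun y hy => P'.E_fix_C (hEE.ge hy) hc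
    refine Subgroup.mem_inf.2 ⟨Subgroup.mem_inf.2 ⟨hc.1.1, ?_⟩, ?_⟩
    · exact Subgroup.mem_centralizer_singleton_iff.2 (hcomm' a (Subgroup.subset_closure (Set.mem_insert a _))).eq.symm
    · exact Subgroup.mem_centralizer_singleton_iff.2
        (hcomm' b (Subgroup.subset_closure (Set.mem_insert_of_mem _ rfl))).eq.symm

end Pair

end CfsgLib.Offender
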