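import Mathlib
import Cfsg.Agent.Lib.PLocal.Offender.Plane
import Cfsg.Agent.Lib.Coprime

/-!
The structure of a linear group generated by best offenders: a direct product of copies of `SL(2,p)`.
-/

set_option autoImplicit false
set_option linter.unusedSectionVars false

universe u

namespace CfsgLib.Offender

open Cfsg
open scoped commutatorElement

variable {G : Type u} [Group G] [Finite G] {p : ℕ} [Fact p.Prime] {V H K : Subgroup G}

/-- Two subgroups of coprime index multiply to the whole group. -/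
theorem exists_mul_of_coprime_index {M : Type*} [Group M] [Finite M] {R C : Subgroup M}
    (h : Nat.Coprime R.index C.index) (k : M) : ∃ r ∈ R, ∃ c ∈ C, k = r * c := by
  let f : C ⧸ R.subgroupOf C → M ⧸ R := Quotient.map' (fun c => (c : M)) fun x y hxy => by
    rw [QuotientGroup.leftRel_apply] at hxy ⊢
    exact hxy
  have hinj : Function.Injective f := by
    intro x y
    induction x using Quotient.inductionOn' with | _ x => ?_
    induction y using Quotient.inductionOn' with | _ y => ?_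
    intro e
    simp only [f, Quotient.map'_mk''] at e
    rw [Quotient.eq''] at e ⊢
    rw [QuotientGroup.leftRel_apply] at e ⊢
    exact e
  have hle : Nat.card (M ⧸ R) ≤ Nat.card (C ⧸ R.subgroupOf C) := by
    have h1 : (R.subgroupOf C).index * C.index = (R ⊓ C).index := by
      rw [← Subgroup.relIndex_mul_index (H := R ⊓ C) (K := C) inf_le_right, Subgroup.inf_relIndex_right]
      rfl
    have h2 : R.index ∣ (R.subgroupOf C).index :=
      h.dvd_of_dvd_mul_right (h1 ▸ Subgroup.index_dvd_of_le inf_le_left)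
    exact Nat.le_of_dvd (Nat.pos_of_ne_zero Subgroup.index_ne_zero_of_finite) h2
  have hsurj : Function.Surjective f :=
    ((Nat.bijective_iff_injective_and_card f).2 ⟨hinj, le_antisymm (Nat.card_le_card_of_injective f hinj) hle⟩).2
  obtain ⟨x, hx⟩ := hsurj (QuotientGroup.mk k⁻¹)
  induction x using Quotient.inductionOn' with | _ x => ?_
  simp only [f, Quotient.map'_mk''] at hx
  have hx' : (x : M)⁻¹ * k⁻¹ ∈ R := QuotientGroup.eq.1 hx
  exact ⟨k * x, by simpa using inv_mem hx', (x : M)⁻¹, inv_mem x.2, by group⟩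

theorem comm_mem_commutator {A : Subgroup G} {k a : G} (hk : k ∈ K) (ha : a ∈ A) : k * a * k⁻¹ * a⁻¹ ∈ ⁅K, A⁆ := by
  have := Subgroup.commutator_mem_commutator hk ha
  rwa [commutatorElement_def] at this

theorem zpowers_normalizes (S : Setup p V H K) {a : G} (ha : a ∈ H) :
    Subgroup.zpowers a ≤ Subgroup.normalizer (K : Set G) := Subgroup.zpowers_le.2 (S.normK ha)

/-- `q = 3` for `p = 2`, `q = 2` for `p = 3`. -/
def dualPrime (p : ℕ) : ℕ := if p = 2 then 3 else 2

theorem dualPrime_prime : (dualPrime p).Prime := by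
  unfold dualPrime; split
  · exact Nat.prime_three
  · exact Nat.prime_two

namespace Pair

variable {a b : G}

theorem pow_dual_mem_T (S : Setup p V H K) (P : Pair p V H K a b) :
    ∀ t ∈ T K a b, ∃ n : ℕ, t ^ (dualPrime p) ^ n = 1 := by
  intro t ht
  rcases P.p_le_three S with rfl | rfl
  · exact ⟨1, by simpa [dualPrime] using P.T_two S rfl t ht⟩
  · exact ⟨3, by simpa [dualPrime] using (P.T_three S rfl).1 t ht⟩

theorem T_le (S : Setup p V H K) (P : Pair p V H K a b) {R : Subgroup G} (hRK : R ≤ K)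
    (hn : Subgroup.zpowers a ≤ Subgroup.normalizer (R : Set G)) (hq : b * a⁻¹ ∈ R) : T K a b ≤ R := by
  intro t ht
  have hle : E a b ≤ Subgroup.zpowers a ⊔ R := by
    rw [Subgroup.closure_le]
    rintro x (rfl | rfl)
    · exact Subgroup.mem_sup_left (Subgroup.mem_zpowers x)
    · have := Subgroup.mul_mem_sup (S := R) (T := Subgroup.zpowers a) hq (Subgroup.mem_zpowers a)
      rwa [inv_mul_cancel_right, sup_comm] at this
  obtain ⟨y, hy, r, hr, hyr⟩ :=
    (Subgroup.coe_mul_of_left_le_normalizer_right (H := Subgroup.zpowers a) (N := R) hn).le (hle ht.2)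
  simp only at hyr
  have hyK : y ∈ K := by
    have : y = t * r⁻¹ := eq_mul_inv_of_mul_eq hyr
    rw [this]; exact mul_mem ht.1 (inv_mem (hRK hr))
  have hy1 : y = 1 := by
    rw [← orderOf_eq_one_iff]
    have hd : orderOf y ∣ p := P.ta.ord ▸ orderOf_dvd_of_mem_zpowers hy
    exact Nat.eq_one_of_dvd_coprimes (S.coprime_of_mem hyK) dvd_rfl hd
  rw [← hyr, hy1, one_mul]; exact hr

theorem mem_W_false (S : Setup p V H K) (P : Pair p V H K a b) (h : axisSet V a ≤ C V a b) : False := by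
  have h1 : axisSet V a ≤ (⊥ : Subgroup G) := (le_inf le_sup_left h).trans (P.inf_WC S).le
  have h2 := P.ta.card_axis S
  rw [le_bot_iff.1 h1, Subgroup.card_bot] at h2
  exact (Fact.out : p.Prime).one_lt.ne h2

theorem conj (S : Setup p V H K) (P : Pair p V H K a b) {m : G} (hm : m ∈ H) :
    Pair p V H K (m * a * m⁻¹) (m * b * m⁻¹) :=
  ⟨P.ta.conj S hm, P.tb.conj S hm, by
    have e : m * b * m⁻¹ * (m * a * m⁻¹)⁻¹ = m * (b * a⁻¹) * m⁻¹ := by group
    rw [e]; exact (Subgroup.mem_normalizer_iff.1 (S.normK hm) _).1 P.mem,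
    fun e => P.ne (mul_left_cancel (mul_right_cancel e))⟩

theorem E_eq_of_le (S : Setup p V H K) (P : Pair p V H K a b) {a' b' : G} (P' : Pair p V H K a' b')
    (ha : a' ∈ E a b) (hb : b' ∈ E a b) : E a' b' = E a b := by
  refine Subgroup.eq_of_le_of_card_ge ((Subgroup.closure_le _).2 ?_) ?_
  · rintro x (rfl | rfl)
    · exact ha
    · exact hb
  · rcases P.card_E S with ⟨h3, h1⟩ | ⟨h3, h1⟩ <;> rcases P'.card_E S with ⟨h4, h2⟩ | ⟨h4, h2⟩ <;> omega

theorem centralizer_E (P : Pair p V H K a b) : V ⊓ Subgroup.centralizer (E a b : Set G) = C V a b := by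
  refine le_antisymm (fun c hc => ?_) (le_inf (inf_le_left.trans inf_le_left) fun c hc e he => (P.E_fix_C he hc).eq)
  obtain ⟨hcV, hcE⟩ := hc
  exact ⟨⟨hcV, Subgroup.mem_centralizer_singleton_iff.2 (hcE a (Subgroup.subset_closure (Set.mem_insert a _))).symm⟩,
    Subgroup.mem_centralizer_singleton_iff.2 (hcE b (Subgroup.subset_closure (Set.mem_insert_of_mem _ rfl))).symm⟩

end Pair

/-- Elements with a common splitting of `V`, each trivial on one part, commute. -/
theorem commute_of_split (S : Setup p V H K) {W C : Subgroup G}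
    (hsplit : ∀ v ∈ V, ∃ w ∈ W, ∃ c ∈ C, v = w * c) {e f : G} (he : e ∈ H) (hf : f ∈ H)
    (heW : ∀ w ∈ W, e * w * e⁻¹ ∈ W) (heC : ∀ c ∈ C, Commute e c) (hfW : ∀ w ∈ W, Commute f w)
    (hfC : ∀ c ∈ C, f * c * f⁻¹ ∈ C) : Commute e f := by
  rw [← commutatorElement_eq_one_iff_commute, ← Subgroup.mem_bot, ← S.faith]
  refine Subgroup.mem_inf.2 ⟨?_, fun u hu => ?_⟩
  · rw [commutatorElement_def]; exact mul_mem (mul_mem (mul_mem he hf) (inv_mem he)) (inv_mem hf)
  have hfeH : (f * e)⁻¹ ∈ H := inv_mem (mul_mem hf he)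
  have hv := conj_mem_V S hfeH hu
  obtain ⟨w, hw, c, hc, hwc⟩ := hsplit _ hv
  have key : e * f * (w * c) * (e * f)⁻¹ = f * e * (w * c) * (f * e)⁻¹ := by
    calc e * f * (w * c) * (e * f)⁻¹ = e * ((f * w * f⁻¹) * (f * c * f⁻¹)) * e⁻¹ := by group
      _ = (e * w * e⁻¹) * (e * (f * c * f⁻¹) * e⁻¹) := by rw [(hfW w hw).eq, mul_inv_cancel_right]; group
      _ = (e * w * e⁻¹) * (f * c * f⁻¹) := by rw [(heC _ (hfC c hc)).eq, mul_inv_cancel_right]
      _ = (f * (e * w * e⁻¹) * f⁻¹) * (f * c * f⁻¹) := by rw [(hfW _ (heW w hw)).eq, mul_inv_cancel_right]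
      _ = (f * (e * w * e⁻¹) * f⁻¹) * (f * (e * c * e⁻¹) * f⁻¹) := by rw [(heC c hc).eq, mul_inv_cancel_right]
      _ = f * e * (w * c) * (f * e)⁻¹ := by group
  rw [← hwc] at key
  have h2 : ⁅e, f⁆ * u * ⁅e, f⁆⁻¹ = u := by
    calc ⁅e, f⁆ * u * ⁅e, f⁆⁻¹ = e * f * ((f * e)⁻¹ * u * (f * e)⁻¹⁻¹) * (e * f)⁻¹ := by
          rw [commutatorElement_def]; group
      _ = u := by rw [key]; group
  exact (mul_inv_eq_iff_eq_mul.1 h2).symm

/-- For a pair `(a, x a x⁻¹)` everything about `[K, ⟨a⟩]` is read off in `E`. -/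
structure Core (p : ℕ) [Fact p.Prime] (V H K : Subgroup G) (a b : G) : Prop where
  pair : Pair p V H K a b
  conjMem : ∀ k ∈ K, k * a * k⁻¹ ∈ Pair.E a b
  comm : ⁅K, Subgroup.zpowers a⁆ = Pair.T K a b
  sup : ⁅K, Subgroup.zpowers a⁆ ⊔ Subgroup.zpowers a = Pair.E a b
  normT : K ≤ Subgroup.normalizer (Pair.T K a b : Set G)

theorem le_normalizer_commutator (S : Setup p V H K) (A : Subgroup G) (hA : A ≤ H) :
    K ≤ Subgroup.normalizer ((⁅K, A⁆ : Subgroup G) : Set G) := by
  refine le_normalizer_of_conj fun k hk y hy => ?_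
  have hle : ⁅K, A⁆ ≤ ⁅K, A⁆.comap (MulAut.conj k).toMonoidHom := by
    rw [Subgroup.commutator_le]
    intro k₀ hk₀ a ha
    show k * ⁅k₀, a⁆ * k⁻¹ ∈ ⁅K, A⁆
    have e : k * ⁅k₀, a⁆ * k⁻¹ = ⁅k * k₀, a⁆ * ⁅k, a⁆⁻¹ := by simp only [commutatorElement_def]; group
    rw [e]
    exact mul_mem (Subgroup.commutator_mem_commutator (mul_mem hk hk₀) ha)
      (inv_mem (Subgroup.commutator_mem_commutator hk ha))
  exact hle hy

theorem exists_core (S : Setup p V H K) {a : G} (ha : Tv p V H a) : ∃ b, Core p V H K a b := by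
  classical
  have hp := (Fact.out : p.Prime)
  haveI : Fact (dualPrime p).Prime := ⟨dualPrime_prime⟩
  set A := Subgroup.zpowers a with hA
  have hAK : A ≤ Subgroup.normalizer (K : Set G) := zpowers_normalizes S ha.mem
  have hcop : (Nat.card A).Coprime (Nat.card K) := by rw [hA, Nat.card_zpowers, ha.ord]; exact S.cop.symm
  -- invariant Sylow subgroups
  have hsyl : ∀ r : ℕ, r.Prime → ∃ R : Subgroup G, R ≤ K ∧ A ≤ Subgroup.normalizer (R : Set G) ∧
      ∃ n : ℕ, Nat.card R = r ^ n ∧ ¬ r ∣ (R.subgroupOf K).index := by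
    intro r hr
    haveI := Fact.mk hr
    obtain ⟨R, hR⟩ := CfsgLib.coprime_exists_invariant_sylow hAK hcop (Or.inl inferInstance) r
    obtain ⟨n, hn⟩ := IsPGroup.iff_card.1 R.isPGroup'
    refine ⟨(R : Subgroup K).map K.subtype, Subgroup.map_subtype_le _, hR, n, ?_, ?_⟩
    · rw [Subgroup.card_map_of_injective K.subtype_injective, hn]
    · rw [show ((R : Subgroup K).map K.subtype).subgroupOf K = R from
        Subgroup.comap_map_eq_self_of_injective K.subtype_injective _]
      exact R.not_dvd_index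
  have hpair : ∀ (r : ℕ), r.Prime → ∀ R : Subgroup G, R ≤ K → A ≤ Subgroup.normalizer (R : Set G) →
      (∃ n : ℕ, Nat.card R = r ^ n) → ∀ x ∈ R, ¬ Commute x a →
        r = dualPrime p ∧ Pair.T K a (x * a * x⁻¹) ≤ R := by
    intro r hr R hRK hRn ⟨n, hn⟩ x hx hne
    have P := pair_of_conj S ha (hRK hx) hne
    have hq : x * a * x⁻¹ * a⁻¹ ∈ R := by
      have e : x * a * x⁻¹ * a⁻¹ = x * (a * x⁻¹ * a⁻¹) := by group
      rw [e]
      exact mul_mem hx ((Subgroup.mem_normalizer_iff.1 (hRn (Subgroup.mem_zpowers a)) _).1 (inv_mem hx))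
    refine ⟨?_, P.T_le S hRK hRn hq⟩
    obtain ⟨m, hm⟩ := P.pow_dual_mem_T S _ P.quot_mem_T
    by_contra hne'
    have h1 := Nat.eq_one_of_dvd_coprimes (Nat.coprime_pow_primes n m hr dualPrime_prime hne')
      (hn ▸ Subgroup.orderOf_dvd_natCard R hq) (orderOf_dvd_of_pow_eq_one hm)
    exact P.ne (mul_inv_eq_one.1 (orderOf_eq_one_iff.1 h1))
  obtain ⟨R, hRK, hRn, n, hn, hRi⟩ := hsyl (dualPrime p) dualPrime_prime
  set CK : Subgroup K := (Subgroup.centralizer ({a} : Set G)).subgroupOf K with hCK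
  have hCi : ∀ r : ℕ, r.Prime → r ∣ CK.index → r = dualPrime p := by
    intro r hr hd
    by_contra hne
    obtain ⟨R', hR'K, hR'n, m, hm, hR'i⟩ := hsyl r hr
    refine hR'i (hd.trans (Subgroup.index_dvd_of_le fun y hy => ?_))
    refine Subgroup.mem_centralizer_singleton_iff.2 ?_
    by_contra hcom
    exact hne (hpair r hr R' hR'K hR'n ⟨m, hm⟩ _ hy hcom).1
  have hcopI : Nat.Coprime (R.subgroupOf K).index CK.index := by
    refine Nat.coprime_of_dvd' fun r hr h1 h2 => ?_
    exact absurd (hCi r hr h2 ▸ h1) hRi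
  have hprod : ∀ k ∈ K, ∃ r ∈ R, k * a * k⁻¹ = r * a * r⁻¹ := by
    intro k hk
    obtain ⟨r, hr, c, hc, hkc⟩ := exists_mul_of_coprime_index hcopI ⟨k, hk⟩
    refine ⟨r, hr, ?_⟩
    have hk' : k = (r : G) * c := congrArg Subtype.val hkc
    have hc' : Commute (c : G) a := Subgroup.mem_centralizer_singleton_iff.1 hc
    calc k * a * k⁻¹ = (r : G) * ((c : G) * a * (c : G)⁻¹) * (r : G)⁻¹ := by rw [hk']; group
      _ = _ := by rw [hc'.eq, mul_inv_cancel_right]
  obtain ⟨x, hx, hxne⟩ : ∃ x ∈ R, ¬ Commute x a := by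
    by_contra hall
    push Not at hall
    obtain ⟨k, hk, hne⟩ := exists_not_commute S ha
    obtain ⟨r, hr, he⟩ := hprod k hk
    rw [(hall r hr).eq, mul_inv_cancel_right, mul_inv_eq_iff_eq_mul] at he
    exact hne he
  set b := x * a * x⁻¹ with hb
  have P : Pair p V H K a b := pair_of_conj S ha (hRK hx) hxne
  have hTR : Pair.T K a b ≤ R := (hpair _ dualPrime_prime R hRK hRn ⟨n, hn⟩ x hx hxne).2
  set T := Pair.T K a b with hT
  set N := R ⊓ Subgroup.normalizer (T : Set G) with hN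
  have hRN : R ≤ Subgroup.normalizer (T : Set G) := by
    by_contra hnot
    haveI : Group.IsNilpotent R := (IsPGroup.of_card hn).isNilpotent
    have hlt : N.subgroupOf R < ⊤ := lt_top_iff_ne_top.2 fun h => hnot ((Subgroup.subgroupOf_eq_top.1 h).trans inf_le_right)
    obtain ⟨m, hm, hmN⟩ := SetLike.exists_of_lt (Group.normalizerCondition_of_isNilpotent (G := ↥R) _ hlt)
    have hTN : T ≤ N := le_inf hTR fun t ht => Subgroup.le_normalizer ht
    have hconjN : ∀ t ∈ T, (m : G) * t * (m : G)⁻¹ ∈ Subgroup.normalizer (T : Set G) := fun t ht =>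
      (Subgroup.mem_inf.1 ((Subgroup.mem_normalizer_iff.1 hm ⟨t, hTR ht⟩).1 (hTN ht))).2
    have hmH : (m : G) ∈ H := S.KH (hRK m.2)
    have P' := P.conj S hmH
    have hEmap : Pair.E ((m : G) * a * (m : G)⁻¹) ((m : G) * b * (m : G)⁻¹) =
        (Pair.E a b).map (MulAut.conj (m : G)).toMonoidHom := by
      simp [Pair.E, MonoidHom.map_closure, Set.image_pair]
    have hT' : ∀ t' ∈ Pair.T K ((m : G) * a * (m : G)⁻¹) ((m : G) * b * (m : G)⁻¹), ∃ t ∈ T, t' = (m : G) * t * (m : G)⁻¹ := by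
      rintro t' ⟨htK, htE⟩
      rw [hEmap] at htE
      obtain ⟨t, ht, rfl⟩ := htE
      refine ⟨t, Subgroup.mem_inf.2 ⟨?_, ht⟩, rfl⟩
      exact (Subgroup.mem_normalizer_iff.1 (S.normK hmH) t).2 htK
    rcases P.dichotomy S P' (fun t' ht' => by
      obtain ⟨t, ht, rfl⟩ := hT' t' ht'; exact hconjN t ht) with hleft | ⟨-, -, ha', hb'⟩
    · set c := (m : G) * a * (m : G)⁻¹ with hc
      have hcC : axisSet V c ≤ Pair.C V a b := le_sup_left.trans hleft
      by_cases hca : c = a
      · exact P.mem_W_false S (hca ▸ hcC)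
      · have Q : Pair p V H K c a :=
          ⟨ha.conj S hmH, ha, by
            rw [← inv_inv (a * c⁻¹), mul_inv_rev, inv_inv, hc]; exact inv_mem (comm_conj_mem S (hRK m.2) ha.mem), Ne.symm hca⟩
        exact Q.cross S fun y hy => (hcC hy).1.2
    · refine hmN ?_
      have hEE := P.E_eq_of_le S P' ha' hb'
      have hsub : ∀ t ∈ T, (m : G) * t * (m : G)⁻¹ ∈ T := fun t ht => Subgroup.mem_inf.2
        ⟨(Subgroup.mem_normalizer_iff.1 (S.normK hmH) t).1 ht.1, hEE.le (hEmap ▸ ⟨t, ht.2, rfl⟩)⟩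
      refine Subgroup.mem_inf.2 ⟨m.2, ?_⟩
      have hmap : T.map (MulAut.conj (m : G)).toMonoidHom = T :=
        Subgroup.eq_of_le_of_card_ge (by rintro _ ⟨t, ht, rfl⟩; exact hsub t ht)
          (by rw [Subgroup.card_map_of_injective (MulAut.conj (m : G)).injective])
      exact Subgroup.mem_normalizer_iff.2 fun y => ⟨hsub y, fun hy => by
        obtain ⟨z, hz, hzy⟩ := hmap.ge hy
        exact (MulAut.conj (m : G)).injective hzy ▸ hz⟩
  have hconj : ∀ k ∈ K, k * a * k⁻¹ ∈ Pair.E a b := by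
    intro k hk
    obtain ⟨r, hr, he⟩ := hprod k hk
    rw [he]
    by_cases hra : Commute r a
    · rw [hra.eq, mul_inv_cancel_right]; exact Subgroup.subset_closure (Set.mem_insert a _)
    have P' := pair_of_conj S ha (hRK hr) hra
    have hT'R := (hpair _ dualPrime_prime R hRK hRn ⟨n, hn⟩ r hr hra).2
    rcases P.dichotomy S P' (hT'R.trans hRN) with hleft | ⟨-, -, -, hb'⟩
    · exact (P.mem_W_false S (le_sup_left.trans hleft)).elim
    · exact hb'
  have haE : a ∈ Pair.E a b := Subgroup.subset_closure (Set.mem_insert a _)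
  have hcomm : ⁅K, A⁆ = Pair.T K a b := by
    refine le_antisymm ?_ fun t ht => ?_
    · rw [Subgroup.commutator_le]
      intro k hk y hy
      obtain ⟨i, rfl⟩ := Subgroup.mem_zpowers_iff.1 hy
      rw [commutatorElement_def]
      refine Subgroup.mem_inf.2 ⟨?_, ?_⟩
      · exact comm_conj_mem S hk (zpow_mem ha.mem i)
      · rw [← MulAut.conj_apply, map_zpow, MulAut.conj_apply]
        exact mul_mem (zpow_mem (hconj k hk) i) (inv_mem (zpow_mem haE i))
    · have hq : b * a⁻¹ ∈ ⁅K, A⁆ := comm_mem_commutator (hRK hx) (Subgroup.mem_zpowers a)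
      refine P.T_le S ?_ ?_ hq ht
      · rw [Subgroup.commutator_le]
        intro k hk y hy
        rw [commutatorElement_def]
        exact comm_conj_mem S hk ((Subgroup.zpowers_le.2 ha.mem : A ≤ H) hy)
      · refine le_normalizer_of_conj fun y hy z hz => ?_
        have hle : ⁅K, A⁆ ≤ ⁅K, A⁆.comap (MulAut.conj y).toMonoidHom := by
          rw [Subgroup.commutator_le]
          intro k hk w hw
          show y * ⁅k, w⁆ * y⁻¹ ∈ ⁅K, A⁆
          have e : y * ⁅k, w⁆ * y⁻¹ = ⁅y * k * y⁻¹, y * w * y⁻¹⁆ := by simp only [commutatorElement_def]; group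
          rw [e]
          exact Subgroup.commutator_mem_commutator ((Subgroup.mem_normalizer_iff.1 (hAK hy) k).1 hk)
            (mul_mem (mul_mem hy hw) (inv_mem hy))
        exact hle hz
  refine ⟨b, P, hconj, hcomm, ?_, ?_⟩
  · rw [hcomm]
    refine le_antisymm (sup_le inf_le_right (Subgroup.zpowers_le.2 haE)) ?_
    intro e he
    obtain ⟨t, ht, i, rfl⟩ := P.decomp_E S he
    exact Subgroup.mul_mem_sup ht (pow_mem (Subgroup.mem_zpowers a) i)
  · rw [← hcomm]; exact le_normalizer_commutator S A (Subgroup.zpowers_le.2 ha.mem)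

/-- The group attached to an offender of order `p`. -/
abbrev Comp (K A : Subgroup G) : Subgroup G := ⁅K, A⁆ ⊔ A

namespace Core

variable {a b a' b' : G}

theorem T_pgroup (S : Setup p V H K) (c : Core p V H K a b) :
    IsPGroup (dualPrime p) ↥(⁅K, Subgroup.zpowers a⁆) := by
  intro t
  obtain ⟨n, hn⟩ := c.pair.pow_dual_mem_T S t (c.comm.le t.2)
  exact ⟨n, Subtype.ext (by simpa using hn)⟩

/-- Two components are equal or orthogonal. -/
theorem eq_or_orth (S : Setup p V H K) (c : Core p V H K a b) (c' : Core p V H K a' b') :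
    Pair.E a' b' = Pair.E a b ∨
      (Pair.W V a' b' ≤ Pair.C V a b ∧ Pair.W V a b ≤ Pair.C V a' b') := by
  rcases c.pair.dichotomy S c'.pair (inf_le_left.trans c.normT) with h | ⟨-, -, h1, h2⟩
  · rcases c'.pair.dichotomy S c.pair (inf_le_left.trans c'.normT) with h' | ⟨hW, -, -, -⟩
    · exact Or.inr ⟨h, h'⟩
    · exfalso
      refine c.pair.mem_W_false S ?_
      exact (le_sup_left.trans hW.le).trans h
  · exact Or.inl (c.pair.E_eq_of_le S c'.pair h1 h2)

/-- The complement of a component. -/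
abbrev F (V H : Subgroup G) (a b : G) : Subgroup G := H ⊓ Subgroup.centralizer (Pair.W V a b : Set G)

theorem orth_le_F (S : Setup p V H K) (c : Core p V H K a b) (c' : Core p V H K a' b')
    (h : Pair.W V a b ≤ Pair.C V a' b') : Pair.E a' b' ≤ F V H a b := fun e he =>
  Subgroup.mem_inf.2 ⟨c'.pair.E_le he, fun w hw => (c'.pair.E_fix_C he (h hw)).eq.symm⟩

theorem inf_F (S : Setup p V H K) (c : Core p V H K a b) : Pair.E a b ⊓ F V H a b = ⊥ := by
  rw [eq_bot_iff]
  intro e he
  exact Subgroup.mem_bot.2 (c.pair.faithful_W S he.1 fun w hw => (he.2.2 w hw).symm)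

theorem orth_commute (S : Setup p V H K) (c : Core p V H K a b) (c' : Core p V H K a' b')
    (h : Pair.W V a' b' ≤ Pair.C V a b ∧ Pair.W V a b ≤ Pair.C V a' b') {e f : G} (he : e ∈ Pair.E a b)
    (hf : f ∈ Pair.E a' b') : Commute e f := by
  refine commute_of_split S (W := Pair.W V a b) (C := Pair.C V a b) (fun v hv => c.pair.exists_decomp_mem S hv)
    (c.pair.E_le he) (c'.pair.E_le hf) (fun w hw => c.pair.E_conj_W S he hw) (fun x hx => c.pair.E_fix_C he hx)
    (fun w hw => c'.pair.E_fix_C hf (h.2 hw)) fun x hx => ?_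
  have hm : ⁅f, x⁆ ∈ Pair.C V a b := by
    refine h.1 ?_
    rw [← c'.pair.commutator_E S, ← commutatorElement_inv]
    exact inv_mem (Subgroup.commutator_mem_commutator hx.1.1 hf)
  rw [conj_eq]
  exact mul_mem hm hx

end Core

theorem gen_tv (S : Setup p V H K) (hS3 : H = ⨆ A : {A : Subgroup G // A ≤ H ∧ Cfsg.IsBestOffenderOn p V A}, (A : Subgroup G))
    {X : Subgroup G} (hX : ∀ a, Tv p V H a → a ∈ X) : H ≤ X := by
  rw [hS3]
  refine iSup_le fun A => ?_
  obtain ⟨n, hn⟩ := card_eq_pow (elem_of_best S A.2.1 A.2.2)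
  obtain ⟨B, hB, hBs⟩ := exists_decomp S n A A.2.1 A.2.2 hn
  rw [← hBs]
  refine iSup_le fun i => ?_
  obtain ⟨a, ha, hta⟩ := small_iff_tv (hB i).2
  rw [ha]
  exact Subgroup.zpowers_le.2 (hX a hta)

theorem exists_tv (S : Setup p V H K) (hS3 : H = ⨆ A : {A : Subgroup G // A ≤ H ∧ Cfsg.IsBestOffenderOn p V A}, (A : Subgroup G))
    (hH1 : H ≠ ⊥) : ∃ a, Tv p V H a := by
  by_contra hno
  push Not at hno
  exact hH1 (eq_bot_iff.2 (gen_tv S hS3 fun a ha => absurd ha (hno a)))

namespace Core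

variable {a b : G}

theorem tv_cases (S : Setup p V H K) (c : Core p V H K a b) {y : G} (hy : Tv p V H y) :
    y ∈ Pair.E a b ∨ (∀ e ∈ Pair.E a b, Commute e y) ∧ y ∈ F V H a b := by
  obtain ⟨y', c'⟩ := exists_core S hy
  have hyE : y ∈ Pair.E y y' := Subgroup.subset_closure (Set.mem_insert y _)
  rcases c.eq_or_orth S c' with h | h
  · exact Or.inl (h ▸ hyE)
  · exact Or.inr ⟨fun e he => c.orth_commute S c' h he hyE, orth_le_F S c c' h.2 hyE⟩

theorem H_normalizes (S : Setup p V H K) (hS3 : H = ⨆ A : {A : Subgroup G // A ≤ H ∧ Cfsg.IsBestOffenderOn p V A}, (A : Subgroup G))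
    (c : Core p V H K a b) : H ≤ Subgroup.normalizer (Pair.E a b : Set G) := by
  refine gen_tv S hS3 fun y hy => ?_
  rcases c.tv_cases S hy with h | ⟨h, -⟩
  · exact Subgroup.le_normalizer h
  · refine Subgroup.mem_normalizer_iff.2 fun e => ⟨fun he => ?_, fun he => ?_⟩
    · rw [← (h e he).eq, mul_inv_cancel_right]; exact he
    · have h1 := h _ he
      have e1 : y * e * y⁻¹ = e := by
        have := h1.eq
        rw [inv_mul_cancel_right] at this
        calc y * e * y⁻¹ = y⁻¹ * (y * (y * e * y⁻¹)) := by group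
          _ = y⁻¹ * (y * e) := by rw [← this]
          _ = e := inv_mul_cancel_left y e
      rwa [e1] at he

theorem sup_F (S : Setup p V H K) (hS3 : H = ⨆ A : {A : Subgroup G // A ≤ H ∧ Cfsg.IsBestOffenderOn p V A}, (A : Subgroup G))
    (c : Core p V H K a b) : Pair.E a b ⊔ F V H a b = H := by
  refine le_antisymm (sup_le c.pair.E_le inf_le_left) (gen_tv S hS3 fun y hy => ?_)
  rcases c.tv_cases S hy with h | ⟨-, h⟩
  · exact Subgroup.mem_sup_left h
  · exact Subgroup.mem_sup_right h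

theorem conj_C (S : Setup p V H K) (hS3 : H = ⨆ A : {A : Subgroup G // A ≤ H ∧ Cfsg.IsBestOffenderOn p V A}, (A : Subgroup G))
    (c : Core p V H K a b) {h x : G} (hh : h ∈ H) (hx : x ∈ Pair.C V a b) : h * x * h⁻¹ ∈ Pair.C V a b := by
  rw [← c.pair.centralizer_E] at hx ⊢
  refine Subgroup.mem_inf.2 ⟨conj_mem_V S hh hx.1, fun e he => ?_⟩
  have he' := (Subgroup.mem_normalizer_iff''.1 (H_normalizes S hS3 c hh) e).1 he
  have h1 := hx.2 _ he'
  calc e * (h * x * h⁻¹) = h * (h⁻¹ * e * h * x) * h⁻¹ := by group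
    _ = h * (x * (h⁻¹ * e * h)) * h⁻¹ := by rw [h1]
    _ = h * x * h⁻¹ * e := by group

theorem comm_F (S : Setup p V H K) (hS3 : H = ⨆ A : {A : Subgroup G // A ≤ H ∧ Cfsg.IsBestOffenderOn p V A}, (A : Subgroup G))
    (c : Core p V H K a b) : ⁅Pair.E a b, F V H a b⁆ = ⊥ := by
  rw [eq_bot_iff, Subgroup.commutator_le]
  intro e he f hf
  rw [Subgroup.mem_bot, commutatorElement_eq_one_iff_commute]
  exact commute_of_split S (fun v hv => c.pair.exists_decomp_mem S hv) (c.pair.E_le he) hf.1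
    (fun w hw => c.pair.E_conj_W S he hw) (fun x hx => c.pair.E_fix_C he hx) (fun w hw => (hf.2 w hw).symm)
    fun x hx => c.conj_C S hS3 hf.1 hx

theorem comm_V_F (S : Setup p V H K) (hS3 : H = ⨆ A : {A : Subgroup G // A ≤ H ∧ Cfsg.IsBestOffenderOn p V A}, (A : Subgroup G))
    (c : Core p V H K a b) : ⁅V, F V H a b⁆ ≤ Pair.C V a b := by
  rw [Subgroup.commutator_le]
  intro v hv f hf
  obtain ⟨w, hw, x, hx, rfl⟩ := c.pair.exists_decomp_mem S hv
  rw [← commutatorElement_inv, comm_hom S hf.1 (c.pair.W_le S hw) hx.1.1,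
    commutatorElement_eq_one_iff_commute.2 (show Commute f w from (hf.2 w hw).symm), one_mul, commutatorElement_def]
  exact inv_mem (mul_mem (c.conj_C S hS3 hf.1 hx) (inv_mem hx))

end Core

/-- A core exists for a minimal offender, with the group in closed form. -/
theorem core_of_minimal (S : Setup p V H K) {A : Subgroup G} (hAH : A ≤ H) (hA : IsBestOffenderOn p V A)
    (hAV : ⁅V, A⁆ ≠ ⊥) (hmin : ∀ B : Subgroup G, B ≤ A → IsBestOffenderOn p V B → ⁅V, B⁆ ≠ ⊥ → B = A) :
    ∃ a b, A = Subgroup.zpowers a ∧ Core p V H K a b ∧ Comp K A = Pair.E a b := by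
  obtain ⟨a, rfl, hta⟩ := small_iff_tv (small_of_minimal S hAH hA hAV hmin)
  obtain ⟨b, c⟩ := exists_core S hta
  exact ⟨a, b, rfl, c, c.sup⟩

theorem commutator_small (S : Setup p V H K) {a : G} (h : Tv p V H a) :
    ⁅V, Subgroup.zpowers a⁆ = axisSet V a := by
  refine le_antisymm ?_ ?_
  · rw [Subgroup.commutator_le]
    intro v hv y hy
    obtain ⟨i, rfl⟩ := ((isOfFinOrder_of_finite a).mem_powers_iff_mem_zpowers).2 hy
    rw [← commutatorElement_inv]
    refine inv_mem ?_
    show ⁅a ^ i, v⁆ ∈ axisSet V a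
    clear hy
    induction i with
    | zero => simp
    | succ i ih =>
      have hm := comm_mem_axis (a := a) hv
      have hf := Subgroup.mem_centralizer_singleton_iff.1 (h.fix_axis S hm)
      have e : ⁅a ^ (i + 1), v⁆ = a ^ i * ⁅a, v⁆ * (a ^ i)⁻¹ * ⁅a ^ i, v⁆ := by
        simp only [commutatorElement_def, pow_succ]; group
      rw [e, ((show Commute a ⁅a, v⁆ from hf.symm).pow_left i).eq, mul_inv_cancel_right]
      exact mul_mem hm (ih)
  · intro x hx
    obtain ⟨v, hv, rfl⟩ := (axis_eq_image S h.mem).1 hx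
    rw [← commutatorElement_inv]
    exact inv_mem (Subgroup.commutator_mem_commutator hv (Subgroup.mem_zpowers a))

theorem minimal_relIndex (S : Setup p V H K) {A : Subgroup G} (h : Small p V H A) :
    (V ⊓ Subgroup.centralizer (A : Set G)).relIndex V = p := by
  have h1 := Subgroup.card_mul_index ((V ⊓ Subgroup.centralizer (A : Set G)).subgroupOf V)
  rw [Nat.card_congr (Subgroup.subgroupOfEquivOfLe inf_le_left).toEquiv] at h1
  rw [← h.index, mul_comm p] at h1
  exact Nat.eq_of_mul_eq_mul_left Nat.card_pos h1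

theorem indep_of_card {A : Subgroup G} (hA : IsElementaryAbelian p A) {k : ℕ} (B : Fin k → Subgroup G)
    (hB : ∀ i, B i ≤ A) (hc : ∀ i, Nat.card (B i) = p) (hn : Nat.card A = p ^ k) (hs : ⨆ i, B i = A) : iSupIndep B := by
  intro i
  rw [disjoint_iff]
  refine inf_eq_bot_of_card_p (hc i) fun hle => ?_
  rcases k with _ | k
  · exact i.elim0
  have hle' : A ≤ ⨆ j : Fin k, B (i.succAbove j) := by
    have hothers : (⨆ (j) (_ : j ≠ i), B j) ≤ ⨆ j : Fin k, B (i.succAbove j) := iSup₂_le fun j hj => by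
      obtain ⟨j', rfl⟩ := Fin.exists_succAbove_eq hj
      exact le_iSup (fun j => B (i.succAbove j)) j'
    rw [← hs]
    refine iSup_le fun j => ?_
    by_cases hj : j = i
    · subst hj; exact hle.trans hothers
    · exact (le_iSup₂ (f := fun j (_ : j ≠ i) => B j) j hj).trans hothers
  have h1 := (Nat.le_of_dvd Nat.card_pos (Subgroup.card_dvd_of_le hle')).trans
    (card_iSup_le hA k _ (fun j => hB _) (fun j => hc _))
  rw [hn] at h1
  exact absurd h1 (not_le.2 (Nat.pow_lt_pow_right (Fact.out : p.Prime).one_lt (Nat.lt_succ_self k)))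

/-- An index set of components: the splitting of `V`. -/
theorem splitting (S : Setup p V H K) {ι : Type*} (W C : ι → Subgroup G) (hW : ∀ i, W i ≤ V)
    (hinf : ∀ i, W i ⊓ C i = ⊥) (hdec : ∀ i, ∀ v ∈ V, ∃ w ∈ W i, ∃ c ∈ C i, v = w * c)
    (horth : ∀ i j, i ≠ j → W i ≤ C j) (s : Finset ι) :
    (∀ x ∈ ⨆ i ∈ s, W i, (∀ i ∈ s, x ∈ C i) → x = 1) ∧
      ∀ v ∈ V, ∃ u ∈ ⨆ i ∈ s, W i, ∀ i ∈ s, u⁻¹ * v ∈ C i := by
  classical
  induction s using Finset.induction_on with
  | empty => exact ⟨fun x hx _ => by simpa using hx, fun v _ => ⟨1, one_mem _, by simp⟩⟩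
  | insert i s his ih =>
    rw [Finset.iSup_insert]
    have hsV : (⨆ j ∈ s, W j) ≤ V := iSup₂_le fun j _ => hW j
    have hsC : (⨆ j ∈ s, W j) ≤ C i := iSup₂_le fun j hj => horth j i fun e => his (e ▸ hj)
    constructor
    · intro x hx hxC
      have hn : W i ≤ Subgroup.normalizer ((⨆ j ∈ s, W j : Subgroup G) : Set G) := le_normalizer_of_conj fun y hy z hz => by
        rw [(comm_V S (hW i hy) (hsV hz)).eq, mul_inv_cancel_right]; exact hz
      obtain ⟨w, hw, y, hy, hwy⟩ := (Subgroup.coe_mul_of_left_le_normalizer_right (H := W i) (N := ⨆ j ∈ s, W j) hn).le hx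
      simp only at hwy
      have hw1 : w = 1 := by
        rw [← Subgroup.mem_bot, ← hinf i]
        refine Subgroup.mem_inf.2 ⟨hw, ?_⟩
        have : w = x * y⁻¹ := eq_mul_inv_of_mul_eq hwy
        rw [this]; exact mul_mem (hxC i (Finset.mem_insert_self i s)) (inv_mem (hsC hy))
      rw [hw1, one_mul] at hwy
      exact ih.1 x (hwy ▸ hy) fun j hj => hxC j (Finset.mem_insert_of_mem hj)
    · intro v hv
      obtain ⟨u, hu, huC⟩ := ih.2 v hv
      obtain ⟨w, hw, c, hc, hwc⟩ := hdec i _ (mul_mem (inv_mem (hsV hu)) hv)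
      have e : (w * u)⁻¹ * v = u⁻¹ * w⁻¹ * v := by rw [mul_inv_rev]
      refine ⟨w * u, Subgroup.mul_mem_sup hw hu, fun j hj => ?_⟩
      have e2 : (w * u)⁻¹ * v = c := by
        rw [e, (comm_V S (inv_mem (hsV hu)) (inv_mem (hW i hw))).eq, mul_assoc, hwc, inv_mul_cancel_left]
      rw [e2]
      rcases Finset.mem_insert.1 hj with rfl | hj'
      · exact hc
      · have : c = w⁻¹ * (u⁻¹ * v) := by rw [hwc, inv_mul_cancel_left]
        rw [this]
        exact mul_mem (inv_mem (horth i j (fun e => his (e ▸ hj')) hw)) (huC j hj')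

end CfsgLib.Offender
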