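import Mathlib
import Cfsg.Agent.Lib.PLocal.Offender.Structure
import Cfsg.Agent.Lib.PLocal.Offender.Dual
import Cfsg.Agent.Lib.PLocal.MaxElemReplacement
import Cfsg.Agent.Lib.Blocks.FongReduction
import Cfsg.Agent.S0606

/-!
A group acting on a normal elementary abelian `p`-subgroup `V` with `O_p(G / C_G(V)) = 1`: passage to
`V ⋊ G/C_G(V)`.
-/

set_option autoImplicit false
set_option linter.unusedSectionVars false

universe u

namespace CfsgLib.Offender

open Cfsg
open scoped commutatorElement

variable {G : Type u} [Group G] [Finite G] {p : ℕ} [Fact p.Prime]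

/-- The conjugation map into `MulAut V`. -/
noncomputable def actHom (V : Subgroup G) [V.Normal] : G →* MulAut V := MulAut.conjNormal

theorem actHom_ker (V : Subgroup G) [V.Normal] : (actHom V).ker = Subgroup.centralizer (V : Set G) := by
  ext g
  rw [MonoidHom.mem_ker, MulEquiv.ext_iff, Subgroup.mem_centralizer_iff]
  constructor
  · intro h v hv
    have := congrArg Subtype.val (h ⟨v, hv⟩)
    simp only [actHom, MulAut.conjNormal_apply, MulAut.one_apply] at this
    exact (mul_inv_eq_iff_eq_mul.1 this).symm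
  · intro h v
    apply Subtype.ext
    simp only [actHom, MulAut.conjNormal_apply, MulAut.one_apply]
    rw [← h v v.2, mul_inv_cancel_right]

/-- `G / C_G(V)` in its action on `V`. -/
noncomputable def quotAct (V : Subgroup G) [V.Normal] : G ⧸ Subgroup.centralizer (V : Set G) →* MulAut V :=
  QuotientGroup.lift _ (actHom V) (actHom_ker V).ge

/-- `V ⋊ G/C_G(V)`. -/
abbrev Split (V : Subgroup G) [V.Normal] := ↥V ⋊[quotAct V] (G ⧸ Subgroup.centralizer (V : Set G))

instance (V : Subgroup G) [V.Normal] : Finite (Split V) :=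
  Finite.of_equiv _ (SemidirectProduct.equivProd (φ := quotAct V)).symm

/-- The image of an element of `G`. -/
noncomputable def toSplit (V : Subgroup G) [V.Normal] : G →* Split V :=
  (SemidirectProduct.inr : _ →* Split V).comp (QuotientGroup.mk' _)

/-- The copy of `V`. -/
noncomputable def splitV (V : Subgroup G) [V.Normal] : Subgroup (Split V) := (SemidirectProduct.inl : ↥V →* Split V).range

variable {V : Subgroup G} [V.Normal]

theorem toSplit_conj (g : G) (v : V) :
    toSplit V g * SemidirectProduct.inl v * (toSplit V g)⁻¹ =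
      SemidirectProduct.inl ⟨g * v * g⁻¹, ‹V.Normal›.conj_mem _ v.2 g⟩ := by
  show SemidirectProduct.inr (QuotientGroup.mk' _ g) * SemidirectProduct.inl v *
    (SemidirectProduct.inr (QuotientGroup.mk' _ g))⁻¹ = _
  rw [← map_inv, ← SemidirectProduct.inl_aut]
  rfl

theorem toSplit_ker : (toSplit V).ker = Subgroup.centralizer (V : Set G) := by
  ext g
  rw [MonoidHom.mem_ker]
  show (SemidirectProduct.inr (QuotientGroup.mk' _ g) : Split V) = 1 ↔ _
  rw [← map_one (SemidirectProduct.inr : _ →* Split V), SemidirectProduct.inr_inj]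
  exact QuotientGroup.eq_one_iff g

theorem commute_split_iff {g : G} {v : V} : Commute (toSplit V g) (SemidirectProduct.inl v) ↔ Commute g (v : G) := by
  constructor
  · intro h
    have := toSplit_conj g v
    rw [h.eq, mul_inv_cancel_right, SemidirectProduct.inl_inj] at this
    exact mul_inv_eq_iff_eq_mul.1 (congrArg Subtype.val this).symm
  · intro h
    show toSplit V g * _ = _
    rw [← mul_inv_eq_iff_eq_mul, toSplit_conj, SemidirectProduct.inl_inj]
    refine Subtype.ext ?_
    show g * (v : G) * g⁻¹ = v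
    rw [h.eq, mul_inv_cancel_right]

theorem card_fixed_map (B : Subgroup G) :
    Nat.card ↥(splitV V ⊓ Subgroup.centralizer ((B.map (toSplit V) : Subgroup (Split V)) : Set (Split V))) =
      Nat.card ↥(V ⊓ Subgroup.centralizer (B : Set G)) := by
  have e : splitV V ⊓ Subgroup.centralizer ((B.map (toSplit V) : Subgroup (Split V)) : Set (Split V)) =
      ((V ⊓ Subgroup.centralizer (B : Set G)).subgroupOf V).map (SemidirectProduct.inl : ↥V →* Split V) := by
    ext y
    constructor
    · rintro ⟨⟨v, rfl⟩, hv⟩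
      exact ⟨v, Subgroup.mem_inf.2 ⟨v.2, fun b hb => (commute_split_iff.1 (hv _ ⟨b, hb, rfl⟩)).eq⟩, rfl⟩
    · rintro ⟨v, hv, rfl⟩
      refine Subgroup.mem_inf.2 ⟨⟨v, rfl⟩, ?_⟩
      rintro _ ⟨b, hb, rfl⟩
      exact (commute_split_iff.2 ((Subgroup.mem_inf.1 hv).2 b hb)).eq
  rw [e, Subgroup.card_map_of_injective SemidirectProduct.inl_injective,
    Nat.card_congr (Subgroup.subgroupOfEquivOfLe inf_le_left).toEquiv]

theorem card_splitV : Nat.card (splitV V) = Nat.card V := by
  rw [splitV, MonoidHom.range_eq_map, Subgroup.card_map_of_injective SemidirectProduct.inl_injective, Subgroup.card_top]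

theorem splitV_elem (hV : IsElementaryAbelian p V) : IsElementaryAbelian p (splitV V) := by
  refine ⟨⟨⟨?_⟩⟩, ?_⟩
  · rintro ⟨_, v, rfl⟩ ⟨_, w, rfl⟩
    exact Subtype.ext (by
      show SemidirectProduct.inl v * SemidirectProduct.inl w = SemidirectProduct.inl w * SemidirectProduct.inl v
      rw [← map_mul, ← map_mul, hV.1.is_comm.comm])
  · rintro _ ⟨v, rfl⟩
    rw [← map_pow, ← map_one (SemidirectProduct.inl : ↥V →* Split V)]
    exact congrArg _ (Subtype.ext (by simpa using hV.2 v v.2))

theorem normalizer_splitV (X : Subgroup G) :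
    X.map (toSplit V) ≤ Subgroup.normalizer (splitV V : Set (Split V)) := by
  refine le_normalizer_of_conj ?_
  rintro _ ⟨x, -, rfl⟩ _ ⟨v, rfl⟩
  exact ⟨_, (toSplit_conj x v).symm⟩

theorem faith_split (X : Subgroup G) :
    X.map (toSplit V) ⊓ Subgroup.centralizer (splitV V : Set (Split V)) = ⊥ := by
  rw [eq_bot_iff]
  rintro y ⟨⟨x, -, rfl⟩, hy⟩
  rw [Subgroup.mem_bot, ← MonoidHom.mem_ker, toSplit_ker]
  intro v hv
  exact (commute_split_iff.1 (hy _ ⟨⟨v, hv⟩, rfl⟩).symm).eq.symm

/-- For a normal subgroup the hypothesis on `O_{p'}` holds. -/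
theorem core_hyp (hsep : IsPSolvable p G) (hO : pCore p (G ⧸ Subgroup.centralizer (V : Set G)) = ⊥)
    (X : Subgroup G) [X.Normal] :
    Subgroup.centralizer (pPrimeCore p ↥(X.map (toSplit V)) : Set ↥(X.map (toSplit V))) ≤
      pPrimeCore p ↥(X.map (toSplit V)) := by
  set q := QuotientGroup.mk' (Subgroup.centralizer (V : Set G))
  haveI : (X.map q).Normal := ‹X.Normal›.map q (QuotientGroup.mk'_surjective _)
  have e : X.map (toSplit V) = (X.map q).map (SemidirectProduct.inr : _ →* Split V) := by
    rw [Subgroup.map_map]; rfl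
  let ε : ↥(X.map q) ≃* ↥(X.map (toSplit V)) :=
    ((X.map q).equivMapOfInjective _ SemidirectProduct.inr_injective).trans (MulEquiv.subgroupCongr e.symm)
  refine centralizer_pPrimeCore_le ?_ ?_
  · exact isPSolvable_transport ε
      (haveI := Fintype.ofFinite (G ⧸ Subgroup.centralizer (V : Set G))
      CfsgLib.Blocks.isPSolvable_subgroup (Fact.out) (Cfsg.Agent.S3744.isPSolvable_quotient hsep _) _)
  · rw [← CfsgLib.pCore_map_equiv p ε, Subgroup.map_eq_bot_iff_of_injective _ ε.injective]
    haveI : ((pCore p ↥(X.map q)).map (X.map q).subtype).Normal := ConjAct.normal_of_characteristic_of_normal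
    have h1 : (pCore p ↥(X.map q)).map (X.map q).subtype ≤ pCore p (G ⧸ Subgroup.centralizer (V : Set G)) :=
      CfsgLib.le_pCore ((CfsgLib.isPGroup_pCore p).map _)
    rwa [hO, le_bot_iff, Subgroup.map_eq_bot_iff_of_injective _ (X.map q).subtype_injective] at h1

theorem setup_split (hV : IsElementaryAbelian p V) (hsep : IsPSolvable p G)
    (hO : pCore p (G ⧸ Subgroup.centralizer (V : Set G)) = ⊥) (X : Subgroup G) [X.Normal] :
    Setup p (splitV V) (X.map (toSplit V))
      ((pPrimeCore p ↥(X.map (toSplit V))).map (X.map (toSplit V)).subtype) :=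
  setup_of_hyp (splitV_elem hV) (normalizer_splitV X) (faith_split X) (core_hyp hsep hO X)

theorem card_map_split (B : Subgroup G) :
    Nat.card (B.map (toSplit V)) * Nat.card ↥(B ⊓ Subgroup.centralizer (V : Set G)) = Nat.card B := by
  let f : ↥B →* Split V := (toSplit V).comp B.subtype
  have h := Subgroup.card_mul_index f.ker
  rw [Subgroup.index_ker] at h
  have hr : f.range = B.map (toSplit V) := by rw [MonoidHom.range_comp, Subgroup.range_subtype]
  have hk : f.ker = (B ⊓ Subgroup.centralizer (V : Set G)).subgroupOf B := by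
    rw [← MonoidHom.comap_ker, toSplit_ker, Subgroup.inf_subgroupOf_left]
    rfl
  rw [hr, hk, Nat.card_congr (Subgroup.subgroupOfEquivOfLe inf_le_left).toEquiv] at h
  rw [← h, mul_comm]

theorem map_elem {A : Subgroup G} (hA : IsElementaryAbelian p A) : IsElementaryAbelian p (A.map (toSplit V)) := by
  obtain ⟨hc, he⟩ := hA
  refine ⟨inferInstance, ?_⟩
  rintro _ ⟨a, ha, rfl⟩
  rw [← map_pow, he a ha, map_one]

/-- `|A| |C_V(A)| ≤ |A ∩ C_G(V)| |V|`. -/
theorem card_mul_fixed_le_normal (hV : IsElementaryAbelian p V) (hsep : IsPSolvable p G)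
    (hO : pCore p (G ⧸ Subgroup.centralizer (V : Set G)) = ⊥) {A : Subgroup G} (hA : IsElementaryAbelian p A) :
    Nat.card A * Nat.card ↥(V ⊓ Subgroup.centralizer (A : Set G)) ≤
      Nat.card ↥(A ⊓ Subgroup.centralizer (V : Set G)) * Nat.card V := by
  have h := card_mul_fixed_le (setup_split hV hsep hO ⊤) _ _ rfl (map_elem (V := V) hA) (Subgroup.map_mono le_top)
  rw [card_fixed_map, card_splitV] at h
  rw [← card_map_split (V := V) A, mul_comm (Nat.card (A.map (toSplit V))), mul_assoc]
  exact Nat.mul_le_mul_left _ h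

theorem map_best {A : Subgroup G} (hA : A ∈ maxElementaryAbelianSubgroups p G) (hV : IsElementaryAbelian p V) :
    IsBestOffenderOn p (splitV V) (A.map (toSplit V)) := by
  have hb := Cfsg.Agent.S0606.result V hV A hA
  have hel := map_elem (V := V) hA.1
  refine ⟨fun B hB => ?_, ?_, fun a ha => by rw [hel.2 a ha]; exact one_mem _⟩
  · set B₀ := A ⊓ B.comap (toSplit V) with hB₀
    have e : B₀.map (toSplit V) = B := by
      refine le_antisymm (Subgroup.map_le_iff_le_comap.2 inf_le_right) fun y hy => ?_
      obtain ⟨a, ha, rfl⟩ := hB hy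
      exact ⟨a, ⟨ha, hy⟩, rfl⟩
    have hker : B₀ ⊓ Subgroup.centralizer (V : Set G) = A ⊓ Subgroup.centralizer (V : Set G) := by
      refine le_antisymm (inf_le_inf_right _ inf_le_left) (le_inf (le_inf inf_le_left fun x hx => ?_) inf_le_right)
      have h1 : toSplit V x = 1 := by rw [← MonoidHom.mem_ker, toSplit_ker]; exact hx.2
      rw [Subgroup.mem_comap, h1]; exact one_mem _
    have h := hb.1 B₀ inf_le_left
    rw [← card_map_split (V := V) B₀, ← card_map_split (V := V) A, hker, e] at h
    rw [← e, card_fixed_map, e, card_fixed_map]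
    refine Nat.le_of_mul_le_mul_left ?_ (Nat.card_pos (α := ↥(A ⊓ Subgroup.centralizer (V : Set G))))
    calc _ = Nat.card B * Nat.card ↥(A ⊓ Subgroup.centralizer (V : Set G)) * Nat.card ↥(V ⊓ Subgroup.centralizer (B₀ : Set G)) := by ring
      _ ≤ _ := h
      _ = _ := by ring
  · haveI := hel.1
    rw [(Subgroup.commutator_eq_bot_iff_le_centralizer).2 fun a ha b hb =>
      Subgroup.mul_comm_of_mem_isMulCommutative (A.map (toSplit V)) hb ha]
    exact bot_le

end CfsgLib.Offender
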