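import Mathlib
import Cfsg.Agent.Lib.PLocal.Offender.Reduction
import Cfsg.Agent.Lib.PLocal.ThompsonFactor

/-!
Failure of Thompson factorisation in a `p`-separable group.
-/

set_option autoImplicit false
set_option linter.unusedSectionVars false

universe u

namespace CfsgLib.Offender

open Cfsg CfsgLib.PLocal
open scoped commutatorElement

variable {G : Type u} [Group G] [Finite G] {p : ℕ} [Fact p.Prime]

/-- `V = ⟨Ω₁(Z(S))⟩`. -/
abbrev omegaJoin (p : ℕ) (G : Type u) [Group G] : Subgroup G := ⨆ S : Sylow p G, omegaZ p (S : Subgroup G)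

theorem omegaJoin_normal : (omegaJoin p G).Normal := by
  refine ⟨fun v hv g => ?_⟩
  have hle : omegaJoin p G ≤ (omegaJoin p G).comap (MulAut.conj g).toMonoidHom := iSup_le fun S =>
    Subgroup.map_le_iff_le_comap.1 ((omegaZ_map (S := (S : Subgroup G)) (MulAut.conj g).toMonoidHom
      (fun a _ b _ h => (MulAut.conj g).injective h)).le.trans
        (le_iSup (fun S : Sylow p G => omegaZ p (S : Subgroup G)) (g • S)))
  exact hle hv

theorem omegaJoin_props (hsep : IsPSolvable p G) (hO : pPrimeCore p G = ⊥) :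
    IsElementaryAbelian p (omegaJoin p G) ∧
      ∀ [(omegaJoin p G).Normal], pCore p (G ⧸ Subgroup.centralizer (omegaJoin p G : Set G)) = ⊥ := by
  haveI : (pCore p G).Normal := inferInstance
  set P := pCore p G with hP
  have hhh := CfsgLib.Blocks.hall_higman hsep hO
  have hle : omegaJoin p G ≤ P ⊓ Subgroup.centralizer (P : Set G) := iSup_le fun S => by
    have hPS : P ≤ (S : Subgroup G) := by
      obtain ⟨Q, hQ⟩ := (CfsgLib.isPGroup_pCore (G := G) p).exists_le_sylow
      obtain ⟨g, hg⟩ := MulAction.exists_smul_eq G Q S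
      intro x hx
      have h1 : g⁻¹ * x * g ∈ Q := hQ (by simpa using ‹P.Normal›.conj_mem x hx g⁻¹)
      rw [← hg]
      exact ⟨_, h1, by simp [mul_assoc]⟩
    have h1 : omegaZ p (S : Subgroup G) ≤ Subgroup.centralizer (P : Set G) := fun z hz y hy =>
      (omegaZ_centralizes (S : Subgroup G) (hPS hy) z hz).symm
    exact le_inf (h1.trans hhh) h1
  have hcomm : ∀ x ∈ omegaJoin p G, ∀ y ∈ omegaJoin p G, x * y = y * x := fun x hx y hy =>
    (hle hy).2 x (hle hx).1
  refine ⟨⟨⟨⟨fun a b => Subtype.ext (hcomm a a.2 b b.2)⟩⟩, fun x hx => ?_⟩, ?_⟩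
  · have h1 : x ^ p = 1 ∧ x ∈ omegaJoin p G := by
      induction hx using Subgroup.iSup_induction' with
      | hp S z hz =>
        refine ⟨?_, le_iSup (fun S : Sylow p G => omegaZ p (S : Subgroup G)) S hz⟩
        induction hz using Subgroup.closure_induction with
        | mem y hy => exact hy.2
        | one => exact one_pow p
        | mul y w hy hw h1 h2 =>
          have hyV : y ∈ omegaJoin p G := le_iSup (fun S : Sylow p G => omegaZ p (S : Subgroup G)) S hy
          have hwV : w ∈ omegaJoin p G := le_iSup (fun S : Sylow p G => omegaZ p (S : Subgroup G)) S hw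
          rw [(show Commute y w from hcomm y hyV w hwV).mul_pow, h1, h2, one_mul]
        | inv y _ h1 => rw [inv_pow, h1, inv_one]
      | h1 => exact ⟨one_pow p, one_mem _⟩
      | hmul y w _ _ hy hw =>
        exact ⟨by rw [(show Commute y w from hcomm y hy.2 w hw.2).mul_pow, hy.1, hw.1, one_mul], mul_mem hy.2 hw.2⟩
    exact h1.1
  · intro hn
    set C := Subgroup.centralizer (omegaJoin p G : Set G) with hC
    set q := QuotientGroup.mk' C
    set M := (pCore p (G ⧸ C)).comap q with hM
    have hCM : C ≤ M := fun x hx => by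
      rw [hM, Subgroup.mem_comap, show q x = 1 from (QuotientGroup.eq_one_iff x).2 hx]; exact one_mem _
    have hMC : M ≤ C := by
      intro m hm v hv
      suffices h : omegaJoin p G ≤ Subgroup.centralizer {m} by
        exact Subgroup.mem_centralizer_singleton_iff.1 (h hv)
      refine iSup_le fun S z hz => Subgroup.mem_centralizer_singleton_iff.2 ?_
      have hpc : q m ∈ pCore p (G ⧸ C) := hm
      have hle2 : pCore p (G ⧸ C) ≤ (S : Subgroup G).map q := by
        obtain ⟨Q, hQ⟩ := (CfsgLib.isPGroup_pCore (G := G ⧸ C) p).exists_le_sylow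
        obtain ⟨g, hg⟩ := MulAction.exists_smul_eq (G ⧸ C) Q (S.mapSurjective (QuotientGroup.mk'_surjective C))
        intro x hx
        have h1 : g⁻¹ * x * g ∈ Q := hQ (by
          have := (inferInstance : (pCore p (G ⧸ C)).Normal).conj_mem x hx g⁻¹
          rwa [inv_inv] at this)
        have h2 : MulAut.conj g (g⁻¹ * x * g) ∈ ((g • Q : Sylow p (G ⧸ C)) : Subgroup (G ⧸ C)) := ⟨_, h1, rfl⟩
        rw [hg, MulAut.conj_apply, show g * (g⁻¹ * x * g) * g⁻¹ = x by group] at h2
        exact h2
      obtain ⟨s, hs, hsm⟩ := hle2 hpc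
      have hd : s⁻¹ * m ∈ C := QuotientGroup.eq.1 hsm
      have h1 : z * s = s * z := omegaZ_centralizes (S : Subgroup G) hs z hz
      have h2 : z * (s⁻¹ * m) = s⁻¹ * m * z := hd z (le_iSup (fun S : Sylow p G => omegaZ p (S : Subgroup G)) S hz)
      calc z * m = z * s * (s⁻¹ * m) := by group
        _ = s * (z * (s⁻¹ * m)) := by rw [h1]; group
        _ = m * z := by rw [h2]; group
    rw [← Subgroup.map_comap_eq_self_of_surjective (QuotientGroup.mk'_surjective C) (pCore p (G ⧸ C)),
      show (pCore p (G ⧸ C)).comap q = C from le_antisymm hMC hCM, QuotientGroup.map_mk'_self]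

theorem thompsonSubgroup_normal' : (thompsonSubgroup p G).Normal := by
  haveI : (thompsonSubgroup p G).Characteristic :=
    Subgroup.characteristic_iff_map_eq.2 fun η => thompsonSubgroup_map η
  infer_instance

variable {V : Subgroup G} [V.Normal]

theorem commutator_omega_le (hV : IsElementaryAbelian p V) (hsep : IsPSolvable p G)
    (hO : pCore p (G ⧸ Subgroup.centralizer (V : Set G)) = ⊥) :
    ⁅omegaOne p (centerThompsonOf p (Subgroup.centralizer (V : Set G))), thompsonSubgroup p G⁆ ≤ V := by
  set C := Subgroup.centralizer (V : Set G) with hC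
  set W := omegaOne p (centerThompsonOf p C) with hW
  have hWC : W ≤ C := (Subgroup.closure_le _).2 fun x hx => Subgroup.map_subtype_le _ hx.1.1
  rw [Subgroup.commutator_le]
  intro w hw y hy
  suffices h : thompsonSubgroup p G ≤ (Subgroup.centralizer {(QuotientGroup.mk' V w)}).comap (QuotientGroup.mk' V) by
    have h1 := Subgroup.mem_centralizer_singleton_iff.1 (h hy)
    rw [← QuotientGroup.eq_one_iff]
    show QuotientGroup.mk' V ⁅w, y⁆ = 1
    rw [map_commutatorElement, commutatorElement_eq_one_iff_mul_comm, h1]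
  refine sSup_le fun A hA a ha => Subgroup.mem_centralizer_singleton_iff.2 ?_
  have hVc : V ≤ C := fun v hv u hu => comm_of_elem hV hu hv
  set B := A ⊓ C with hB
  have hVB : IsElementaryAbelian p (V ⊔ B) :=
    isElementaryAbelian_sup hV (isElementaryAbelian_of_le hA.1 inf_le_left) fun x hx y hy => hy.2 x hx
  have hcA := card_mul_fixed_le_normal hV hsep hO hA.1
  have hAV : V ⊓ Subgroup.centralizer (A : Set G) = A ⊓ V := (offender_of_maxElementary hV hA).1
  have hcard : Nat.card A ≤ Nat.card ↥(V ⊔ B) := by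
    have h1 := CfsgLib.Products.card_mul_card_le B V
    have h2 : B ⊓ V = A ⊓ V := by rw [hB, inf_assoc, inf_eq_right.2 hVc]
    rw [h2, sup_comm, ← hAV] at h1
    refine Nat.le_of_mul_le_mul_right ?_ (Nat.card_pos (α := ↥(V ⊓ Subgroup.centralizer (A : Set G))))
    exact hcA.trans h1
  have hmaxC : V ⊔ B ∈ maxElementaryAbelianSubgroups p G :=
    ⟨hVB, fun D hD => (hA.2 D hD).trans hcard⟩
  have hleC : V ⊔ B ≤ C := sup_le hVc inf_le_right
  have hVBJ : V ⊔ B ≤ thompsonSubgroupOf p C := le_thompsonSubgroupOf hleC hmaxC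
  have hwcent : ∀ u ∈ V ⊔ B, Commute u w := by
    have hle : W ≤ Subgroup.centralizer ((V ⊔ B : Subgroup G) : Set G) :=
      (Subgroup.closure_le _).2 fun x hx u hu => hx.1.2 u (hVBJ hu)
    exact fun u hu => hle hw u hu
  have hwp : w ^ p = 1 := by
    have : W ≤ centerThompsonOf p C := (Subgroup.closure_le _).2 fun x hx => hx.1
    have hcc : ∀ x ∈ centerThompsonOf p C, ∀ z ∈ centerThompsonOf p C, x * z = z * x := fun x hx z hz => hz.2 x hx.1
    clear hwcent
    induction hw using Subgroup.closure_induction with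
    | mem x hx => exact hx.2
    | one => exact one_pow p
    | mul x z hx hz h1 h2 => rw [(show Commute x z from hcc x (this hx) z (this hz)).mul_pow, h1, h2, one_mul]
    | inv x _ h1 => rw [inv_pow, h1, inv_one]
  have hzp : IsElementaryAbelian p (Subgroup.zpowers w) := by
    refine ⟨inferInstance, ?_⟩
    rintro _ ⟨i, rfl⟩
    show (w ^ i) ^ p = 1
    rw [← zpow_natCast, ← zpow_mul, mul_comm, zpow_mul, zpow_natCast, hwp, one_zpow]
  have hin : w ∈ V ⊔ B := by
    have hel : IsElementaryAbelian p ((V ⊔ B) ⊔ Subgroup.zpowers w) :=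
      isElementaryAbelian_sup hVB hzp fun u hu z hz => by
        obtain ⟨i, rfl⟩ := Subgroup.mem_zpowers_iff.1 hz
        exact ((hwcent u hu).zpow_right i).eq
    exact (Subgroup.eq_of_le_of_card_ge le_sup_left (hmaxC.2 _ hel)).ge
      (Subgroup.mem_sup_right (Subgroup.mem_zpowers w))
  have hle : V ⊔ B ≤ (Subgroup.centralizer {QuotientGroup.mk' V a}).comap (QuotientGroup.mk' V) := by
    refine sup_le (fun v hv => ?_) fun b hb => Subgroup.mem_centralizer_singleton_iff.2 ?_
    · rw [Subgroup.mem_comap, show QuotientGroup.mk' V v = 1 from (QuotientGroup.eq_one_iff v).2 hv]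
      exact one_mem _
    · rw [← map_mul, ← map_mul, (comm_of_elem hA.1 hb.1 ha).eq]
  exact (Subgroup.mem_centralizer_singleton_iff.1 (hle hin)).symm

theorem exists_normal_sl2 (hV : IsElementaryAbelian p V) (hsep : IsPSolvable p G)
    (hO : pCore p (G ⧸ Subgroup.centralizer (V : Set G)) = ⊥)
    (hJ : ¬ thompsonSubgroup p G ≤ Subgroup.centralizer (V : Set G)) :
    (p = 2 ∨ p = 3) ∧ ∃ E : Subgroup G, Subgroup.centralizer (V : Set G) ≤ E ∧
      E ≤ thompsonSubgroup p G ⊔ Subgroup.centralizer (V : Set G) ∧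
      thompsonSubgroup p G ⊔ Subgroup.centralizer (V : Set G) ≤ Subgroup.normalizer (E : Set G) ∧
      ∃ _hn : ((Subgroup.centralizer (V : Set G)).subgroupOf E).Normal,
        Nonempty ((↥E ⧸ (Subgroup.centralizer (V : Set G)).subgroupOf E) ≃* Matrix.SpecialLinearGroup (Fin 2) (ZMod p)) := by
  haveI := thompsonSubgroup_normal' (G := G) (p := p)
  set C := Subgroup.centralizer (V : Set G) with hC
  set J := thompsonSubgroup p G with hJdef
  set H := J.map (toSplit V) with hH
  have S := setup_split hV hsep hO J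
  have hS3 : H = ⨆ A : {A : Subgroup (Split V) // A ≤ H ∧ Cfsg.IsBestOffenderOn p (splitV V) A}, (A : Subgroup (Split V)) := by
    refine le_antisymm ?_ (iSup_le fun A => A.2.1)
    rw [hH, Subgroup.map_le_iff_le_comap]
    refine sSup_le fun A hA => ?_
    rw [← Subgroup.map_le_iff_le_comap]
    exact le_iSup_of_le ⟨A.map (toSplit V), Subgroup.map_mono (le_sSup hA), map_best hA hV⟩ le_rfl
  have hH1 : H ≠ ⊥ := fun e => hJ (by
    rw [hC, ← toSplit_ker]
    exact (Subgroup.map_eq_bot_iff J).1 e)
  obtain ⟨a, ha⟩ := exists_tv S hS3 hH1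
  obtain ⟨b, c⟩ := exists_core S ha
  set E' := Pair.E a b with hE'
  set E := E'.comap (toSplit V) ⊓ (J ⊔ C) with hE
  have hker : ∀ x ∈ C, toSplit V x = 1 := fun x hx => by
    rw [← MonoidHom.mem_ker, toSplit_ker]; exact hx
  have hJC : ∀ x ∈ J ⊔ C, toSplit V x ∈ H := by
    have : J ⊔ C ≤ H.comap (toSplit V) := sup_le (Subgroup.map_le_iff_le_comap.1 le_rfl)
      (fun x hx => by rw [Subgroup.mem_comap, hker x hx]; exact one_mem _)
    exact fun x hx => this hx
  have hCE : C ≤ E := le_inf (fun x hx => by rw [Subgroup.mem_comap, hker x hx]; exact one_mem _) le_sup_right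
  have hmap : E.map (toSplit V) = E' := by
    refine le_antisymm (Subgroup.map_le_iff_le_comap.2 inf_le_left) fun y hy => ?_
    obtain ⟨x, hx, rfl⟩ := c.pair.E_le hy
    exact ⟨x, Subgroup.mem_inf.2 ⟨hy, Subgroup.mem_sup_left hx⟩, rfl⟩
  refine ⟨c.pair.p_le_three S, E, hCE, inf_le_right, fun x hx => ?_, inferInstance, ?_⟩
  · refine Subgroup.mem_normalizer_iff.2 fun y => ?_
    have hn := Subgroup.mem_normalizer_iff.1 (c.H_normalizes S hS3 (hJC x hx)) (toSplit V y)
    rw [← map_inv, ← map_mul, ← map_mul] at hn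
    have hm : y ∈ J ⊔ C ↔ x * y * x⁻¹ ∈ J ⊔ C := by
      refine ⟨fun h => mul_mem (mul_mem hx h) (inv_mem hx), fun h => ?_⟩
      have := mul_mem (mul_mem (inv_mem hx) h) hx
      simpa [mul_assoc] using this
    rw [hE, Subgroup.mem_inf, Subgroup.mem_inf, Subgroup.mem_comap, Subgroup.mem_comap, hn, hm]
  · let f : ↥E →* Split V := (toSplit V).comp E.subtype
    have hk : f.ker = C.subgroupOf E := by
      rw [← MonoidHom.comap_ker, toSplit_ker]; rfl
    have hr : f.range = E' := by rw [MonoidHom.range_comp, Subgroup.range_subtype, hmap]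
    exact ⟨(QuotientGroup.quotientMulEquivOfEq hk.symm).trans ((QuotientGroup.quotientKerEquivRange f).trans
      ((MulEquiv.subgroupCongr hr).trans (c.pair.equiv S).choose))⟩

end CfsgLib.Offender
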