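import Mathlib
import Cfsg.Agent.Lib.PLocal.Offender.Structure
import Cfsg.Agent.Lib.AbelianOffender
import Cfsg.Agent.Lib.Products

/-!
An abelian `2`-group offending on `V` inside a linear group with self-centralizing odd core is elementary, and
`|A| |C_V(A)| ≤ |V|`.
-/

set_option autoImplicit false
set_option linter.unusedSectionVars false

universe u

namespace CfsgLib.Offender

open Cfsg
open scoped commutatorElement Pointwise

variable {G : Type u} [Group G] [Finite G] {V H K : Subgroup G}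

theorem exists_tv_of_abelian_offender (S : Setup 2 V H K) {A : Subgroup G} (hA : IsPGroup 2 A)
    (hAc : ∀ a ∈ A, ∀ b ∈ A, a * b = b * a) (hAH : A ≤ H) (hA1 : A ≠ ⊥)
    (hbig : Nat.card V ≤ Nat.card A * Nat.card ↥(V ⊓ Subgroup.centralizer (A : Set G))) :
    ∃ t ∈ A, Tv 2 V H t := by
  haveI : Fact (Nat.Prime 2) := ⟨Nat.prime_two⟩
  have hC0 : A ⊓ Subgroup.centralizer (V : Set G) = ⊥ :=
    eq_bot_iff.2 ((inf_le_inf_right _ hAH).trans S.faith.le)
  obtain ⟨B, hBA, hB⟩ := CfsgLib.AbelianOffender.exists_min (p := 2) (W := V) hA hAc (hAH.trans S.normV)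
    (isPGroup_of_elem S.elem) (fun v hv w hw => (comm_of_elem S.elem hv hw).eq)
    (fun h => hA1 (eq_bot_iff.2 ((le_inf le_rfl h).trans hC0.le)))
    (by rw [hC0, Subgroup.card_bot, mul_one]; exact hbig)
  have hBe : IsElementaryAbelian 2 B :=
    ⟨⟨⟨fun a b => Subtype.ext (hB.comm a a.2 b b.2)⟩⟩, fun b hb => by
      have h1 := hB.pow_mem (fun v hv => S.elem.2 v hv) hb
      rwa [hC0, Subgroup.mem_bot] at h1⟩
  have hBH : B ≤ H := hBA.trans hAH
  have heq : Nat.card B * Nat.card ↥(V ⊓ Subgroup.centralizer (B : Set G)) = Nat.card V := by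
    refine le_antisymm (card_mul_fixed_le S _ B rfl hBe hBH) ?_
    have h1 := hB.big
    rwa [hC0, Subgroup.card_bot, mul_one] at h1
  have hbest := best_of_card_eq S hBe hBH heq
  obtain ⟨n, hn⟩ := card_eq_pow hBe
  obtain ⟨D, hD, -⟩ := exists_decomp S n B hBH hbest hn
  have hn0 : n ≠ 0 := by
    rintro rfl
    have := hB.lt
    rw [hC0, Subgroup.eq_bot_of_card_eq B (by simpa using hn)] at this
    exact lt_irrefl _ this
  obtain ⟨t, ht, htv⟩ := small_iff_tv (hD ⟨0, Nat.pos_of_ne_zero hn0⟩).2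
  exact ⟨t, hBA ((hD ⟨0, Nat.pos_of_ne_zero hn0⟩).1 (ht ▸ Subgroup.mem_zpowers t)), htv⟩

theorem elem_of_abelian_offender (S : Setup 2 V H K) :
    ∀ (n : ℕ) (A : Subgroup G), Nat.card A = n → IsPGroup 2 A → (∀ a ∈ A, ∀ b ∈ A, a * b = b * a) → A ≤ H →
      Nat.card V ≤ Nat.card A * Nat.card ↥(V ⊓ Subgroup.centralizer (A : Set G)) →
      IsElementaryAbelian 2 A ∧
        Nat.card A * Nat.card ↥(V ⊓ Subgroup.centralizer (A : Set G)) = Nat.card V := by
  haveI : Fact (Nat.Prime 2) := ⟨Nat.prime_two⟩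
  intro n
  induction n using Nat.strong_induction_on with
  | _ n ih =>
  intro A hn hA hAc hAH hbig
  by_cases hA1 : A = ⊥
  · subst hA1
    refine ⟨⟨inferInstance, fun a ha => by rw [Subgroup.mem_bot.1 ha, one_pow]⟩, ?_⟩
    refine le_antisymm ?_ hbig
    rw [Subgroup.card_bot, one_mul]
    exact Nat.le_of_dvd Nat.card_pos (Subgroup.card_dvd_of_le inf_le_left)
  obtain ⟨t, htA, htv⟩ := exists_tv_of_abelian_offender S hA hAc hAH hA1 hbig
  obtain ⟨b, c⟩ := exists_core S htv
  set W := Pair.W V t b with hW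
  set C := Pair.C V t b with hC
  -- `A` normalizes the component
  have hKn : ∀ a ∈ A, ∀ x ∈ Pair.E t b, a * x * a⁻¹ ∈ Pair.E t b := by
    intro a ha
    have hle : Pair.E t b ≤ (Pair.E t b).comap (MulAut.conj a).toMonoidHom := by
      conv_lhs => rw [← c.sup]
      refine sup_le ?_ ?_
      · rw [Subgroup.commutator_le]
        intro k hk y hy
        show MulAut.conj a ⁅k, y⁆ ∈ Pair.E t b
        rw [map_commutatorElement, ← c.sup]
        refine Subgroup.mem_sup_left (Subgroup.commutator_mem_commutator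
          ((Subgroup.mem_normalizer_iff.1 (S.normK (hAH ha)) k).1 hk) ?_)
        obtain ⟨i, rfl⟩ := Subgroup.mem_zpowers_iff.1 hy
        rw [MulAut.conj_apply, (show Commute a t from hAc a ha t htA).zpow_right i, mul_inv_cancel_right]
        exact zpow_mem (Subgroup.mem_zpowers t) i
      · rw [Subgroup.zpowers_le, Subgroup.mem_comap]
        show a * t * a⁻¹ ∈ _
        rw [hAc a ha t htA, mul_inv_cancel_right]
        exact Subgroup.subset_closure (Set.mem_insert t _)
    exact fun x hx => hle hx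
  have hWn : ∀ a ∈ A, ∀ w ∈ W, a * w * a⁻¹ ∈ W := by
    intro a ha
    have hle : ⁅V, Pair.E t b⁆ ≤ ⁅V, Pair.E t b⁆.comap (MulAut.conj a).toMonoidHom := by
      rw [Subgroup.commutator_le]
      intro v hv e he
      show MulAut.conj a ⁅v, e⁆ ∈ ⁅V, Pair.E t b⁆
      rw [map_commutatorElement]
      exact Subgroup.commutator_mem_commutator (conj_mem_V S (hAH ha) hv) (hKn a ha e he)
    rw [c.pair.commutator_E S] at hle
    exact fun w hw => hle hw
  have hCn : ∀ a ∈ A, ∀ x ∈ C, a * x * a⁻¹ ∈ C := by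
    intro a ha x hx
    rw [hC, ← c.pair.centralizer_E] at hx ⊢
    refine Subgroup.mem_inf.2 ⟨conj_mem_V S (hAH ha) hx.1, fun e he => ?_⟩
    have he' := hKn a⁻¹ (inv_mem ha) e he
    rw [inv_inv] at he'
    have h1 := hx.2 _ he'
    calc e * (a * x * a⁻¹) = a * (a⁻¹ * e * a * x) * a⁻¹ := by group
      _ = a * (x * (a⁻¹ * e * a)) * a⁻¹ := by rw [h1]
      _ = a * x * a⁻¹ * e := by group
  -- `A` acts on the plane as `1` or `t`
  obtain ⟨la, lb, hla, hlb, hab, hza, hzb⟩ := c.pair.coord S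
  set L := axisSet V t with hL
  have hLW : L ≤ W := le_sup_left
  have hlbW : lb ∈ W := Subgroup.mem_sup_right hlb
  have hLn : ∀ a ∈ A, ∀ x ∈ L, a * x * a⁻¹ = x := by
    intro a ha x hx
    have hle : L ≤ L.comap (MulAut.conj a).toMonoidHom := by
      rw [hL]
      refine (Subgroup.closure_le _).2 ?_
      rintro _ ⟨v, hv, rfl⟩
      show MulAut.conj a ⁅t, v⁆ ∈ axisSet V t
      rw [map_commutatorElement, MulAut.conj_apply, hAc a ha t htA, mul_inv_cancel_right]
      exact comm_mem_axis (conj_mem_V S (hAH ha) hv)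
    have hcard := htv.card_axis S
    by_cases hx1 : x = 1
    · simp [hx1]
    have h2 : Subgroup.zpowers x = L :=
      eq_of_card_p hcard (Subgroup.zpowers_le.2 hx) (by simpa [Subgroup.zpowers_eq_bot] using hx1)
    have hmem : a * x * a⁻¹ ∈ Subgroup.zpowers x := h2.ge (hle hx)
    have hxo : orderOf x = 2 := by rw [← Nat.card_zpowers, h2, hcard]
    obtain ⟨i, hi⟩ := Subgroup.mem_zpowers_iff.1 hmem
    rcases Int.even_or_odd i with ⟨j, rfl⟩ | ⟨j, rfl⟩
    · exfalso
      refine hx1 ?_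
      rw [show x ^ (j + j) = 1 by rw [← two_mul, zpow_mul, zpow_two, ← pow_two, ← hxo, pow_orderOf_eq_one, one_zpow]] at hi
      calc x = a⁻¹ * (a * x * a⁻¹) * a := by group
        _ = 1 := by rw [← hi]; group
    · rw [← hi, zpow_add, zpow_mul, zpow_two, ← pow_two, ← hxo, pow_orderOf_eq_one, one_zpow, one_mul, zpow_one]
  have hfix : ∀ a : G, a * la * a⁻¹ = la → a * lb * a⁻¹ = lb → a ∈ Subgroup.centralizer (W : Set G) := by
    intro a h1 h2 w hw
    have hle : W ≤ Subgroup.centralizer {a} := by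
      refine sup_le ?_ ?_
      · show axisSet V t ≤ _
        rw [← hL, ← hza, Subgroup.zpowers_le]
        exact Subgroup.mem_centralizer_singleton_iff.2 (mul_inv_eq_iff_eq_mul.1 h1).symm
      · rw [← hzb, Subgroup.zpowers_le]
        exact Subgroup.mem_centralizer_singleton_iff.2 (mul_inv_eq_iff_eq_mul.1 h2).symm
    exact Subgroup.mem_centralizer_singleton_iff.1 (hle hw)
  set A' := A ⊓ Subgroup.centralizer (W : Set G) with hA'
  have hcase : ∀ a ∈ A, a ∈ A' ∨ t⁻¹ * a ∈ A' := by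
    intro a ha
    obtain ⟨y, hy, z, hz, hyz⟩ := c.pair.mem_W S (hWn a ha lb hlbW)
    have htt : t * lb * t⁻¹ = la * lb := by rw [conj_eq, hab]
    have hlp : la ^ 2 = 1 := S.elem.2 _ (axis_le S htv.mem hla)
    have hlbp : lb ^ 2 = 1 := S.elem.2 _ (axis_le S c.pair.tb.mem hlb)
    have hy' : y = 1 ∨ y = la := by
      obtain ⟨i, rfl⟩ := Subgroup.mem_zpowers_iff.1 (hza.ge hy)
      rcases Int.even_or_odd i with ⟨j, rfl⟩ | ⟨j, rfl⟩
      · left; rw [← two_mul, zpow_mul, zpow_two, ← pow_two, hlp, one_zpow]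
      · right; rw [zpow_add, zpow_mul, zpow_two, ← pow_two, hlp, one_zpow, one_mul, zpow_one]
    have hz' : z = 1 ∨ z = lb := by
      obtain ⟨i, rfl⟩ := Subgroup.mem_zpowers_iff.1 (hzb.ge hz)
      rcases Int.even_or_odd i with ⟨j, rfl⟩ | ⟨j, rfl⟩
      · left; rw [← two_mul, zpow_mul, zpow_two, ← pow_two, hlbp, one_zpow]
      · right; rw [zpow_add, zpow_mul, zpow_two, ← pow_two, hlbp, one_zpow, one_mul, zpow_one]
    rcases hz' with rfl | rfl
    · -- the image of `lb` lies on the axis: impossible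
      exfalso
      rw [mul_one] at hyz
      have h1 : a * lb * a⁻¹ ∈ L := by rw [hyz]; exact hy
      have h2 := hLn a⁻¹ (inv_mem ha) _ h1
      rw [inv_inv, show a⁻¹ * (a * lb * a⁻¹) * a = lb by group] at h2
      have h3 : lb ∈ L ⊓ axisSet V b := ⟨by rw [h2]; exact h1, hlb⟩
      have h4 : lb ∈ L ⊓ Subgroup.centralizer {b} :=
        ⟨h3.1, c.pair.tb.fix_axis S hlb⟩
      rw [c.pair.inf_axis S, Subgroup.mem_bot] at h4
      have := c.pair.tb.card_axis S
      rw [← hzb, h4, Subgroup.zpowers_one_eq_bot, Subgroup.card_bot] at this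
      exact absurd this (by norm_num)
    rcases hy' with rfl | rfl
    · left
      exact ⟨ha, hfix a (hLn a ha la hla) (by rw [hyz, one_mul])⟩
    · right
      have hta : t⁻¹ * a ∈ A := mul_mem (inv_mem htA) ha
      refine ⟨hta, hfix _ (hLn _ hta y hla) ?_⟩
      calc t⁻¹ * a * z * (t⁻¹ * a)⁻¹ = t⁻¹ * (a * z * a⁻¹) * t := by group
        _ = t⁻¹ * (t * z * t⁻¹) * t := by rw [hyz, htt]
        _ = z := by group
  have htW : ¬ W ≤ Subgroup.centralizer {t} := fun h => c.pair.symm.cross S (le_sup_right.trans h)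
  have hlt : Nat.card A' < Nat.card A := by
    refine lt_of_le_of_ne (Subgroup.card_le_of_le inf_le_left) fun e => htW fun w hw => ?_
    have h1 : A' = A := Subgroup.eq_of_le_of_card_ge inf_le_left e.ge
    exact Subgroup.mem_centralizer_singleton_iff.2 ((h1.ge htA).2 w hw)
  have ht2 : t * t = 1 := by rw [← pow_two, ← htv.ord, pow_orderOf_eq_one]
  have hcardA : Nat.card A ≤ 2 * Nat.card A' := by
    have hsub : (A : Set G) ⊆ ({1, t} : Set G) * (A' : Set G) := by
      intro a ha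
      rcases hcase a ha with h | h
      · exact ⟨1, by simp, a, h, one_mul a⟩
      · exact ⟨t, by simp, _, h, mul_inv_cancel_left t a⟩
    calc Nat.card A ≤ Nat.card ↥(({1, t} : Set G) * (A' : Set G)) := Nat.card_mono (Set.toFinite _) hsub
      _ ≤ Nat.card ↥({1, t} : Set G) * Nat.card ↥(A' : Set G) := Set.natCard_mul_le
      _ ≤ 2 * Nat.card A' := by
        refine Nat.mul_le_mul_right _ ?_
        rw [Nat.card_coe_set_eq]
        exact (Set.ncard_insert_le _ _).trans (by simp)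
  set D := C ⊓ Subgroup.centralizer (A : Set G) with hD
  have hWV : W ≤ V := c.pair.W_le S
  have hCV : C ≤ V := inf_le_left.trans inf_le_left
  have hfixA : Nat.card ↥(V ⊓ Subgroup.centralizer (A : Set G)) ≤ 2 * Nat.card D := by
    have hsub : ((V ⊓ Subgroup.centralizer (A : Set G) : Subgroup G) : Set G) ⊆ (L : Set G) * (D : Set G) := by
      rintro v ⟨hv, hvA⟩
      obtain ⟨w, hw, x, hx, rfl⟩ := c.pair.exists_decomp_mem S hv
      have key : ∀ a ∈ A, a * w * a⁻¹ = w ∧ a * x * a⁻¹ = x := by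
        intro a ha
        have e : (a * w * a⁻¹) * (a * x * a⁻¹) = w * x := by
          calc _ = a * (w * x) * a⁻¹ := by group
            _ = w * x := by rw [hvA a ha, mul_inv_cancel_right]
        have h1 : w⁻¹ * (a * w * a⁻¹) = x * (a * x * a⁻¹)⁻¹ := by
          rw [inv_mul_eq_iff_eq_mul, ← mul_assoc, eq_mul_inv_iff_mul_eq, e]
        have h2 : w⁻¹ * (a * w * a⁻¹) ∈ W ⊓ C := Subgroup.mem_inf.2 ⟨mul_mem (inv_mem hw) (hWn a ha w hw),
          by rw [h1]; exact mul_mem hx (inv_mem (hCn a ha x hx))⟩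
        rw [c.pair.inf_WC S, Subgroup.mem_bot] at h2
        refine ⟨(inv_mul_eq_one.1 h2).symm, ?_⟩
        rw [h2] at h1
        exact (mul_inv_eq_one.1 h1.symm).symm
      refine ⟨w, ?_, x, ⟨hx, fun a ha => mul_inv_eq_iff_eq_mul.1 (key a ha).2⟩, rfl⟩
      obtain ⟨y, hy, z, hz, rfl⟩ := c.pair.mem_W S hw
      have hyC : y ∈ Subgroup.centralizer {t} := htv.fix_axis S hy
      have hyzC : y * z ∈ Subgroup.centralizer {t} :=
        Subgroup.mem_centralizer_singleton_iff.2 (mul_inv_eq_iff_eq_mul.1 (key t htA).1).symm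
      have hzC : z ∈ axisSet V b ⊓ Subgroup.centralizer {t} :=
        ⟨hz, by have := mul_mem (inv_mem hyC) hyzC; rwa [inv_mul_cancel_left] at this⟩
      rw [c.pair.symm.inf_axis S, Subgroup.mem_bot] at hzC
      rw [hzC, mul_one]; exact hy
    calc _ ≤ Nat.card ↥((L : Set G) * (D : Set G)) := Nat.card_mono (Set.toFinite _) hsub
      _ ≤ Nat.card L * Nat.card D := Set.natCard_mul_le
      _ = _ := by rw [htv.card_axis S]
  have hfixA' : 4 * Nat.card D ≤ Nat.card ↥(V ⊓ Subgroup.centralizer (A' : Set G)) := by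
    have hle : W ⊔ D ≤ V ⊓ Subgroup.centralizer (A' : Set G) := by
      refine le_inf (sup_le hWV (inf_le_left.trans hCV)) (sup_le (fun w hw a ha => ?_) fun x hx a ha => ?_)
      · exact (ha.2 w hw).symm
      · exact hx.2 a ha.1
    have hbot : W ⊓ D = ⊥ := eq_bot_iff.2 ((inf_le_inf_left _ inf_le_left).trans (c.pair.inf_WC S).le)
    have h1 := CfsgLib.Products.card_mul_card_le W D
    rw [hbot, Subgroup.card_bot, mul_one, c.pair.card_W S] at h1
    exact h1.trans (Subgroup.card_le_of_le hle)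
  have hchain : Nat.card A * Nat.card ↥(V ⊓ Subgroup.centralizer (A : Set G)) ≤
      Nat.card A' * Nat.card ↥(V ⊓ Subgroup.centralizer (A' : Set G)) :=
    calc Nat.card A * Nat.card ↥(V ⊓ Subgroup.centralizer (A : Set G))
        ≤ (2 * Nat.card A') * (2 * Nat.card D) := Nat.mul_le_mul hcardA hfixA
      _ = Nat.card A' * (4 * Nat.card D) := by ring
      _ ≤ _ := Nat.mul_le_mul_left _ hfixA'
  obtain ⟨hel, heq⟩ := ih (Nat.card A') (hn ▸ hlt) A' rfl (hA.to_le inf_le_left)
    (fun a ha b hb => hAc a ha.1 b hb.1) (inf_le_left.trans hAH) (hbig.trans hchain)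
  refine ⟨⟨⟨⟨fun a b => Subtype.ext (hAc a a.2 b b.2)⟩⟩, fun a ha => ?_⟩, le_antisymm (hchain.trans_eq heq) hbig⟩
  rcases hcase a ha with h | h
  · exact hel.2 a h
  · have e : a = t * (t⁻¹ * a) := (mul_inv_cancel_left t a).symm
    rw [e, (show Commute t (t⁻¹ * a) from hAc t htA _ h.1).mul_pow, pow_two t, ht2, one_mul]
    exact hel.2 _ h

theorem card_mul_fixed_le_abelian (S : Setup 2 V H K) {A : Subgroup G} (hA : IsPGroup 2 A)
    (hAc : ∀ a ∈ A, ∀ b ∈ A, a * b = b * a) (hAH : A ≤ H) :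
    Nat.card A * Nat.card ↥(V ⊓ Subgroup.centralizer (A : Set G)) ≤ Nat.card V := by
  rcases le_total (Nat.card A * Nat.card ↥(V ⊓ Subgroup.centralizer (A : Set G))) (Nat.card V) with h | h
  · exact h
  · exact (elem_of_abelian_offender S _ A rfl hA hAc hAH h).2.le

end CfsgLib.Offender
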