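import Cfsg.Agent.Lib.PLocal.Offender.Orbit

/-!
Thompson factorisation in a `p`-separable group normalized by an elementary abelian `q`-group.
-/

set_option autoImplicit false
set_option linter.unusedSectionVars false

universe u

namespace CfsgLib.Offender.CoprimeAction

open Cfsg CfsgLib.PLocal CfsgLib.Offender
open scoped commutatorElement Pointwise

variable {M K : Type u} [Group M] [Finite M] [Group K] [Finite K] {p q : ℕ} [Fact p.Prime]
  [Fact q.Prime]

/-- `K` embedded normally in `M`, containing all `p`-subgroups, with an elementary abelian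
`q`-subgroup `X` of `M`, `q` prime to `|K|`. -/
structure Ctx (p q : ℕ) (ι : K →* M) (X : Subgroup M) : Prop where
  inj : Function.Injective ι
  normal : ι.range.Normal
  contains : ∀ P : Subgroup M, IsPGroup p P → P ≤ ι.range
  elem : IsElementaryAbelian q X
  cop : ¬ q ∣ Nat.card K
  sep : IsPSolvable p K
  core : pPrimeCore p K = ⊥

variable {ι : K →* M} {X : Subgroup M}

lemma exists_sylow_map (c : Ctx p q ι X) (T : Sylow p M) :
    ∃ S : Sylow p K, (S : Subgroup K).map ι = T := by
  have hle : (T : Subgroup M) ≤ ι.range := c.contains _ T.2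
  obtain ⟨S, hS⟩ := ((T.2.comap_of_injective ι c.inj) :
    IsPGroup p ((T : Subgroup M).comap ι)).exists_le_sylow
  exact ⟨S, T.is_maximal' (S.2.map ι) fun t ht => by
    obtain ⟨k, rfl⟩ := hle ht
    exact ⟨k, hS ht, rfl⟩⟩

lemma exists_sylow_eq (c : Ctx p q ι X) (S : Sylow p K) :
    ∃ T : Sylow p M, (S : Subgroup K).map ι = T := by
  obtain ⟨T, hT⟩ := (S.2.map ι).exists_le_sylow
  refine ⟨T, le_antisymm hT fun t ht => ?_⟩
  obtain ⟨k, rfl⟩ := c.contains _ T.2 ht
  have h := S.is_maximal' (T.2.comap_of_injective ι c.inj) (fun s hs => hT ⟨s, hs, rfl⟩)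
  exact ⟨k, h.le ht, rfl⟩

lemma omegaJoin_eq (c : Ctx p q ι X) : omegaJoin p M = (omegaJoin p K).map ι := by
  have hinj : ∀ (S : Subgroup K), ∀ a ∈ S, ∀ b ∈ S, ι a = ι b → a = b :=
    fun S a _ b _ h => c.inj h
  rw [omegaJoin, omegaJoin, Subgroup.map_iSup]
  refine le_antisymm (iSup_le fun T => ?_) (iSup_le fun S => ?_)
  · obtain ⟨S, hS⟩ := exists_sylow_map c T
    rw [← hS, ← omegaZ_map ι (hinj _)]
    exact le_iSup (fun S : Sylow p K => (omegaZ p (S : Subgroup K)).map ι) S
  · obtain ⟨T, hT⟩ := exists_sylow_eq c S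
    rw [omegaZ_map ι (hinj _), hT]
    exact le_iSup (fun T : Sylow p M => omegaZ p (T : Subgroup M)) T

lemma thompson_eq (c : Ctx p q ι X) : thompsonSubgroup p M = (thompsonSubgroup p K).map ι := by
  refine le_antisymm (sSup_le fun A hA => ?_) (Subgroup.map_le_iff_le_comap.mpr (sSup_le fun A hA => ?_))
  · have hle := c.contains A (isPGroup_elementary hA.1)
    intro a ha
    obtain ⟨k, rfl⟩ := hle ha
    refine ⟨k, le_sSup (s := maxElementaryAbelianSubgroups p K) (a := A.comap ι) ⟨?_, fun B hB => ?_⟩ ha, rfl⟩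
    · obtain ⟨hc, he⟩ := hA.1
      exact ⟨⟨⟨fun x y => Subtype.ext (c.inj (by
        rw [Subgroup.coe_mul, Subgroup.coe_mul, map_mul, map_mul]
        exact Subgroup.mul_comm_of_mem_isMulCommutative A x.2 y.2))⟩⟩,
        fun x hx => c.inj (by rw [map_pow, map_one]; exact he _ hx)⟩
    · calc Nat.card B = Nat.card (B.map ι) := (Subgroup.card_map_of_injective c.inj).symm
        _ ≤ Nat.card A := hA.2 _ (isElementary_map ι hB)
        _ = Nat.card ((A.comap ι).map ι) := by
          rw [Subgroup.map_comap_eq_self hle]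
        _ = _ := Subgroup.card_map_of_injective c.inj
  · rw [← Subgroup.map_le_iff_le_comap]
    refine le_sSup ⟨isElementary_map ι hA.1, fun B hB => ?_⟩
    have hle := c.contains B (isPGroup_elementary hB)
    rw [Subgroup.card_map_of_injective c.inj, ← Subgroup.map_comap_eq_self hle,
      Subgroup.card_map_of_injective c.inj]
    obtain ⟨hc, he⟩ := hB
    exact hA.2 _ ⟨⟨⟨fun x y => Subtype.ext (c.inj (by
      rw [Subgroup.coe_mul, Subgroup.coe_mul, map_mul, map_mul]
      exact Subgroup.mul_comm_of_mem_isMulCommutative B x.2 y.2))⟩⟩,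
      fun x hx => c.inj (by rw [map_pow, map_one]; exact he _ hx)⟩

lemma subsingleton_of_eq (c : Ctx p q ι X) (h : q = p) : ∀ k : K, k = 1 := by
  subst h
  have hcop : (Nat.card (⊤ : Subgroup K)).Coprime q := by
    rw [Subgroup.card_top]
    exact ((Fact.out : q.Prime).coprime_iff_not_dvd.mpr c.cop).symm
  intro k
  have := CfsgLib.le_pPrimeCore (p := q) (N := (⊤ : Subgroup K)) hcop (Subgroup.mem_top k)
  rwa [c.core, Subgroup.mem_bot] at this

set_option maxHeartbeats 600000 in
/-- The main facts: the fixed diagonal plane and group, and the generation of `J(K)` modulo the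
centralizer of `⟨Ω₁(Z(S))⟩`. -/
theorem key (c : Ctx p q ι X) :
    (¬ thompsonSubgroup p K ≤ Subgroup.centralizer (omegaJoin p K : Set K) →
      (p = 2 ∨ p = 3) ∧ ∃ W D : Subgroup M, W ≤ ι.range ⊓ Subgroup.centralizer (X : Set M) ∧
        D ≤ ι.range ⊓ Subgroup.centralizer (X : Set M) ∧ IsElementaryAbelian p W ∧
        Nat.card W = p ^ 2 ∧ D ≤ Subgroup.normalizer (W : Set M) ∧
        ∃ hn : ((Subgroup.centralizer (W : Set M)).subgroupOf D).Normal,
          Nonempty ((↥D ⧸ (Subgroup.centralizer (W : Set M)).subgroupOf D) ≃*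
            Matrix.SpecialLinearGroup (Fin 2) (ZMod p))) ∧
    ∀ S : Sylow p K,
      Subgroup.normalizer (thompsonSubgroupOf p (S : Subgroup K) : Set K) ⊔
        Subgroup.centralizer (omegaZ p (S : Subgroup K) : Set K) ⊔
        (Subgroup.centralizer (X : Set M)).comap ι = ⊤ := by
  by_cases hqp : q = p
  · have h1 := subsingleton_of_eq c hqp
    refine ⟨fun h => absurd (fun k _ => ?_) h, fun S => ?_⟩
    · rw [h1 k]; exact one_mem _
    · rw [eq_top_iff]; intro k _; rw [h1 k]; exact one_mem _
  classical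
  have hp := (Fact.out : p.Prime)
  have hq := (Fact.out : q.Prime)
  haveI := c.normal
  haveI hVn : (omegaJoin p M).Normal := omegaJoin_normal
  haveI : (omegaJoin p K).Normal := omegaJoin_normal
  haveI := thompsonSubgroup_normal' (G := M) (p := p)
  haveI := thompsonSubgroup_normal' (G := K) (p := p)
  obtain ⟨hVK, hcoreK⟩ := omegaJoin_props c.sep c.core
  set V := omegaJoin p M with hVdef
  set VK := omegaJoin p K with hVKdef
  have hVeq : V = VK.map ι := omegaJoin_eq c
  have hV : IsElementaryAbelian p V := hVeq ▸ isElementary_map ι hVK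
  set CK := Subgroup.centralizer (VK : Set K) with hCK
  let f : K →* Split V := (toSplit V).comp ι
  have hfker : f.ker = CK := by
    ext k
    rw [MonoidHom.mem_ker, MonoidHom.comp_apply, ← MonoidHom.mem_ker, toSplit_ker, hVeq,
      Subgroup.mem_centralizer_iff, Subgroup.mem_centralizer_iff]
    constructor
    · intro h v hv
      exact c.inj (by rw [map_mul, map_mul]; exact h _ ⟨v, hv, rfl⟩)
    · rintro h _ ⟨v, hv, rfl⟩
      rw [← map_mul, ← map_mul, h v hv]
  set H := (thompsonSubgroup p M).map (toSplit V) with hH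
  have hHf : H = (thompsonSubgroup p K).map f := by
    rw [hH, thompson_eq c, Subgroup.map_map]
  have hS1 : Subgroup.centralizer (pPrimeCore p ↥H : Set ↥H) ≤ pPrimeCore p ↥H := by
    let g1 : ↥(thompsonSubgroup p K) →* Split V := f.comp (thompsonSubgroup p K).subtype
    let g2 : ↥(thompsonSubgroup p K) →* Split VK :=
      (toSplit VK).comp (thompsonSubgroup p K).subtype
    have hk : g2.ker = g1.ker := by
      rw [← MonoidHom.comap_ker, ← MonoidHom.comap_ker, hfker, toSplit_ker]
    have r1 : g1.range = H := by rw [MonoidHom.range_comp, Subgroup.range_subtype, hHf]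
    have r2 : g2.range = (thompsonSubgroup p K).map (toSplit VK) := by
      rw [MonoidHom.range_comp, Subgroup.range_subtype]
    let ε : ↥((thompsonSubgroup p K).map (toSplit VK)) ≃* ↥H :=
      (MulEquiv.subgroupCongr r2.symm).trans ((QuotientGroup.quotientKerEquivRange g2).symm.trans
        ((QuotientGroup.quotientMulEquivOfEq hk).trans ((QuotientGroup.quotientKerEquivRange g1).trans
          (MulEquiv.subgroupCongr r1))))
    have h0 := core_hyp c.sep hcoreK (thompsonSubgroup p K)
    intro x hx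
    rw [← CfsgLib.pPrimeCore_map_equiv p ε] at hx ⊢
    refine ⟨ε.symm x, h0 ?_, ε.apply_symm_apply x⟩
    intro k hk'
    refine ε.injective ?_
    rw [map_mul, map_mul, ε.apply_symm_apply]
    exact hx (ε k) ⟨k, hk', rfl⟩
  have S := setup_of_hyp (splitV_elem hV) (normalizer_splitV (thompsonSubgroup p M))
    (faith_split (thompsonSubgroup p M)) hS1
  have hS3 : H = ⨆ A : {A : Subgroup (Split V) // A ≤ H ∧ Cfsg.IsBestOffenderOn p (splitV V) A},
      (A : Subgroup (Split V)) := by
    refine le_antisymm ?_ (iSup_le fun A => A.2.1)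
    rw [hH, Subgroup.map_le_iff_le_comap]
    refine sSup_le fun A hA => ?_
    rw [← Subgroup.map_le_iff_le_comap]
    exact le_iSup_of_le ⟨A.map (toSplit V), Subgroup.map_mono (le_sSup hA), map_best hA hV⟩ le_rfl
  -- the action of `X`
  set Xs := X.map (toSplit V) with hXs
  have hXn : Xs ≤ Subgroup.normalizer (H : Set (Split V)) := by
    refine (Subgroup.map_mono ?_).trans (Subgroup.le_normalizer_map _)
    rw [Subgroup.normalizer_eq_top]; exact le_top
  have hActs : ∀ {a b : Split V}, Core p (splitV V) H ((pPrimeCore p ↥H).map H.subtype) a b →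
      Orbit.Acts q (splitV V) H ((pPrimeCore p ↥H).map H.subtype) Xs := by
    intro a b hc
    have hdvd : Nat.card (Pair.E a b) ∣ Nat.card K :=
      (Subgroup.card_dvd_of_le hc.pair.E_le).trans (by
        rw [hHf]
        exact (Subgroup.card_dvd_of_surjective (f.subgroupMap (thompsonSubgroup p K)) (f.subgroupMap_surjective _)).trans (Subgroup.card_subgroup_dvd_card (thompsonSubgroup p K)))
    have h5 : 5 ≤ q := by
      have h2 := hq.two_le
      rcases hc.pair.card_E S with ⟨-, he⟩ | ⟨-, he⟩ <;> rw [he] at hdvd <;>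
      · by_contra hlt
        have : q = 2 ∨ q = 3 ∨ q = 4 := by omega
        rcases this with rfl | rfl | rfl
        · exact c.cop (Dvd.dvd.trans (by norm_num) hdvd)
        · exact c.cop (Dvd.dvd.trans (by norm_num) hdvd)
        · exact absurd hq (by norm_num)
    refine ⟨h5, hq, normalizer_splitV X, hXn, ?_, ?_, ?_⟩
    · exact fun x hx => (CfsgLib.le_normalizer_map_characteristic (A := Subgroup.normalizer (H : Set (Split V)))
        (K := H) le_rfl (pPrimeCore p ↥H)).1 (hXn hx)
    · rintro _ ⟨x, hx, rfl⟩ _ ⟨y, hy, rfl⟩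
      haveI := c.elem.1
      rw [← map_mul, ← map_mul, Subgroup.mul_comm_of_mem_isMulCommutative X hx hy]
    · rintro _ ⟨x, hx, rfl⟩
      rw [← map_pow, c.elem.2 x hx, map_one]
  -- lifting fixed points
  set N := ι.range ⊓ Subgroup.centralizer (V : Set M) with hN
  have hNq : (Nat.card N).Coprime q := by
    refine ((hq.coprime_iff_not_dvd.mpr fun h => c.cop (h.trans ?_))).symm
    refine (Subgroup.card_dvd_of_le inf_le_left).trans ?_
    rw [← Nat.card_congr (MonoidHom.ofInjective c.inj).toEquiv]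
  have hlift : ∀ y ∈ H, (∀ x ∈ Xs, x * y = y * x) → ∃ m ∈ ι.range ⊓ Subgroup.centralizer (X : Set M),
      toSplit V m = y := by
    intro y hy hcomm
    rw [hHf] at hy
    obtain ⟨k, -, rfl⟩ := hy
    obtain ⟨w, hw, hwc⟩ := centralizer_lift N hNq (fun a => ⟨1, Subtype.ext (by
      simpa using c.elem.2 a a.2)⟩ : IsPGroup q X) (x := ι k) fun a ha => by
      refine ⟨?_, ?_⟩
      · show ι k * a * (ι k)⁻¹ * a⁻¹ ∈ ι.range
        have := c.normal.conj_mem _ (inv_mem (ι.mem_range.mpr ⟨k, rfl⟩ : ι k ∈ ι.range)) a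
        simpa [mul_assoc] using mul_mem (ι.mem_range.mpr ⟨k, rfl⟩ : ι k ∈ ι.range) this
      · show ι k * a * (ι k)⁻¹ * a⁻¹ ∈ Subgroup.centralizer (V : Set M)
        have hc' : toSplit V a * toSplit V (ι k) = toSplit V (ι k) * toSplit V a :=
          hcomm _ ⟨a, ha, rfl⟩
        rw [← toSplit_ker, MonoidHom.mem_ker, map_mul, map_mul, map_mul, map_inv, map_inv, ← hc']
        simp [mul_assoc]
    refine ⟨ι k * w, ⟨mul_mem ⟨k, rfl⟩ hw.1, hwc⟩, ?_⟩
    have hw1 : toSplit V w = 1 := by rw [← MonoidHom.mem_ker, toSplit_ker]; exact hw.2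
    rw [map_mul, hw1, mul_one]
    rfl
  constructor
  · intro hJ
    have hH1 : H ≠ ⊥ := fun e => hJ (by
      rw [hHf, Subgroup.map_eq_bot_iff, hfker] at e
      exact e)
    obtain ⟨a, ha⟩ := exists_tv S hS3 hH1
    obtain ⟨b, hc⟩ := exists_core S ha
    obtain ⟨δ, W', hδ, ⟨hW'V, hW'X, hW'c⟩, hn', hfaith, -⟩ := Orbit.exists_diagonal S (hActs hc) hc
    let W : Subgroup M := (W'.comap (SemidirectProduct.inl : ↥V →* Split V)).map V.subtype
    let D : Subgroup M := ι.range ⊓ Subgroup.centralizer (X : Set M) ⊓ δ.range.comap (toSplit V)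
    have hWmem : ∀ v : M, v ∈ W ↔ ∃ h : v ∈ V, SemidirectProduct.inl ⟨v, h⟩ ∈ W' := by
      intro v
      constructor
      · rintro ⟨⟨v, hv⟩, h, rfl⟩; exact ⟨hv, h⟩
      · rintro ⟨hv, h⟩; exact ⟨⟨v, hv⟩, h, rfl⟩
    have hWV : W ≤ V := fun v hv => ((hWmem v).mp hv).1
    have hVr : V ≤ ι.range := hVeq ▸ Subgroup.map_le_range _ _
    have hδinj : Function.Injective δ := (injective_iff_map_eq_one δ).mpr fun e he =>
      hfaith e fun w _ => by rw [he]; exact Commute.one_left w
    have hWlift : ∀ w ∈ W', ∃ v : V, SemidirectProduct.inl v = w := fun w hw => hW'V hw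
    have hcentW : ∀ m : M, m ∈ Subgroup.centralizer (W : Set M) ↔ ∀ w ∈ W', Commute (toSplit V m) w := by
      intro m
      rw [Subgroup.mem_centralizer_iff]
      constructor
      · intro h w hw
        obtain ⟨v, rfl⟩ := hWlift w hw
        exact commute_split_iff.mpr (h v ((hWmem v).mpr ⟨v.2, hw⟩)).symm
      · intro h v hv
        obtain ⟨hvV, hvW⟩ := (hWmem v).mp hv
        exact (commute_split_iff.mp (h _ hvW)).eq.symm
    have hDn : D ≤ Subgroup.normalizer (W : Set M) := by
      refine le_normalizer_of_conj fun d hd v hv => ?_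
      obtain ⟨hvV, hvW⟩ := (hWmem v).mp hv
      obtain ⟨e, he⟩ := hd.2
      refine (hWmem _).mpr ⟨hVn.conj_mem v hvV d, ?_⟩
      rw [← toSplit_conj d ⟨v, hvV⟩, ← he]
      exact hn' e _ hvW
    refine ⟨hc.pair.p_le_three S, W, D, le_inf (hWV.trans hVr) ?_, inf_le_left, elem_of_le hV hWV,
      ?_, hDn, ?_⟩
    · intro v hv
      obtain ⟨hvV, hvW⟩ := (hWmem v).mp hv
      rw [Subgroup.mem_centralizer_iff]
      intro x hx
      exact (commute_split_iff.mp (hW'X _ hvW _ ⟨x, hx, rfl⟩)).eq
    · rw [Subgroup.card_map_of_injective V.subtype_injective, ← hW'c,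
        ← Subgroup.card_map_of_injective (SemidirectProduct.inl_injective (φ := quotAct V)),
        Subgroup.map_comap_eq_self hW'V]
    · let r : ↥D →* ↥δ.range := ((toSplit V).comp D.subtype).codRestrict δ.range fun d => d.2.2
      have hrs : Function.Surjective r := by
        rintro ⟨y, e, rfl⟩
        obtain ⟨m, hm, hmy⟩ := hlift (δ e) (hδ e).1 (hδ e).2
        exact ⟨⟨m, hm, ⟨e, hmy.symm⟩⟩, Subtype.ext hmy⟩
      have hker : r.ker = (Subgroup.centralizer (W : Set M)).subgroupOf D := by
        ext d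
        rw [MonoidHom.mem_ker, Subgroup.mem_subgroupOf, hcentW, Subtype.ext_iff]
        constructor
        · intro h w _
          rw [show toSplit V (d : M) = 1 from h]
          exact Commute.one_left w
        · intro h
          obtain ⟨e, he⟩ := d.2.2
          have := hfaith e fun w hw => he ▸ h w hw
          show toSplit V (d : M) = 1
          rw [← he, this, map_one]
      haveI hn : ((Subgroup.centralizer (W : Set M)).subgroupOf D).Normal := hker ▸ inferInstance
      exact ⟨hn, ⟨(QuotientGroup.quotientMulEquivOfEq hker.symm).trans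
        ((QuotientGroup.quotientKerEquivOfSurjective r hrs).trans
          ((MonoidHom.ofInjective hδinj).symm.trans (hc.pair.equiv S).choose))⟩⟩
  · intro Sy
    set J := thompsonSubgroupOf p (Sy : Subgroup K) with hJd
    set R := Subgroup.normalizer (J : Set K) ⊔ Subgroup.centralizer (omegaZ p (Sy : Subgroup K) : Set K) ⊔
      (Subgroup.centralizer (X : Set M)).comap ι with hR
    have hSN : (Sy : Subgroup K) ≤ R := le_trans (fun s hs => by
      have : (Sy : Subgroup K) ≤ Subgroup.normalizer (J : Set K) :=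
        (le_of_eq (inf_top_eq (Sy : Subgroup K)).symm).trans (Subgroup.le_normalizer.trans
          (normalizer_inf_le_normalizer_thompson Sy (C := ⊤) le_top))
      exact this hs) (le_sup_left.trans le_sup_left)
    have hCR : CK ≤ R := ((Subgroup.centralizer_le (le_iSup (fun S : Sylow p K => omegaZ p (S : Subgroup K)) Sy)).trans
      le_sup_right).trans le_sup_left
    -- every component lies in the image of `R`
    have htv : ∀ a, Tv p (splitV V) H a → a ∈ R.map f := by
      intro a ha
      obtain ⟨b, hc⟩ := exists_core S ha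
      obtain ⟨δ, W', hδ, -, -, -, hconj⟩ := Orbit.exists_diagonal S (hActs hc) hc
      obtain ⟨P, hP⟩ := exists_sylow_inf Sy (thompsonSubgroup p K)
      let g : ↥(thompsonSubgroup p K) →* ↥H :=
        (f.comp (thompsonSubgroup p K).subtype).codRestrict H fun x => by rw [hHf]; exact ⟨x, x.2, rfl⟩
      have hgs : Function.Surjective g := by
        rintro ⟨y, hy⟩
        rw [hHf] at hy
        obtain ⟨x, hx, rfl⟩ := hy
        exact ⟨⟨x, hx⟩, rfl⟩
      obtain ⟨Q, hQ⟩ := ((IsPGroup.of_card (n := 1) (by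
        rw [Nat.card_zpowers, ← Subgroup.orderOf_coe, ha.ord, pow_one])) :
          IsPGroup p (Subgroup.zpowers (⟨a, ha.mem⟩ : H))).exists_le_sylow
      obtain ⟨h, hh⟩ := MulAction.exists_smul_eq H Q (P.mapSurjective hgs)
      set t := (h : Split V) * a * (h : Split V)⁻¹ with ht
      have htR : t ∈ R.map f := by
        have h1 : h * ⟨a, ha.mem⟩ * h⁻¹ ∈ ((h • Q : Sylow p H) : Subgroup H) :=
          ⟨_, hQ (Subgroup.mem_zpowers _), rfl⟩
        rw [hh] at h1
        obtain ⟨x, hx, hxe⟩ := h1
        refine ⟨x, hSN ((hP.le ⟨x, hx, rfl⟩).1), ?_⟩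
        exact congrArg Subtype.val hxe
      have haE : a ∈ Pair.E a b := Subgroup.subset_closure (Set.mem_insert a _)
      have htE : t ∈ Pair.E a b :=
        (Subgroup.mem_normalizer_iff.mp (hc.H_normalizes S hS3 h.2) a).mp haE
      have hδR : ∀ e, δ e ∈ R.map f := fun e => by
        obtain ⟨m, ⟨⟨k, rfl⟩, hmc⟩, hmy⟩ := hlift (δ e) (hδ e).1 (hδ e).2
        exact ⟨k, (le_sup_right : _ ≤ R) hmc, hmy⟩
      have hfac : (Nat.card (Pair.E a b)).factorization p = 1 := by
        rcases hc.pair.card_E S with ⟨rfl, he⟩ | ⟨rfl, he⟩ <;> rw [he]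
        · rw [show (6 : ℕ) = 2 * 3 from rfl, Nat.factorization_mul (by norm_num) (by norm_num),
            Finsupp.add_apply, Nat.Prime.factorization_self (by norm_num),
            Nat.factorization_eq_zero_of_not_dvd (by norm_num)]
        · rw [show (24 : ℕ) = 3 * 8 from rfl, Nat.factorization_mul (by norm_num) (by norm_num),
            Finsupp.add_apply, Nat.Prime.factorization_self (by norm_num),
            Nat.factorization_eq_zero_of_not_dvd (by norm_num)]
      have hcard : ∀ z : Pair.E a b, orderOf (z : Split V) = p →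
          Nat.card (Subgroup.zpowers z) = p ^ (Nat.card (Pair.E a b)).factorization p := fun z hz => by
        rw [Nat.card_zpowers, ← Subgroup.orderOf_coe, hz, hfac, pow_one]
      have htord : orderOf t = p := by rw [ht, ← MulAut.conj_apply, MulEquiv.orderOf_eq, ha.ord]
      obtain ⟨e, he⟩ := MulAction.exists_smul_eq (Pair.E a b)
        (Sylow.ofCard _ (hcard ⟨t, htE⟩ htord)) (Sylow.ofCard _ (hcard ⟨a, haE⟩ ha.ord))
      have hmem : (⟨a, haE⟩ : Pair.E a b) ∈
          ((Sylow.ofCard _ (hcard ⟨a, haE⟩ ha.ord) : Sylow p (Pair.E a b)) : Subgroup (Pair.E a b)) :=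
        Subgroup.mem_zpowers _
      rw [← he] at hmem
      obtain ⟨z, hz, hze⟩ := hmem
      obtain ⟨i, hi⟩ := Subgroup.mem_zpowers_iff.mp (show z ∈ Subgroup.zpowers (⟨t, htE⟩ : Pair.E a b) from hz)
      have hzR : (z : Split V) ∈ R.map f := by
        rw [← hi, Subgroup.coe_zpow]; exact zpow_mem htR i
      have := mul_mem (mul_mem (hδR e) hzR) (inv_mem (hδR e))
      rw [hconj e z] at this
      have e2 : e * z * e⁻¹ = ⟨a, haE⟩ := hze
      rwa [e2] at this
    have hJR : thompsonSubgroup p K ≤ R := fun k hk => by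
      have h1 : f k ∈ R.map f := gen_tv S hS3 htv (hHf.symm.le ⟨k, hk, rfl⟩)
      obtain ⟨r, hr, he⟩ := h1
      have h2 : r⁻¹ * k ∈ R := hCR (by
        rw [← hfker, MonoidHom.mem_ker, map_mul, map_inv, he, inv_mul_cancel])
      simpa using mul_mem hr h2
    set L := thompsonSubgroup p K ⊔ CK with hL
    obtain ⟨P, hP⟩ := exists_sylow_inf Sy L
    have hfr := Sylow.normalizer_sup_eq_top P
    rw [hP] at hfr
    rw [eq_top_iff, ← hfr]
    refine sup_le (((normalizer_inf_le_normalizer_thompson Sy ?_).trans le_sup_left).trans le_sup_left)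
      (sup_le hJR hCR)
    exact (thompsonSubgroupOf_le Sy).trans le_sup_left

end CfsgLib.Offender.CoprimeAction
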