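import Cfsg.Agent.Lib.PLocal.Offender.CoprimeAction

/-!
The coprime action statements for subgroups of an ambient group.
-/

set_option autoImplicit false

universe u

namespace CfsgLib.Offender.CoprimeAction

open Cfsg CfsgLib.PLocal CfsgLib.Offender

variable {G : Type u} [Group G] [Finite G] {p q : ℕ} [Fact p.Prime] [Fact q.Prime] {K X : Subgroup G}

lemma subgroup_eq_one_of_eq (hq : ¬ q ∣ Nat.card K) (hO : pPrimeCore p ↥K = ⊥) (h : q = p) (k : K) :
    k = 1 := by
  subst h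
  have hcop : (Nat.card (⊤ : Subgroup K)).Coprime q := by
    rw [Subgroup.card_top]
    exact ((Fact.out : q.Prime).coprime_iff_not_dvd.mpr hq).symm
  have := CfsgLib.le_pPrimeCore (p := q) (N := (⊤ : Subgroup K)) hcop (Subgroup.mem_top k)
  rwa [hO, Subgroup.mem_bot] at this

theorem ctx_of_subgroups (hXK : X ≤ Subgroup.normalizer (K : Set G)) (hX : IsElementaryAbelian q X)
    (hq : ¬ q ∣ Nat.card K) (hsep : IsPSolvable p ↥K) (hO : pPrimeCore p ↥K = ⊥) (hne : q ≠ p) :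
    Ctx p q (Subgroup.inclusion (le_sup_left : K ≤ K ⊔ X)) (X.subgroupOf (K ⊔ X)) := by
  have hr : (Subgroup.inclusion (le_sup_left : K ≤ K ⊔ X)).range = K.subgroupOf (K ⊔ X) :=
    Subgroup.inclusion_range _
  haveI hn : (K.subgroupOf (K ⊔ X)).Normal :=
    Subgroup.normal_subgroupOf_of_le_normalizer (sup_le Subgroup.le_normalizer hXK)
  have hXp : IsPGroup q (X.subgroupOf (K ⊔ X)) := fun a => ⟨1, Subtype.ext (Subtype.ext (by
    simpa using hX.2 _ a.2))⟩
  refine ⟨Subgroup.inclusion_injective _, hr ▸ hn, fun P hP => ?_, ⟨⟨⟨fun a b => ?_⟩⟩, fun a ha => ?_⟩,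
    hq, hsep, hO⟩
  · rw [hr]
    intro y hy
    let π := QuotientGroup.mk' (K.subgroupOf (K ⊔ X))
    have htop : (X.subgroupOf (K ⊔ X)).map π = ⊤ := by
      rw [← top_le_iff]
      rintro z -
      obtain ⟨w, rfl⟩ := QuotientGroup.mk'_surjective _ z
      have hw : w ∈ K.subgroupOf (K ⊔ X) ⊔ X.subgroupOf (K ⊔ X) := by
        rw [← Subgroup.subgroupOf_sup le_sup_left le_sup_right, Subgroup.subgroupOf_self]
        exact Subgroup.mem_top w
      obtain ⟨k, hk, x, hx, rfl⟩ := Subgroup.mem_sup_of_normal_left.mp hw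
      exact ⟨x, hx, by rw [map_mul, show π k = 1 from (QuotientGroup.eq_one_iff k).mpr hk, one_mul]⟩
    have h1 : π y ∈ P.map π ⊓ (X.subgroupOf (K ⊔ X)).map π :=
      ⟨⟨y, hy, rfl⟩, htop ▸ Subgroup.mem_top _⟩
    have hd := IsPGroup.disjoint_of_ne p q (Ne.symm hne) _ _ (hP.map π) (hXp.map π)
    rw [hd.eq_bot, Subgroup.mem_bot] at h1
    exact (QuotientGroup.eq_one_iff y).mp h1
  · haveI := hX.1
    exact Subtype.ext (Subtype.ext (Subgroup.mul_comm_of_mem_isMulCommutative X a.2 b.2))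
  · exact Subtype.ext (by simpa using hX.2 _ ha)

theorem generated (hXK : X ≤ Subgroup.normalizer (K : Set G)) (hX : IsElementaryAbelian q X)
    (hq : ¬ q ∣ Nat.card K) (hsep : IsPSolvable p ↥K) (hO : pPrimeCore p ↥K = ⊥) (S : Sylow p ↥K) :
    Subgroup.normalizer (thompsonSubgroupOf p (S : Subgroup ↥K) : Set ↥K) ⊔
      Subgroup.centralizer (omegaZ p (S : Subgroup ↥K) : Set ↥K) ⊔
      (Subgroup.centralizer (X : Set G)).subgroupOf K = ⊤ := by
  by_cases hne : q = p
  · rw [eq_top_iff]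
    intro k _
    rw [subgroup_eq_one_of_eq hq hO hne k]
    exact one_mem _
  have h := (key (ctx_of_subgroups hXK hX hq hsep hO hne)).2 S
  refine le_antisymm le_top (h.ge.trans (sup_le_sup_left ?_ _))
  intro k hk x hx
  exact congrArg Subtype.val (hk ⟨x, Subgroup.mem_sup_right hx⟩ hx)

theorem plane (hXK : X ≤ Subgroup.normalizer (K : Set G)) (hX : IsElementaryAbelian q X)
    (hq : ¬ q ∣ Nat.card K) (hsep : IsPSolvable p ↥K) (hO : pPrimeCore p ↥K = ⊥)
    (hnf : ¬ IsThompsonFactorizable p ↥K) :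
    (p = 2 ∨ p = 3) ∧ ∃ W D : Subgroup G, W ≤ K ⊓ Subgroup.centralizer (X : Set G) ∧
      D ≤ K ⊓ Subgroup.centralizer (X : Set G) ∧ IsElementaryAbelian p W ∧ Nat.card W = p ^ 2 ∧
      D ≤ Subgroup.normalizer (W : Set G) ∧
      ∃ hn : ((Subgroup.centralizer (W : Set G)).subgroupOf D).Normal,
        Nonempty ((↥D ⧸ (Subgroup.centralizer (W : Set G)).subgroupOf D) ≃*
          Matrix.SpecialLinearGroup (Fin 2) (ZMod p)) := by
  have hJ : ¬ thompsonSubgroup p ↥K ≤ Subgroup.centralizer (omegaJoin p ↥K : Set ↥K) := fun h =>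
    hnf ((isThompsonFactorizable_iff_centralizes hO).mpr h)
  by_cases hne : q = p
  · refine absurd (fun k _ => ?_) hJ
    rw [subgroup_eq_one_of_eq hq hO hne k]
    exact one_mem _
  obtain ⟨hp, W, D, hW, hD, hWe, hWc, hDn, hn, ⟨e⟩⟩ :=
    (key (ctx_of_subgroups hXK hX hq hsep hO hne)).1 hJ
  set s := (K ⊔ X).subtype with hs
  have hinj : Function.Injective s := (K ⊔ X).subtype_injective
  have hle : ∀ U : Subgroup ↥(K ⊔ X), U ≤ (Subgroup.inclusion (le_sup_left : K ≤ K ⊔ X)).range ⊓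
      Subgroup.centralizer ((X.subgroupOf (K ⊔ X) : Subgroup ↥(K ⊔ X)) : Set ↥(K ⊔ X)) →
      U.map s ≤ K ⊓ Subgroup.centralizer (X : Set G) := by
    rintro U hU _ ⟨u, hu, rfl⟩
    obtain ⟨⟨k, hk⟩, huc⟩ := hU hu
    exact ⟨hk ▸ k.2, fun x hx => congrArg Subtype.val (huc ⟨x, Subgroup.mem_sup_right hx⟩ hx)⟩
  let ε : ↥D ≃* ↥(D.map s) := D.equivMapOfInjective s hinj
  have hN : ((Subgroup.centralizer (W : Set ↥(K ⊔ X))).subgroupOf D).map ε.toMonoidHom =
      (Subgroup.centralizer ((W.map s : Subgroup G) : Set G)).subgroupOf (D.map s) := by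
    ext y
    rw [Subgroup.mem_map_equiv, Subgroup.mem_subgroupOf, Subgroup.mem_subgroupOf,
      Subgroup.mem_centralizer_iff, Subgroup.mem_centralizer_iff]
    obtain ⟨d, rfl⟩ := ε.surjective y
    rw [ε.symm_apply_apply]
    constructor
    · rintro h _ ⟨w, hw, rfl⟩
      exact congrArg Subtype.val (h w hw)
    · intro h w hw
      exact Subtype.ext (h _ ⟨w, hw, rfl⟩)
  haveI := hn
  haveI hn' : ((Subgroup.centralizer ((W.map s : Subgroup G) : Set G)).subgroupOf (D.map s)).Normal :=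
    hN ▸ hn.map ε.toMonoidHom ε.surjective
  refine ⟨hp, W.map s, D.map s, hle W hW, hle D hD, isElementary_map s hWe, ?_, ?_, hn',
    ⟨(QuotientGroup.congr _ _ ε hN).symm.trans e⟩⟩
  · rw [Subgroup.card_map_of_injective hinj, hWc]
  · exact (Subgroup.map_mono hDn).trans (Subgroup.le_normalizer_map _)

end CfsgLib.Offender.CoprimeAction
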