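import Cfsg.Agent.Lib.PLocal.Offender.Application

/-!
A coprime abelian group permuting the `SL(2,p)`-components of a group generated by best offenders: the
product over an orbit gives a fixed `SL(2,p)` acting on a fixed plane.
-/

set_option autoImplicit false
set_option linter.unusedSectionVars false

universe u

namespace CfsgLib.Offender.Orbit

open Cfsg CfsgLib.Offender
open scoped commutatorElement

variable {G : Type u} [Group G] [Finite G] {p : ℕ} [Fact p.Prime] {V H K X : Subgroup G}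

/-- `X` normalizes everything in sight, is abelian and of exponent a prime `q ≥ 5`. -/
structure Acts (q : ℕ) (V H K X : Subgroup G) : Prop where
  five : 5 ≤ q
  prime : q.Prime
  nV : X ≤ Subgroup.normalizer (V : Set G)
  nH : X ≤ Subgroup.normalizer (H : Set G)
  nK : X ≤ Subgroup.normalizer (K : Set G)
  comm : ∀ x ∈ X, ∀ y ∈ X, x * y = y * x
  exp : ∀ x ∈ X, x ^ q = 1

lemma commute_of_sq {q : ℕ} (hq : q.Prime) (h5 : 5 ≤ q) {x l : G} (hx : x ^ q = 1)
    (h : Commute (x ^ 2) l) : Commute x l := by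
  obtain ⟨k, hk⟩ := hq.odd_of_ne_two (by omega)
  have e : (x ^ 2) ^ (k + 1) = x := by
    rw [← pow_mul, show 2 * (k + 1) = q + 1 by omega, pow_succ, hx, one_mul]
  rw [← e]
  exact h.pow_left _

lemma commute_of_small {q : ℕ} (hq : q.Prime) (h5 : 5 ≤ q) (hp : p = 2 ∨ p = 3) {x l : G}
    (hx : x ^ q = 1) (hl : l ^ p = 1) (hmem : x * l * x⁻¹ ∈ Subgroup.zpowers l) : Commute x l := by
  have hl0 : IsOfFinOrder l := isOfFinOrder_of_finite l
  rw [← mem_powers_iff_mem_zpowers] at hmem
  obtain ⟨i, hi⟩ := hmem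
  have hi' : x * l * x⁻¹ = l ^ (i % p) := by
    rw [← hi, ← pow_eq_pow_mod i hl]
  have hlt : i % p < p := Nat.mod_lt _ (Fact.out : p.Prime).pos
  have hcases : i % p = 0 ∨ i % p = 1 ∨ (i % p = 2 ∧ p = 3) := by omega
  rcases hcases with h0 | h0 | ⟨h0, h3⟩ <;> rw [h0] at hi'
  · rw [pow_zero, mul_inv_eq_one, mul_eq_left] at hi'
    rw [hi']
    exact Commute.one_right x
  · rw [pow_one] at hi'
    exact mul_inv_eq_iff_eq_mul.mp hi'
  · refine commute_of_sq hq h5 hx ?_
    show x ^ 2 * l = l * x ^ 2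
    rw [← mul_inv_eq_iff_eq_mul]
    calc x ^ 2 * l * (x ^ 2)⁻¹ = x * (x * l * x⁻¹) * x⁻¹ := by simp [pow_two, mul_assoc]
      _ = (x * l * x⁻¹) ^ 2 := by rw [conj_pow, ← hi']
      _ = l ^ 4 := by rw [hi', ← pow_mul]
      _ = l := by rw [pow_succ, ← h3, hl, one_mul]

variable {a b : G}

/-- The image of a core under an automorphism preserving `V`, `H` and `K`. -/
lemma core_map (φ : G ≃* G) (hV : V.map φ.toMonoidHom = V) (hH : H.map φ.toMonoidHom = H)
    (hK : K.map φ.toMonoidHom = K) (c : Core p V H K a b) : Core p V H K (φ a) (φ b) := by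
  have hinj : Function.Injective φ.toMonoidHom := φ.injective
  have htv : ∀ {t : G}, Tv p V H t → Tv p V H (φ t) := by
    intro t ht
    refine ⟨hH.le ⟨t, ht.mem, rfl⟩, by rw [MulEquiv.orderOf_eq, ht.ord], ?_⟩
    have e : (V ⊓ Subgroup.centralizer {t}).map φ.toMonoidHom =
        V ⊓ Subgroup.centralizer {φ t} := by
      rw [Subgroup.map_inf _ _ _ hinj, hV]
      congr 1
      ext y
      simp only [Subgroup.mem_map, Subgroup.mem_centralizer_singleton_iff]
      constructor
      · rintro ⟨z, hz, rfl⟩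
        show φ z * φ t = φ t * φ z
        rw [← map_mul, ← map_mul, hz]
      · intro hy
        exact ⟨φ.symm y, φ.injective (by simpa using hy), φ.apply_symm_apply y⟩
    rw [← e, Subgroup.card_map_of_injective hinj]
    exact ht.index
  have hE : Pair.E (φ a) (φ b) = (Pair.E a b).map φ.toMonoidHom := by
    show _ = (Subgroup.closure {a, b}).map φ.toMonoidHom
    rw [MonoidHom.map_closure, Set.image_pair]
    rfl
  have hz : Subgroup.zpowers (φ a) = (Subgroup.zpowers a).map φ.toMonoidHom :=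
    (MonoidHom.map_zpowers φ.toMonoidHom a).symm
  have hT : Pair.T K (φ a) (φ b) = (Pair.T K a b).map φ.toMonoidHom := by
    show K ⊓ Pair.E (φ a) (φ b) = (K ⊓ Pair.E a b).map φ.toMonoidHom
    rw [Subgroup.map_inf _ _ _ hinj, hK, hE]
  refine ⟨⟨htv c.pair.ta, htv c.pair.tb, hK.le ⟨_, c.pair.mem, by simp⟩,
    fun h => c.pair.ne (φ.injective h)⟩, fun k hk => ?_, ?_, ?_, ?_⟩
  · obtain ⟨k0, hk0, rfl⟩ := hK.ge hk
    rw [hE]
    exact ⟨_, c.conjMem k0 hk0, by simp⟩
  · rw [hz, hT, ← c.comm, Subgroup.map_commutator, hK]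
  · rw [hz, hE, ← c.sup, Subgroup.map_sup, Subgroup.map_commutator, hK]
  · rw [hT]
    conv_lhs => rw [← hK]
    exact (Subgroup.map_mono c.normT).trans (Subgroup.le_normalizer_map _)

lemma axisSet_map (φ : G ≃* G) (hV : V.map φ.toMonoidHom = V) (t : G) :
    axisSet V (φ t) = (axisSet V t).map φ.toMonoidHom := by
  rw [axisSet, axisSet, MonoidHom.map_closure]
  congr 1
  ext y
  constructor
  · rintro ⟨v, hv, rfl⟩
    obtain ⟨v0, hv0, rfl⟩ := hV.ge hv
    exact ⟨_, ⟨v0, hv0, rfl⟩, map_commutatorElement φ t v0⟩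
  · rintro ⟨_, ⟨v0, hv0, rfl⟩, rfl⟩
    exact ⟨φ v0, hV.le ⟨v0, hv0, rfl⟩, map_commutatorElement φ t v0⟩

lemma map_conj_of_mem_normalizer {U : Subgroup G} {x : G} (hx : x ∈ Subgroup.normalizer (U : Set G)) :
    U.map (MulAut.conj x).toMonoidHom = U := by
  refine Subgroup.eq_of_le_of_card_ge ?_ (by rw [Subgroup.card_map_of_injective (MulAut.conj x).injective])
  rintro _ ⟨u, hu, rfl⟩
  exact (Subgroup.mem_normalizer_iff.mp hx u).mp hu

variable {q : ℕ}

/-- The stabilizer of a component centralizes it and its plane. -/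
lemma stabilizer_centralizes (S : Setup p V H K) (A : Acts q V H K X) (c : Core p V H K a b)
    {x : G} (hx : x ∈ X) (hn : x ∈ Subgroup.normalizer (Pair.E a b : Set G)) :
    (∀ e ∈ Pair.E a b, Commute x e) ∧ ∀ w ∈ Pair.W V a b, Commute x w := by
  classical
  haveI := Fact.mk A.prime
  have hp3 := c.pair.p_le_three S
  have hxq := A.exp x hx
  set E := Pair.E a b with hE
  have hcardE := c.pair.card_E S
  have hfac : (Nat.card E).factorization p = 1 := by
    obtain ⟨m, hm, hpm⟩ : ∃ m, Nat.card E = p * m ∧ ¬ p ∣ m := by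
      rcases hcardE with ⟨rfl, hc⟩ | ⟨rfl, hc⟩
      · exact ⟨3, hc, by norm_num⟩
      · exact ⟨8, hc, by norm_num⟩
    have hm0 : m ≠ 0 := fun h => hpm (h ▸ dvd_zero p)
    rw [hm, Nat.factorization_mul (Fact.out : p.Prime).ne_zero hm0, Finsupp.add_apply,
      (Fact.out : p.Prime).factorization_self, Nat.factorization_eq_zero_of_not_dvd hpm]
  let θ : MulAut E := Subgroup.normalizerMonoidHom E ⟨x, hn⟩
  have hθ : θ ^ q = 1 := by
    rw [← map_pow, show (⟨x, hn⟩ : Subgroup.normalizer (E : Set G)) ^ q = 1 from Subtype.ext hxq,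
      map_one]
  let π : Equiv.Perm (Sylow p E) := MulAction.toPermHom (MulAut E) (Sylow p E) θ
  have hπ : π = 1 := by
    have hπq : π ^ q = 1 := by rw [← map_pow, hθ, map_one]
    have hsyl : Nat.card (Sylow p E) < q := by
      obtain ⟨P⟩ : Nonempty (Sylow p E) := inferInstance
      have h1 := card_sylow_modEq_one p E
      have h2 := Sylow.card_dvd_index P
      have h3 := P.index_mul_card (G := E)
      have hP : Nat.card P = p := by rw [Sylow.card_eq_multiplicity, hfac, pow_one]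
      have := A.five
      rw [hP] at h3
      rcases hcardE with ⟨hp2, hc⟩ | ⟨hp2, hc⟩ <;> rw [hc] at h3 <;> subst hp2
      · have : Nat.card (Sylow 2 E) ∣ 3 := by
          rwa [show (P : Subgroup E).index = 3 by omega] at h2
        have := Nat.le_of_dvd (by norm_num) this
        omega
      · have h8 : Nat.card (Sylow 3 E) ∣ 8 := by
          rwa [show (P : Subgroup E).index = 8 by omega] at h2
        have h9 := Nat.le_of_dvd (by norm_num) h8
        have h10 : Nat.card (Sylow 3 E) % 3 = 1 % 3 := h1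
        interval_cases h : Nat.card (Sylow 3 E) <;> omega
    by_contra hne
    haveI := Fintype.ofFinite (Sylow p E)
    have hord : orderOf π = q := orderOf_eq_prime hπq hne
    have hd : q ∣ (Nat.card (Sylow p E)).factorial := by
      rw [← hord, Nat.card_eq_fintype_card, ← Fintype.card_perm]
      exact orderOf_dvd_card
    exact absurd ((A.prime.dvd_factorial).mp hd) (not_le.mpr hsyl)
  -- `x` normalizes the subgroups of order `p`
  have hnorm : ∀ t ∈ E, orderOf t = p → x * t * x⁻¹ ∈ Subgroup.zpowers t := by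
    intro t ht hto
    let t' : E := ⟨t, ht⟩
    have hto' : orderOf t' = p := by rw [← hto]; exact Subgroup.orderOf_coe t' |>.symm
    have hmax : Nat.card (Subgroup.zpowers t') = p ^ (Nat.card E).factorization p := by
      rw [Nat.card_zpowers, hto', hfac, pow_one]
    let Q : Sylow p E := Sylow.ofCard (Subgroup.zpowers t') hmax
    have hQ : π Q = Q := by rw [hπ]; rfl
    have hmem : θ t' ∈ ((π Q : Sylow p E) : Subgroup E) :=
      ⟨t', Subgroup.mem_zpowers t', rfl⟩
    rw [hQ] at hmem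
    obtain ⟨i, hi⟩ := Subgroup.mem_zpowers_iff.mp
      (show θ t' ∈ Subgroup.zpowers t' from hmem)
    refine ⟨i, ?_⟩
    have := congrArg Subtype.val hi
    simpa [θ, t'] using this
  have hca : Commute x a := commute_of_small A.prime A.five hp3 hxq
    (by rw [← c.pair.ta.ord]; exact pow_orderOf_eq_one a)
    (hnorm a (Subgroup.subset_closure (Set.mem_insert a _)) c.pair.ta.ord)
  have hcb : Commute x b := commute_of_small A.prime A.five hp3 hxq
    (by rw [← c.pair.tb.ord]; exact pow_orderOf_eq_one b)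
    (hnorm b (Subgroup.subset_closure (Set.mem_insert_of_mem a rfl)) c.pair.tb.ord)
  have hle : E ≤ Subgroup.centralizer {x} := (Subgroup.closure_le _).mpr (by
    rintro t (rfl | rfl)
    · exact Subgroup.mem_centralizer_singleton_iff.mpr hca.eq.symm
    · exact Subgroup.mem_centralizer_singleton_iff.mpr hcb.eq.symm)
  refine ⟨fun e he => (Subgroup.mem_centralizer_singleton_iff.mp (hle he)).symm, ?_⟩
  have hax : ∀ t, Tv p V H t → Commute x t → axisSet V t ≤ Subgroup.centralizer {x} := by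
    intro t ht hct l hl
    rw [Subgroup.mem_centralizer_singleton_iff]
    rcases eq_or_ne l 1 with rfl | hl1
    · simp
    have hcard := ht.card_axis S
    have hzl : Subgroup.zpowers l = axisSet V t :=
      eq_of_card_p hcard (Subgroup.zpowers_le.mpr hl) (by simpa [Subgroup.zpowers_eq_bot] using hl1)
    have hmap : (axisSet V t).map (MulAut.conj x).toMonoidHom = axisSet V t := by
      rw [← axisSet_map (MulAut.conj x) (map_conj_of_mem_normalizer (A.nV hx)), MulAut.conj_apply,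
        hct.eq, mul_inv_cancel_right]
    have hlp : l ^ p = 1 := S.elem.2 l (axis_le S ht.mem hl)
    exact (commute_of_small A.prime A.five hp3 hxq hlp (hzl ▸ hmap.le ⟨l, hl, rfl⟩)).eq.symm
  intro w hw
  exact (Subgroup.mem_centralizer_singleton_iff.mp
    (sup_le (hax a c.pair.ta hca) (hax b c.pair.tb hcb) hw)).symm

/-- The fixed diagonal component and the fixed diagonal plane over an orbit. -/
theorem exists_diagonal (S : Setup p V H K) (A : Acts q V H K X) (c : Core p V H K a b) :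
    ∃ (δ : ↥(Pair.E a b) →* G) (W' : Subgroup G),
      (∀ e, δ e ∈ H ∧ ∀ x ∈ X, x * δ e = δ e * x) ∧
      (W' ≤ V ∧ (∀ w ∈ W', ∀ x ∈ X, x * w = w * x) ∧ Nat.card W' = p ^ 2) ∧
      (∀ e, ∀ w ∈ W', δ e * w * (δ e)⁻¹ ∈ W') ∧
      (∀ e, (∀ w ∈ W', Commute (δ e) w) → e = 1) ∧
      ∀ e t : ↥(Pair.E a b), δ e * t * (δ e)⁻¹ = ((e * t * e⁻¹ : ↥(Pair.E a b)) : G) := by
  classical
  set E := Pair.E a b with hE
  set W := Pair.W V a b with hW
  let X0 : Subgroup X := (Subgroup.normalizer (E : Set G)).subgroupOf X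
  letI : Fintype (X ⧸ X0) := Fintype.ofFinite _
  let φ : X ⧸ X0 → G ≃* G := fun i => MulAut.conj ((i.out : X) : G)
  have hx : ∀ i : X ⧸ X0, ((i.out : X) : G) ∈ X := fun i => (i.out : X).2
  have hc : ∀ i, Core p V H K (φ i a) (φ i b) := fun i => core_map (φ i)
    (map_conj_of_mem_normalizer (A.nV (hx i))) (map_conj_of_mem_normalizer (A.nH (hx i)))
    (map_conj_of_mem_normalizer (A.nK (hx i))) c
  have hEi : ∀ i, Pair.E (φ i a) (φ i b) = E.map (φ i).toMonoidHom := fun i => by
    show _ = (Subgroup.closure {a, b}).map _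
    rw [MonoidHom.map_closure, Set.image_pair]; rfl
  have hWi : ∀ i, Pair.W V (φ i a) (φ i b) = W.map (φ i).toMonoidHom := fun i => by
    show axisSet V (φ i a) ⊔ axisSet V (φ i b) = (axisSet V a ⊔ axisSet V b).map _
    rw [Subgroup.map_sup, axisSet_map (φ i) (map_conj_of_mem_normalizer (A.nV (hx i))),
      axisSet_map (φ i) (map_conj_of_mem_normalizer (A.nV (hx i)))]
  -- changing the representative
  have hrep : ∀ (x : X) (i : X ⧸ X0), QuotientGroup.mk x = i →
      (∀ e ∈ E, (x : G) * e * (x : G)⁻¹ = φ i e) ∧ ∀ w ∈ W, (x : G) * w * (x : G)⁻¹ = φ i w := by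
    intro x i hi
    have hmem : (i.out : X)⁻¹ * x ∈ X0 := QuotientGroup.eq.mp
      ((QuotientGroup.out_eq' i).trans hi.symm)
    have hz : ((i.out : X) : G)⁻¹ * (x : G) ∈ Subgroup.normalizer (E : Set G) := hmem
    obtain ⟨h1, h2⟩ := stabilizer_centralizes S A c
      (X.mul_mem (X.inv_mem (hx i)) x.2) hz
    have key : ∀ y, Commute (((i.out : X) : G)⁻¹ * (x : G)) y →
        (x : G) * y * (x : G)⁻¹ = φ i y := by
      intro y hy
      have e : (x : G) = ((i.out : X) : G) * (((i.out : X) : G)⁻¹ * (x : G)) := by simp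
      conv_lhs => rw [e]
      rw [MulAut.conj_apply, mul_inv_rev]
      calc ((i.out : X) : G) * (((i.out : X) : G)⁻¹ * x) * y *
            ((((i.out : X) : G)⁻¹ * x)⁻¹ * ((i.out : X) : G)⁻¹)
          = ((i.out : X) : G) * ((((i.out : X) : G)⁻¹ * x) * y * (((i.out : X) : G)⁻¹ * x)⁻¹) *
              ((i.out : X) : G)⁻¹ := by simp [mul_assoc]
        _ = _ := by rw [hy.eq, mul_inv_cancel_right]
    exact ⟨fun e he => key e (h1 e he), fun w hw => key w (h2 w hw)⟩
  -- distinct members of the orbit are orthogonal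
  have horth : Pairwise fun i j => Pair.W V (φ j a) (φ j b) ≤ Pair.C V (φ i a) (φ i b) ∧
      Pair.W V (φ i a) (φ i b) ≤ Pair.C V (φ j a) (φ j b) := by
    intro i j hij
    refine ((hc i).eq_or_orth S (hc j)).resolve_left fun h => hij ?_
    rw [hEi, hEi] at h
    have hmem : (i.out : X)⁻¹ * j.out ∈ X0 := by
      show ((i.out : X) : G)⁻¹ * ((j.out : X) : G) ∈ Subgroup.normalizer (E : Set G)
      refine Subgroup.mem_normalizer_iff.mpr fun y => ?_
      have h2 := SetLike.ext_iff.mp h (φ j y)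
      simp only [Subgroup.mem_map_equiv, MulEquiv.symm_apply_apply] at h2
      rw [h2]
      simp [φ, MulAut.conj_symm_apply, MulAut.conj_apply, mul_assoc]
    have := QuotientGroup.eq.mpr hmem
    rwa [QuotientGroup.out_eq', QuotientGroup.out_eq'] at this
  let f : (i : X ⧸ X0) → ↥E →* G := fun i => (φ i).toMonoidHom.comp E.subtype
  let g : (i : X ⧸ X0) → ↥W →* G := fun i => (φ i).toMonoidHom.comp W.subtype
  have hfm : ∀ i e, f i e ∈ Pair.E (φ i a) (φ i b) := fun i e => by
    rw [hEi]; exact ⟨e, e.2, rfl⟩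
  have hgm : ∀ i w, g i w ∈ Pair.W V (φ i a) (φ i b) := fun i w => by
    rw [hWi]; exact ⟨w, w.2, rfl⟩
  have hgV : ∀ i w, g i w ∈ V := fun i w => (hc i).pair.W_le S (hgm i w)
  have hfcomm : Pairwise fun i j => ∀ x y, Commute (f i x) (f j y) := fun i j hij x y =>
    (hc i).orth_commute S (hc j) (horth hij) (hfm i x) (hfm j y)
  have hgcomm : Pairwise fun i j => ∀ x y, Commute (g i x) (g j y) := fun i j _ x y =>
    comm_V S (hgV i x) (hgV j y)
  let P := MonoidHom.noncommPiCoprod f hfcomm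
  let P' := MonoidHom.noncommPiCoprod g hgcomm
  let dia : ↥E →* (X ⧸ X0 → ↥E) := MonoidHom.pi fun _ => MonoidHom.id _
  let diaW : ↥W →* (X ⧸ X0 → ↥W) := MonoidHom.pi fun _ => MonoidHom.id _
  let δ : ↥E →* G := P.comp dia
  let δW : ↥W →* G := P'.comp diaW
  have hP : ∀ i e, P (Pi.mulSingle i e) = f i e := fun i e =>
    MonoidHom.noncommPiCoprod_mulSingle f i e
  have hP' : ∀ i w, P' (Pi.mulSingle i w) = g i w := fun i w =>
    MonoidHom.noncommPiCoprod_mulSingle g i w
  -- a product avoiding one index lies where the other factors lie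
  have hrest : ∀ (i : X ⧸ X0) (U : Subgroup G), (∀ j, j ≠ i → ∀ e, f j e ∈ U) →
      ∀ e, δ e * (f i e)⁻¹ ∈ U := by
    intro i U hU e
    have heq : δ e * (f i e)⁻¹ = P (dia e * Pi.mulSingle i e⁻¹) := by
      rw [map_mul, hP, map_inv]; rfl
    rw [heq, ← Subgroup.mem_comap]
    refine Subgroup.pi_mem_of_mulSingle_mem _ fun j => ?_
    rw [Subgroup.mem_comap, hP]
    rcases eq_or_ne j i with rfl | hj
    · simp [dia]
    · exact hU j hj _
  have hfix : ∀ i j, j ≠ i → ∀ (e : ↥E) (w : ↥W), Commute (f j e) (g i w) := fun i j hj e w =>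
    (hc j).pair.E_fix_C (hfm j e) ((horth hj).1 (hgm i w))
  have hact : ∀ i (e : ↥E) (w : ↥W), δ e * g i w * (δ e)⁻¹ =
      g i ⟨(e : G) * w * (e : G)⁻¹, c.pair.E_conj_W S e.2 w.2⟩ := by
    intro i e w
    set w' : ↥W := ⟨(e : G) * w * (e : G)⁻¹, c.pair.E_conj_W S e.2 w.2⟩
    have h1 : δ e * (f i e)⁻¹ ∈ Subgroup.centralizer {g i w'} := hrest i _ (fun j hj e' =>
      Subgroup.mem_centralizer_singleton_iff.mpr (hfix i j hj e' w').eq) e
    have h2 := Subgroup.mem_centralizer_singleton_iff.mp h1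
    have h3 : f i e * g i w * (f i e)⁻¹ = g i w' := by simp [f, g, w']
    calc δ e * g i w * (δ e)⁻¹
        = (δ e * (f i e)⁻¹) * (f i e * g i w * (f i e)⁻¹) * (δ e * (f i e)⁻¹)⁻¹ := by
          simp [mul_assoc]
      _ = g i w' := by rw [h3, h2, mul_inv_cancel_right]
  have hconjW : ∀ (e : ↥E) (w : ↥W), δ e * δW w * (δ e)⁻¹ =
      δW ⟨(e : G) * w * (e : G)⁻¹, c.pair.E_conj_W S e.2 w.2⟩ := by
    intro e w
    let cW : ↥W →* ↥W :=
      { toFun := fun w => ⟨(e : G) * w * (e : G)⁻¹, c.pair.E_conj_W S e.2 w.2⟩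
        map_one' := Subtype.ext (by simp)
        map_mul' := fun u v => Subtype.ext (by simp [mul_assoc]) }
    have hh : (MulAut.conj (δ e)).toMonoidHom.comp P' =
        P'.comp (MonoidHom.pi fun i => cW.comp (Pi.evalMonoidHom _ i)) := by
      refine MonoidHom.pi_ext fun i u => ?_
      simp only [MonoidHom.comp_apply, hP']
      rw [show (MonoidHom.pi fun j => cW.comp (Pi.evalMonoidHom _ j)) (Pi.mulSingle i u) =
        Pi.mulSingle i (cW u) from funext fun j => (Pi.apply_mulSingle (fun _ => cW)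
          (fun _ => map_one cW) i u j), hP']
      exact hact i e u
    exact DFunLike.congr_fun hh (diaW w)
  have hWinj : Function.Injective δW := by
    rw [← MonoidHom.ker_eq_bot_iff, eq_bot_iff]
    intro w hw
    have i : X ⧸ X0 := QuotientGroup.mk 1
    have heq : δW w * (g i w)⁻¹ = P' (diaW w * Pi.mulSingle i w⁻¹) := by
      rw [map_mul, hP', map_inv]; rfl
    have hC : δW w * (g i w)⁻¹ ∈ Pair.C V (φ i a) (φ i b) := by
      rw [heq, ← Subgroup.mem_comap]
      refine Subgroup.pi_mem_of_mulSingle_mem _ fun j => ?_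
      rw [Subgroup.mem_comap, hP']
      rcases eq_or_ne j i with rfl | hj
      · simp [diaW]
      · exact (horth hj).2 (hgm j _)
    rw [show δW w = 1 from hw, one_mul] at hC
    have h1 : g i w ∈ Pair.W V (φ i a) (φ i b) ⊓ Pair.C V (φ i a) (φ i b) :=
      ⟨hgm i w, by simpa using inv_mem hC⟩
    rw [(hc i).pair.inf_WC S, Subgroup.mem_bot] at h1
    rw [Subgroup.mem_bot]
    exact Subtype.ext ((φ i).injective (h1.trans (map_one (φ i)).symm))
  -- invariance under `X`
  have hinv : ∀ (Y : Subgroup G) (hY : ∀ i, ∀ y : X, ∀ z ∈ Y,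
      (y : G) * (φ i z) * (y : G)⁻¹ = φ (QuotientGroup.mk (y * i.out)) z)
      (Q : (X ⧸ X0 → ↥Y) →* G) (hQ : ∀ i z, Q (Pi.mulSingle i z) = φ i z)
      (z : ↥Y), ∀ y ∈ X, y * Q (fun _ => z) = Q (fun _ => z) * y := by
    intro Y hY Q hQ z y hy
    let σ : Equiv.Perm (X ⧸ X0) := MulAction.toPerm (⟨y, hy⟩ : X)
    let re : (X ⧸ X0 → ↥Y) →* (X ⧸ X0 → ↥Y) :=
      MonoidHom.pi fun j => Pi.evalMonoidHom (fun _ => ↥Y) (σ.symm j)
    have hh : (MulAut.conj y).toMonoidHom.comp Q = Q.comp re := by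
      refine MonoidHom.pi_ext fun i u => ?_
      rw [MonoidHom.comp_apply, MonoidHom.comp_apply, hQ]
      have : re (Pi.mulSingle i u) = Pi.mulSingle (σ i) u := funext fun j => by
        simp only [re, MonoidHom.pi_apply, Pi.evalMonoidHom_apply, Pi.mulSingle_apply,
          Equiv.symm_apply_eq]
      rw [this, hQ]
      have h' := hY i ⟨y, hy⟩ u u.2
      have hσ : (QuotientGroup.mk ((⟨y, hy⟩ : X) * i.out) : X ⧸ X0) = σ i := by
        show _ = (⟨y, hy⟩ : X) • i
        conv_rhs => rw [← QuotientGroup.out_eq' i]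
        rfl
      rw [hσ] at h'
      exact h'
    have h1 : y * Q (fun _ => z) * y⁻¹ = Q (fun _ => z) := DFunLike.congr_fun hh fun _ => z
    exact mul_inv_eq_iff_eq_mul.mp h1
  have hmove : ∀ (i : X ⧸ X0) (y : X), (y : G) * ((i.out : X) : G) = ((y * i.out : X) : G) := fun i y => rfl
  have hXE : ∀ i, ∀ y : X, ∀ z ∈ E, (y : G) * (φ i z) * (y : G)⁻¹ =
      φ (QuotientGroup.mk (y * i.out)) z := fun i y z hz => by
    rw [← (hrep (y * i.out) _ rfl).1 z hz, ← hmove]
    simp [φ, mul_assoc]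
  have hXW : ∀ i, ∀ y : X, ∀ z ∈ W, (y : G) * (φ i z) * (y : G)⁻¹ =
      φ (QuotientGroup.mk (y * i.out)) z := fun i y z hz => by
    rw [← (hrep (y * i.out) _ rfl).2 z hz, ← hmove]
    simp [φ, mul_assoc]
  refine ⟨δ, δW.range, fun e => ⟨?_, fun y hy => hinv E hXE P hP e y hy⟩, ⟨?_, ?_, ?_⟩, ?_, ?_, ?_⟩
  · show P (dia e) ∈ H
    rw [← Subgroup.mem_comap]
    refine Subgroup.pi_mem_of_mulSingle_mem _ fun j => ?_
    rw [Subgroup.mem_comap, hP]
    exact (hc j).pair.E_le (hfm j _)
  · rintro _ ⟨w, rfl⟩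
    show P' (diaW w) ∈ V
    rw [← Subgroup.mem_comap]
    refine Subgroup.pi_mem_of_mulSingle_mem _ fun j => ?_
    rw [Subgroup.mem_comap, hP']
    exact hgV j _
  · rintro _ ⟨w, rfl⟩ y hy
    exact hinv W hXW P' hP' w y hy
  · rw [← Nat.card_congr (MonoidHom.ofInjective hWinj).toEquiv, c.pair.card_W S]
  · rintro e _ ⟨w, rfl⟩
    rw [hconjW]
    exact ⟨_, rfl⟩
  · intro e he
    refine Subtype.ext (c.pair.faithful_W S e.2 fun w hw => ?_)
    have h1 := he _ ⟨⟨w, hw⟩, rfl⟩
    have h2 := hconjW e ⟨w, hw⟩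
    rw [h1.eq, mul_inv_cancel_right] at h2
    exact mul_inv_eq_iff_eq_mul.mp (congrArg Subtype.val (hWinj h2)).symm
  · intro e t
    set i : X ⧸ X0 := QuotientGroup.mk 1
    have hid : ∀ z ∈ E, φ i z = z := fun z hz => by
      rw [← (hrep 1 i rfl).1 z hz]; simp
    have hEi' : ∀ z : ↥E, f i z = (z : G) := fun z => hid z z.2
    have h1 := hrest i (Subgroup.centralizer {f i (e * t * e⁻¹)}) (fun j hj e' =>
      Subgroup.mem_centralizer_singleton_iff.mpr (hfcomm hj e' _).eq) e
    have h2 := Subgroup.mem_centralizer_singleton_iff.mp h1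
    calc δ e * t * (δ e)⁻¹
        = (δ e * (f i e)⁻¹) * (f i e * f i t * (f i e)⁻¹) * (δ e * (f i e)⁻¹)⁻¹ := by
          rw [hEi' t]; simp [mul_assoc]
      _ = f i (e * t * e⁻¹) := by
          rw [show f i e * f i t * (f i e)⁻¹ = f i (e * t * e⁻¹) by simp, h2, mul_inv_cancel_right]
      _ = _ := hEi' _

end CfsgLib.Offender.Orbit
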